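import Cfsg.Agent.Lib.Mathieu.SextetCheck
import Cfsg.Agent.Lib.Golay.SmallSets
import Cfsg.Agent.Lib.Golay.Trios

/-! The sextets as lists of masks; counting sextets and trios with a property. -/

set_option autoImplicit false
set_option maxRecDepth 100000

namespace CfsgLib.Mathieu

open Cfsg CfsgLib.Golay
open scoped Pointwise

/-- The set of tetrads of a list of masks. -/
def sextSet (l : List ℕ) : Finset (Finset GolayPt) := (l.map mset).toFinset

theorem sext_props {l : List ℕ} (hl : l ∈ sextList) :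
    l.length = 6 ∧ (∀ m ∈ l, pop m = 4 ∧ m < 16777216) ∧ (l.getD 0 0).testBit 23 = true ∧
    ∀ i < 6, ∀ j < 6, i ≠ j → mset (l.getD i 0) ∪ mset (l.getD j 0) ∈ octads := by
  have h := List.all_eq_true.1 sextList_ok l hl
  simp only [sextOK, Bool.and_eq_true, List.all_eq_true] at h
  obtain ⟨⟨⟨h1, h2⟩, h3⟩, h4⟩ := h
  refine ⟨Nat.eq_of_beq_eq_true h1, fun m hm =>
    ⟨Nat.eq_of_beq_eq_true (h2 m hm).1, Nat.lt_succ_of_le (Nat.le_of_ble_eq_true (h2 m hm).2)⟩,
    h3, fun i hi j hj hij => ?_⟩
  have := h4 i (List.mem_range.2 hi) j (List.mem_range.2 hj)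
  simp only [Bool.or_eq_true, Bool.and_eq_true] at this
  rcases this with e | ⟨e1, e2⟩
  · exact absurd (Nat.eq_of_beq_eq_true e) hij
  · rw [← mset_or]
    exact mem_octads_iff.2 ⟨_, mem_octList.2 ⟨e1, Nat.eq_of_beq_eq_true e2⟩, rfl⟩

theorem tetrad_disjoint {t u : Finset GolayPt} (ht : t.card = 4) (hu : u.card = 4)
    (h : t ∪ u ∈ octads) : Disjoint t u := by
  rw [← Finset.card_union_eq_card_add_card, ht, hu]
  exact h.2

theorem sextSet_mem {l : List ℕ} (hl : l ∈ sextList) :
    sextSet l ∈ sextets ∧ (l.map mset).Nodup := by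
  obtain ⟨h1, h2, -, h4⟩ := sext_props hl
  have hc : ∀ i < 6, (mset (l.getD i 0)).card = 4 := fun i hi => by
    rw [card_mset, List.getD_eq_getElem _ _ (h1 ▸ hi)]
    exact (h2 _ (List.getElem_mem _)).1
  have hnd : (l.map mset).Nodup := by
    rw [List.nodup_iff_injective_getElem]
    rintro ⟨i, hi⟩ ⟨j, hj⟩ e
    simp only [List.length_map] at hi hj
    simp only [List.getElem_map] at e
    by_contra hne
    have hij : i ≠ j := fun h => hne (Fin.ext h)
    rw [h1] at hi hj
    have hd := tetrad_disjoint (hc i hi) (hc j hj) (h4 i hi j hj hij)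
    rw [List.getD_eq_getElem _ _ (h1 ▸ hi), List.getD_eq_getElem _ _ (h1 ▸ hj), e,
      disjoint_self, Finset.bot_eq_empty] at hd
    have := hc j hj
    rw [List.getD_eq_getElem _ _ (h1 ▸ hj), hd] at this
    simp at this
  refine ⟨⟨?_, ?_, ?_⟩, hnd⟩
  · rw [sextSet, List.toFinset_card_of_nodup hnd, List.length_map, h1]
  · intro t ht
    simp only [sextSet, List.mem_toFinset, List.mem_map] at ht
    obtain ⟨m, hm, rfl⟩ := ht
    rw [card_mset]; exact (h2 m hm).1
  · intro t ht u hu hne
    simp only [sextSet, List.mem_toFinset, List.mem_map] at ht hu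
    obtain ⟨a, ha, rfl⟩ := ht
    obtain ⟨b, hb, rfl⟩ := hu
    obtain ⟨i, hi, rfl⟩ := List.getElem_of_mem ha
    obtain ⟨j, hj, rfl⟩ := List.getElem_of_mem hb
    have := h4 i (h1 ▸ hi) j (h1 ▸ hj) (fun e => hne (by subst e; rfl))
    rwa [List.getD_eq_getElem _ _ hi, List.getD_eq_getElem _ _ hj] at this

theorem sextet_cover {S : Finset (Finset GolayPt)} (hS : S ∈ sextets) (p : GolayPt) :
    ∃ t ∈ S, p ∈ t := by
  have hd : (S : Set (Finset GolayPt)).PairwiseDisjoint id := fun t ht u hu hne =>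
    tetrad_disjoint (hS.2.1 t ht) (hS.2.1 u hu) (hS.2.2 t ht u hu hne)
  have hc : (S.biUnion id).card = 24 := by
    have e : ∀ t ∈ S, (id t : Finset GolayPt).card = 4 := fun t ht => hS.2.1 t ht
    rw [Finset.card_biUnion hd, Finset.sum_congr rfl e, Finset.sum_const, hS.1]; rfl
  have : S.biUnion id = Finset.univ := Finset.eq_univ_of_card _ (by rw [hc]; simp)
  have hp : p ∈ S.biUnion id := this ▸ Finset.mem_univ p
  simpa using hp

/-- Two sextets with a common tetrad are equal. -/
theorem sextet_eq {S S' : Finset (Finset GolayPt)} (hS : S ∈ sextets) (hS' : S' ∈ sextets)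
    {t : Finset GolayPt} (ht : t ∈ S) (ht' : t ∈ S') : S = S' := by
  refine Finset.eq_of_subset_of_card_le (fun u hu => ?_) (by rw [hS.1, hS'.1])
  by_cases hut : u = t
  · rwa [hut]
  have h4 := hS.2.1 t ht
  have hu4 := hS.2.1 u hu
  obtain ⟨p, hp⟩ := Finset.card_pos.1 (show 0 < u.card by omega)
  obtain ⟨v, hv, hpv⟩ := sextet_cover hS' p
  have ho := hS.2.2 t ht u hu (Ne.symm hut)
  have hd := tetrad_disjoint h4 hu4 ho
  have hvt : t ≠ v := fun e => Finset.disjoint_left.1 hd (e ▸ hpv) hp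
  have ho' := hS'.2.2 t ht' v hv hvt
  have hd' := tetrad_disjoint h4 (hS'.2.1 v hv) ho'
  have e : t ∪ u = t ∪ v := by
    refine octads_eq_of_five ho ho' ?_
    have hsub : insert p t ⊆ (t ∪ u) ∩ (t ∪ v) :=
      Finset.insert_subset (by simp [hp, hpv]) (by simp [Finset.subset_inter_iff])
    have := Finset.card_le_card hsub
    rw [Finset.card_insert_of_notMem (Finset.disjoint_right.1 hd hp), h4] at this
    omega
  have : u = v := by
    have := congrArg (· \ t) e
    simpa [Finset.union_sdiff_left, hd.symm.sdiff_eq_left, hd'.symm.sdiff_eq_left] using this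
  rwa [this]

theorem sextet_exists {S : Finset (Finset GolayPt)} (hS : S ∈ sextets) :
    ∃ l ∈ sextList, sextSet l = S := by
  obtain ⟨t, ht, hp⟩ := sextet_cover hS (pt 23)
  obtain ⟨m, hm, rfl⟩ := exists_mset t
  have hb : m.testBit 23 = true := by
    have := mem_mset.1 hp; rwa [idx_pt (by norm_num)] at this
  have h4 : pop m = 4 := by rw [← card_mset]; exact hS.2.1 _ ht
  have hlow : m - 2 ^ 23 < 2 ^ 23 := by
    have e : (2 : ℕ) ^ 23 = 8388608 := by norm_num
    rw [e]; omega
  have hge : 2 ^ 23 ≤ m := Nat.ge_two_pow_of_testBit hb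
  have hmem : m ∈ (ksub 23 3).map (Nat.add 8388608) := by
    refine List.mem_map.2 ⟨m - 2 ^ 23, mem_ksub_of hlow ?_, ?_⟩
    · have := popAux_top hlow
      rw [Nat.add_sub_cancel' hge, ← pop_eq, h4] at this
      omega
    · rw [Nat.add_eq, show (8388608 : ℕ) = 2 ^ 23 by norm_num]
      exact Nat.add_sub_cancel' hge
  rw [← sextList_heads, List.mem_map] at hmem
  obtain ⟨l, hl, rfl⟩ := hmem
  obtain ⟨h1, -, -, -⟩ := sext_props hl
  refine ⟨l, hl, sextet_eq (sextSet_mem hl).1 hS ?_ ht⟩
  simp only [sextSet, List.mem_toFinset, List.mem_map]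
  exact ⟨_, by rw [List.getD_eq_getElem _ _ (by omega)]; exact List.getElem_mem _, rfl⟩

theorem sextList_nodup : sextList.Nodup := by
  refine List.Nodup.of_map (fun l => l.getD 0 0) ?_
  rw [sextList_heads]
  exact (ksub_nodup 23 3).map fun a b h => Nat.add_left_cancel h

theorem sextSet_injOn : Set.InjOn sextSet {l | l ∈ sextList} := by
  intro a ha b hb h
  obtain ⟨a1, a2, a3, -⟩ := sext_props ha
  obtain ⟨b1, b2, b3, -⟩ := sext_props hb
  refine List.inj_on_of_nodup_map (f := fun l : List ℕ => l.getD 0 0) ?_ ha hb ?_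
  · rw [sextList_heads]; exact (ksub_nodup 23 3).map fun a b h => Nat.add_left_cancel h
  show a.getD 0 0 = b.getD 0 0
  have ma : a.getD 0 0 ∈ a := by
    rw [List.getD_eq_getElem _ _ (show 0 < a.length by omega)]; exact List.getElem_mem _
  have : mset (a.getD 0 0) ∈ sextSet b := by
    rw [← h]; simp only [sextSet, List.mem_toFinset, List.mem_map]; exact ⟨_, ma, rfl⟩
  simp only [sextSet, List.mem_toFinset, List.mem_map] at this
  obtain ⟨c, hc, hce⟩ := this
  have hca := mset_inj (b2 c hc).2 (a2 _ ma).2 hce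
  obtain ⟨i, hi, rfl⟩ := List.getElem_of_mem hc
  rcases Nat.eq_zero_or_pos i with rfl | hi0
  · rw [← hca, List.getD_eq_getElem _ _ (show 0 < b.length by omega)]
  exfalso
  have hd := tetrad_disjoint (by rw [card_mset]; exact (b2 _ (List.getElem_mem (show 0 < b.length by omega))).1)
    (by rw [card_mset]; exact (b2 _ (List.getElem_mem hi)).1)
    (by
      have := (sext_props hb).2.2.2 0 (by omega) i (b1 ▸ hi) (by omega)
      rwa [List.getD_eq_getElem _ _ (show 0 < b.length by omega),
        List.getD_eq_getElem _ _ hi] at this)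
  have h23 : pt 23 ∈ mset b[0] := by
    rw [mem_mset, idx_pt (by norm_num)]
    rwa [List.getD_eq_getElem _ _ (show 0 < b.length by omega)] at b3
  refine Finset.disjoint_left.1 hd h23 ?_
  rw [hca, mem_mset, idx_pt (by norm_num)]; exact a3

theorem sextets_ncard_filter {P : Finset (Finset GolayPt) → Prop} {pb : List ℕ → Bool}
    (hP : ∀ l ∈ sextList, (P (sextSet l) ↔ pb l = true)) :
    {S : Finset (Finset GolayPt) | S ∈ sextets ∧ P S}.ncard = (sextList.filter pb).length := by
  classical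
  have e : {S : Finset (Finset GolayPt) | S ∈ sextets ∧ P S} =
      sextSet '' {l | l ∈ sextList.filter pb} := by
    ext S
    simp only [Set.mem_setOf_eq, Set.mem_image, List.mem_filter]
    constructor
    · rintro ⟨hS, hp⟩
      obtain ⟨l, hl, rfl⟩ := sextet_exists hS
      exact ⟨l, ⟨hl, (hP l hl).1 hp⟩, rfl⟩
    · rintro ⟨l, ⟨hl, hp⟩, rfl⟩
      exact ⟨(sextSet_mem hl).1, (hP l hl).2 hp⟩
  have hi : Set.InjOn sextSet {l | l ∈ sextList.filter pb} :=
    sextSet_injOn.mono fun l hl => (List.mem_filter.1 hl).1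
  rw [e, hi.ncard_image,
    show {l : List ℕ | l ∈ sextList.filter pb} = ↑(sextList.filter pb).toFinset by ext; simp,
    Set.ncard_coe_finset, List.toFinset_card_of_nodup (sextList_nodup.filter _)]

theorem trios_ncard_filter {P : Finset (Finset GolayPt) → Prop} {pb : ℕ × ℕ → Bool}
    (hP : ∀ p ∈ trioPairs, (P (trioSet p) ↔ pb p = true)) :
    {T : Finset (Finset GolayPt) | T ∈ trios ∧ P T}.ncard = (trioPairs.filter pb).length := by
  classical
  have e : {T : Finset (Finset GolayPt) | T ∈ trios ∧ P T} =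
      trioSet '' {p | p ∈ trioPairs.filter pb} := by
    ext T
    simp only [Set.mem_setOf_eq, Set.mem_image, List.mem_filter]
    constructor
    · rintro ⟨hT, hp⟩
      obtain ⟨q, hq, rfl⟩ := trio_exists hT
      exact ⟨q, ⟨hq, (hP q hq).1 hp⟩, rfl⟩
    · rintro ⟨q, ⟨hq, hp⟩, rfl⟩
      exact ⟨trioSet_mem hq, (hP q hq).2 hp⟩
  have hi : Set.InjOn trioSet {q | q ∈ trioPairs.filter pb} :=
    trioSet_injOn.mono fun l hl => (List.mem_filter.1 hl).1
  rw [e, hi.ncard_image,
    show {l : ℕ × ℕ | l ∈ trioPairs.filter pb} = ↑(trioPairs.filter pb).toFinset by ext; simp,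
    Set.ncard_coe_finset, List.toFinset_card_of_nodup (trioPairs_nodup.filter _)]

/-- The encoded permutation keeps the list of masks. -/
def keepsB (g : ℕ) (l : List ℕ) : Bool := l.all fun m => l.any fun n => Nat.beq (mimg g m) n

theorem keeps_iff {g : ℕ} (hg : valid g = true) {l : List ℕ} (hl : ∀ m ∈ l, m < 16777216) :
    permOf g • sextSet l = sextSet l ↔ keepsB g l = true := by
  simp only [keepsB, List.all_eq_true, List.any_eq_true, Nat.beq_eq]
  constructor
  · intro h m hm
    have : permOf g • mset m ∈ sextSet l := by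
      rw [← h]; exact Finset.smul_mem_smul_finset (by simp [sextSet]; exact ⟨m, hm, rfl⟩)
    simp only [sextSet, List.mem_toFinset, List.mem_map] at this
    obtain ⟨n, hn, e⟩ := this
    rw [smul_mset hg] at e
    exact ⟨n, hn, (mset_inj (hl n hn) (mimg_lt hg m) e).symm⟩
  · intro h
    refine Finset.eq_of_subset_of_card_le ?_ (le_of_eq (Finset.card_smul_finset _ _).symm)
    intro x hx
    rw [Finset.mem_smul_finset] at hx
    obtain ⟨y, hy, rfl⟩ := hx
    simp only [sextSet, List.mem_toFinset, List.mem_map] at hy ⊢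
    obtain ⟨m, hm, rfl⟩ := hy
    obtain ⟨n, hn, e⟩ := h m hm
    exact ⟨n, hn, by rw [smul_mset hg, e]⟩

theorem trioSet_eq (p : ℕ × ℕ) : trioSet p = sextSet [p.1, p.2, third p.1 p.2] := by
  simp [trioSet, sextSet]

end CfsgLib.Mathieu
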