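import Cfsg.Agent.Lib.Mathieu.OrbitCert
import Cfsg.Agent.Lib.Mathieu.OrbitData

/-! Orbits of the stabilisers of octads, sextets, trios and dodecad pairs on one another. -/

set_option autoImplicit false
set_option maxRecDepth 100000
set_option maxHeartbeats 1000000

namespace CfsgLib.Mathieu

open Cfsg CfsgLib.Golay
open scoped Pointwise

/-- `M24` is transitive on sets of at most five points of a given size. -/
theorem set_move {k : ℕ} (hk : k ≤ 5) {t t' : Finset GolayPt} (ht : t.card = k) (ht' : t'.card = k) :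
    ∃ g : M24, g • t = t' := by
  haveI := M24_isMultiplyPretransitive
  haveI := MulAction.isMultiplyPretransitive_of_le (G := M24) (α := GolayPt) (m := k) (n := 5)
    hk (by simp)
  let e : Fin k ↪ GolayPt :=
    (t.equivFinOfCardEq ht).symm.toEmbedding.trans (Function.Embedding.subtype _)
  let e' : Fin k ↪ GolayPt :=
    (t'.equivFinOfCardEq ht').symm.toEmbedding.trans (Function.Embedding.subtype _)
  obtain ⟨g, hg⟩ := MulAction.exists_smul_eq M24 e e'
  refine ⟨g, Finset.eq_of_subset_of_card_le (fun x hx => ?_)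
    (by rw [Finset.card_smul_finset, ht, ht'])⟩
  obtain ⟨y, hy, rfl⟩ := Finset.mem_smul_finset.1 hx
  have h1 : e (t.equivFinOfCardEq ht ⟨y, hy⟩) = y := by simp [e]
  rw [← h1, ← Function.Embedding.smul_apply, hg]
  exact ((t'.equivFinOfCardEq ht').symm _).2

theorem sextet_move {S S' : Finset (Finset GolayPt)} (hS : S ∈ sextets) (hS' : S' ∈ sextets) :
    ∃ g : M24, g • S = S' := by
  obtain ⟨t, ht⟩ := Finset.card_pos.1 (show 0 < S.card by rw [hS.1]; norm_num)
  obtain ⟨t', ht'⟩ := Finset.card_pos.1 (show 0 < S'.card by rw [hS'.1]; norm_num)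
  obtain ⟨g, hg⟩ := set_move (k := 4) (by norm_num) (hS.2.1 t ht) (hS'.2.1 t' ht')
  exact ⟨g, sextet_eq (smul_sextet g.2 hS) hS' (hg ▸ Finset.smul_mem_smul_finset ht) ht'⟩

theorem trio_eq_pair {T T' : Finset (Finset GolayPt)} (hT : T ∈ trios) (hT' : T' ∈ trios)
    {a b : Finset GolayPt} (ha : a ∈ T) (hb : b ∈ T) (ha' : a ∈ T') (hb' : b ∈ T') (hne : a ≠ b) :
    T = T' := by
  have third : ∀ {U : Finset (Finset GolayPt)}, U ∈ trios → a ∈ U → b ∈ U → ∀ x ∈ U,
      x = a ∨ x = b ∨ x = (a ∪ b)ᶜ := by
    intro U hU h1 h2 x hx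
    by_cases hxa : x = a
    · exact Or.inl hxa
    by_cases hxb : x = b
    · exact Or.inr (Or.inl hxb)
    refine Or.inr (Or.inr (Finset.eq_of_subset_of_card_le (fun p hp => ?_) ?_))
    · rw [Finset.mem_compl, Finset.mem_union]
      rintro (h | h)
      · exact Finset.disjoint_left.1 (hU.2.2 x hx a h1 hxa) hp h
      · exact Finset.disjoint_left.1 (hU.2.2 x hx b h2 hxb) hp h
    · rw [Finset.card_compl, Finset.card_union_of_disjoint (hU.2.2 a h1 b h2 hne),
        (hU.2.1 a h1).2, (hU.2.1 b h2).2, (hU.2.1 x hx).2]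
      simp
  refine Finset.eq_of_subset_of_card_le (fun x hx => ?_) (by rw [hT.1, hT'.1])
  rcases third hT ha hb x hx with rfl | rfl | h
  · exact ha'
  · exact hb'
  · obtain ⟨y, hy, hya, hyb⟩ : ∃ y ∈ T', y ≠ a ∧ y ≠ b := by
      obtain ⟨y, hy⟩ := Finset.card_pos.1 (show 0 < ((T'.erase a).erase b).card by
        have h1 := Finset.card_erase_of_mem ha'
        have h2 : b ∈ T'.erase a := Finset.mem_erase.2 ⟨Ne.symm hne, hb'⟩
        rw [Finset.card_erase_of_mem h2, h1, hT'.1]
        norm_num)
      simp only [Finset.mem_erase] at hy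
      exact ⟨y, hy.2.2, hy.2.1, hy.1⟩
    rcases third hT' ha' hb' y hy with e | e | e
    · exact absurd e hya
    · exact absurd e hyb
    · rw [h, ← e]; exact hy

theorem trio_move {T : Finset (Finset GolayPt)} (hT : T ∈ trios) :
    ∃ g : M24, g • sextSet [1302533, 6295992, 9178690] = T := by
  have hS : sextSet [1302533, 6295992, 9178690] ∈ trios := by
    have : [1302533, 6295992, 9178690] ∈ trioLit.map trioList := by decide +kernel
    exact trios_listing.mem _ this
  obtain ⟨a, b, c, hab, -, -, rfl⟩ := Finset.card_eq_three.1 hT.1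
  have ha := hT.2.1 a (by simp)
  have hb := hT.2.1 b (by simp)
  have h0 : (a ∩ b).card = 0 := by
    rw [Finset.card_eq_zero, ← Finset.disjoint_iff_inter_eq_empty]
    exact hT.2.2 a (by simp) b (by simp) hab
  obtain ⟨u, hu⟩ : ∃ u : ℕ, u ∈ octList ∧ Nat.beq (pop (Nat.land octMask u)) 0 = true ∧
      sextSet [octMask, u, third octMask u] ∈ trios := by
    refine ⟨1613974, oct_of_check (by decide +kernel), by decide +kernel, ?_⟩
    rw [show sextSet [octMask, 1613974, third octMask 1613974] =
      sextSet [1613974, 2101096, 13062145] from sameB_spec (by decide +kernel)]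
    have : [1613974, 2101096, 13062145] ∈ trioLit.map trioList := by decide +kernel
    exact trios_listing.mem _ this
  obtain ⟨hu1, hu2, hu3⟩ := hu
  obtain ⟨g, h1, h2⟩ := pair_move ha hb hu1
    (by rw [h0, inter_card_mset]; exact Nat.eq_of_beq_eq_true hu2)
  obtain ⟨k, k1, k2⟩ := pair_move (o := mset 1302533) (o' := mset 6295992)
    (hS.2.1 _ (by simp [sextSet])) (hS.2.1 _ (by simp [sextSet])) hu1
    (by rw [inter_card_mset, inter_card_mset, Nat.eq_of_beq_eq_true hu2]; decide +kernel)
  have m1 : mset octMask ∈ sextSet [octMask, u, third octMask u] := by simp [sextSet]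
  have m2 : mset u ∈ sextSet [octMask, u, third octMask u] := by simp [sextSet]
  have hne : mset 1302533 ≠ mset 6295992 := fun e =>
    absurd (mset_inj (by norm_num) (by norm_num) e) (by norm_num)
  have e0 : k • sextSet [octMask, u, third octMask u] = sextSet [1302533, 6295992, 9178690] :=
    trio_eq_pair (smul_trio k.2 hu3) hS (k1 ▸ Finset.smul_mem_smul_finset m1)
      (k2 ▸ Finset.smul_mem_smul_finset m2) (by simp [sextSet]) (by simp [sextSet]) hne
  have e1 : g • sextSet [octMask, u, third octMask u] = {a, b, c} :=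
    trio_eq_pair (smul_trio g.2 hu3) hT (h1 ▸ Finset.smul_mem_smul_finset m1)
      (h2 ▸ Finset.smul_mem_smul_finset m2) (by simp) (by simp) hab
  exact ⟨g * k⁻¹, by rw [mul_smul, ← e0, inv_smul_smul, e1]⟩

theorem orbits_transport {A : Set (Finset (Finset GolayPt))} {L : List (List ℕ)}
    (hA : Listing A L) {FL G : List ℕ} {reps : List (List ℕ)} {C sizes : List ℕ}
    (h : orbCertB L FL G reps C sizes = true) (c : M24) {F : Finset (Finset GolayPt)}
    (hF : c • sextSet FL = F) :
    (∀ i < reps.length, c • sextSet (reps.getD i []) ∈ A ∧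
      (MulAction.orbit ↥(MulAction.stabilizer M24 F)
        (c • sextSet (reps.getD i []))).ncard = sizes.getD i 0) ∧
    A = {X | ∃ i < reps.length,
      X ∈ MulAction.orbit ↥(MulAction.stabilizer M24 F) (c • sextSet (reps.getD i []))} := by
  obtain ⟨h1, h2⟩ := orbit_facts hA h
  subst hF
  refine ⟨fun i hi => ⟨hA.smul c _ (h1 i hi).1, ?_⟩, ?_⟩
  · rw [orbit_stab_smul, Set.ncard_image_of_injective _ (MulAction.injective c)]
    exact (h1 i hi).2
  · ext X
    have hx : X ∈ A ↔ c⁻¹ • X ∈ A := by
      refine ⟨hA.smul c⁻¹ X, fun hh => ?_⟩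
      rw [← smul_inv_smul c X]; exact hA.smul c _ hh
    rw [hx]
    conv_lhs => rw [h2]
    simp only [Set.mem_ofPred_eq, orbit_stab_smul, Set.mem_image]
    refine exists_congr fun i => and_congr_right fun _ => ?_
    exact ⟨fun hh => ⟨_, hh, smul_inv_smul c X⟩, by rintro ⟨Y, hY, rfl⟩; rwa [inv_smul_smul]⟩

theorem octads_transport {FL G : List ℕ} {reps : List (List ℕ)} {C sizes : List ℕ}
    (h : orbCertB (octLit.map fun m => [m]) FL G reps C sizes = true) (c : M24)
    {F : Finset (Finset GolayPt)} (hF : c • sextSet FL = F) {ms : List ℕ}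
    (hms : reps = ms.map fun m => [m]) :
    (∀ i < ms.length, c • mset (ms.getD i 0) ∈ octads ∧
      (MulAction.orbit ↥(MulAction.stabilizer M24 F) (c • mset (ms.getD i 0))).ncard =
        sizes.getD i 0) ∧
    octads = {X | ∃ i < ms.length,
      X ∈ MulAction.orbit ↥(MulAction.stabilizer M24 F) (c • mset (ms.getD i 0))} := by
  obtain ⟨h1, h2⟩ := orbits_transport octads_listing h c hF
  subst hms
  rw [List.length_map] at h1 h2
  have e : ∀ i < ms.length, c • sextSet ((ms.map fun m => [m]).getD i []) =
      ({c • mset (ms.getD i 0)} : Finset (Finset GolayPt)) := fun i hi => by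
    rw [List.getD_eq_getElem _ _ (by simpa using hi), List.getElem_map,
      List.getD_eq_getElem _ _ hi]
    simp [sextSet, Finset.smul_finset_singleton]
  refine ⟨fun i hi => ?_, ?_⟩
  · obtain ⟨a, b⟩ := h1 i hi
    rw [e i hi] at a b
    obtain ⟨o, ho, e'⟩ := a
    rw [orbit_singleton, Set.ncard_image_of_injective _ Finset.singleton_injective] at b
    exact ⟨Finset.singleton_injective e' ▸ ho, b⟩
  · ext o
    have : o ∈ octads ↔ ({o} : Finset (Finset GolayPt)) ∈
        (fun o : Finset GolayPt => ({o} : Finset (Finset GolayPt))) '' octads :=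
      (Finset.singleton_injective.mem_set_image).symm
    rw [this, h2]
    simp only [Set.mem_ofPred_eq]
    refine exists_congr fun i => and_congr_right fun hi => ?_
    rw [e i hi, orbit_singleton, Finset.singleton_injective.mem_set_image]

theorem oT_ok : orbCertB (trioLit.map trioList) [13062145] oTGens oTReps oTCert [15, 420, 3360] =
    true := by decide +kernel

theorem oS_ok : orbCertB sextList [13062145] oSGens oSReps oSCert [35, 840, 896] = true := by
  decide +kernel

theorem sO_ok : orbCertB (octLit.map fun m => [m])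
    [8388615, 147496, 268544, 1082880, 2621632, 4268048] sOGens sOReps sOCert [15, 360, 384] =
    true := by decide +kernel

theorem sT_ok : orbCertB (trioLit.map trioList)
    [8388615, 147496, 268544, 1082880, 2621632, 4268048] sTGens sTReps sTCert
    [15, 180, 720, 2880] = true := by decide +kernel

theorem tO_ok : orbCertB (octLit.map fun m => [m]) [1302533, 6295992, 9178690] tOGens tOReps tOCert
    [3, 84, 672] = true := by decide +kernel

theorem tS_ok : orbCertB sextList [1302533, 6295992, 9178690] tSGens tSReps tSCert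
    [7, 84, 336, 1344] = true := by decide +kernel

theorem dS_ok : orbCertB sextList [340831, 16436384] dSGens dSReps dSCert [396, 495, 880] =
    true := by decide +kernel

end CfsgLib.Mathieu
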