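import Mathlib.Data.ZMod.Basic
import Mathlib.LinearAlgebra.Matrix.Notation
import Mathlib.Data.Fintype.Pi
import Mathlib.Algebra.BigOperators.Fin

/-! Five by five matrices over the field with two elements as 25-bit numbers. -/

set_option autoImplicit false

namespace CfsgLib.Mathieu

/-- A bit as a residue. -/
def b2z (b : Bool) : ZMod 2 := cond b 1 0

theorem b2z_xor (a b : Bool) : b2z (a ^^ b) = b2z a + b2z b := by
  cases a <;> cases b <;> decide

theorem b2z_and (a b : Bool) : b2z (a && b) = b2z a * b2z b := by
  cases a <;> cases b <;> decide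

/-- The matrix with row `i` in bits `5 i` to `5 i + 4`. -/
def bitMat (n : ℕ) : Matrix (Fin 5) (Fin 5) (ZMod 2) :=
  fun i j => b2z (n.testBit (5 * i.val + j.val))

/-- An entry of the product. -/
def bitEntry (a b i j : ℕ) : Bool :=
  (a.testBit (5 * i) && b.testBit j) ^^ (a.testBit (5 * i + 1) && b.testBit (5 + j)) ^^
    (a.testBit (5 * i + 2) && b.testBit (10 + j)) ^^ (a.testBit (5 * i + 3) && b.testBit (15 + j)) ^^
    (a.testBit (5 * i + 4) && b.testBit (20 + j))

/-- `c` encodes the product of `a` and `b`. -/
def bitMulOK (a b c : ℕ) : Bool :=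
  (List.range 5).all fun i => (List.range 5).all fun j => c.testBit (5 * i + j) == bitEntry a b i j

theorem bitMulOK_sound {a b c : ℕ} (h : bitMulOK a b c = true) :
    bitMat a * bitMat b = bitMat c := by
  simp only [bitMulOK, List.all_eq_true, List.mem_range, beq_iff_eq] at h
  ext i j
  rw [Matrix.mul_apply, Fin.sum_univ_five]
  simp only [bitMat]
  rw [h i i.2 j j.2, bitEntry, b2z_xor, b2z_xor, b2z_xor, b2z_xor, b2z_and, b2z_and, b2z_and,
    b2z_and, b2z_and]
  simp

/-- The identity. -/
def bitOne : ℕ := 17043521

theorem bitMat_one : bitMat bitOne = 1 := by decide +kernel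

theorem bitMat_inj_check {a b : ℕ} (h : bitMat a = bitMat b) :
    ((List.range 25).all fun k => a.testBit k == b.testBit k) = true := by
  simp only [List.all_eq_true, List.mem_range, beq_iff_eq]
  intro k hk
  have hb : ∀ x y : Bool, b2z x = b2z y → x = y := fun x y e => by
    cases x <;> cases y <;> first | rfl | exact absurd e (by decide)
  have := congrFun (congrFun h ⟨k / 5, by omega⟩) ⟨k % 5, Nat.mod_lt _ (by norm_num)⟩
  simp only [bitMat, Nat.div_add_mod] at this
  exact hb _ _ this

end CfsgLib.Mathieu
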