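import Cfsg.Agent.Lib.Mathieu.Comm

/-! Generated: data for the normaliser of a subgroup of order seven. -/

set_option autoImplicit false
set_option maxRecDepth 100000

namespace CfsgLib.Mathieu

/-- An element squaring `sSeven` by conjugation. -/
def nSeven : ℕ := 16353138533903718134256145500528162

/-- The pairs of a would-be inverter. -/
def invSevenPairs : List (ℕ × ℕ) := [(29389929728375045353329577263926337, 236560699333062346236316355198518295), (70759155640660579226022181457806434, 735043772789636548451858672425927397), (112093525763329232214596946019194403, 153589072895560958107921889509792945), (153589072895560958107921889509792945, 112093525763329232214596946019194403), (735043772789636548451858672425927397, 70759155640660579226022181457806434),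 (236560699333062346236316355198518295, 29389929728375045353329577263926337)]

/-- The moved base point. -/
def invSevenBase : ℕ := 0

/-- Refutations of an inverter. -/
def invSevenRefs : List Ref := [(4, [[(1, 13, 6)], [(1, 12, 6)], [(1, 11, 6)], [(1, 10, 6)], [(0, 13, 11), (0, 0, 9), (0, 0, 9), (0, 0, 9), (0, 0, 9), (0, 0, 9), (0, 0, 8)], [(1, 8, 6)], [(0, 13, 11), (0, 0, 9), (0, 0, 9), (0, 0, 9), (0, 0, 9), (0, 0, 9), (0, 0, 8)], [(0, 13, 11), (0, 0, 9), (0, 0, 9), (0, 0, 9), (0, 0, 9), (0, 0, 9), (0, 0, 8)], [(0, 13, 11), (0, 0, 9), (0, 0, 9), (0, 0, 9), (0, 0, 9), (0, 0, 9), (0, 0, 8)], [(0, 13, 11), (0, 0, 9), (0, 0, 9), (0, 0, 9), (0, 0, 9), (0, 0, 9), (0, 0, 8)], [(0, 13, 11), (0, 0, 9), (0, 0, 9), (0, 0, 9), (0, 0, 9), (0, 0, 9), (0, 0, 8)], [(0,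 13, 11), (0, 0, 9), (0, 0, 9), (0, 0, 9), (0, 0, 9), (0, 0, 9), (0, 0, 8)], [(1, 6, 5)], [(0, 13, 11), (0, 0, 9), (0, 0, 9), (0, 0, 9), (0, 0, 9), (0, 0, 9), (0, 0, 8)], [(2, 14, 13), (2, 0, 13), (2, 0, 13), (2, 0, 13), (2, 0, 13), (2, 0, 13), (2, 0, 13), (2, 0, 13)], [(0, 13, 11), (0, 0, 9), (0, 0, 9), (0, 0, 9), (0, 0, 9), (0, 0, 9), (0, 0, 8)], [(0, 13, 11), (0, 0, 9), (0, 0, 9), (0, 0, 9), (0, 0, 9), (0, 0, 9), (0, 0, 8)], [(1, 9, 6)], [(0, 13, 11), (0, 0, 9), (0, 0, 9), (0, 0, 9), (0, 0, 9), (0, 0, 9), (0, 0, 8)], [(0, 13, 11), (0, 0, 9), (0, 0, 9), (0, 0, 9), (0, 0, 9), (0, 0, 9), (0, 0, 8)], [(0, 13, 11), (0, 0, 9), (0, 0, 9), (0, 0, 9), (0, 0, 9), (0, 0, 9), (0, 0, 8)], [(0, 13, 11), (0, 0, 9), (0, 0, 9), (0, 0, 9), (0, 0, 9), (0, 0, 9), (0, 0,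 8)], [(1, 6, 5)], [(1, 7, 6)]]),
  (4, [[(1, 7, 6)], [(1, 13, 6)], [(1, 12, 6)], [(1, 11, 6)], [(0, 13, 11), (0, 0, 9), (0, 0, 9), (0, 0, 9), (0, 0, 9), (0, 0, 9), (0, 0, 8)], [(1, 9, 6)], [(0, 13, 11), (0, 0, 9), (0, 0, 9), (0, 0, 9), (0, 0, 9), (0, 0, 9), (0, 0, 8)], [(0, 13, 11), (0, 0, 9), (0, 0, 9), (0, 0, 9), (0, 0, 9), (0, 0, 9), (0, 0, 8)], [(0, 13, 11), (0, 0, 9), (0, 0, 9), (0, 0, 9), (0, 0, 9), (0, 0, 9), (0, 0, 8)], [(0, 13, 11), (0, 0, 9), (0, 0, 9), (0, 0, 9), (0, 0, 9), (0, 0, 9), (0, 0, 8)], [(0, 13, 11), (0, 0, 9), (0, 0, 9), (0, 0, 9), (0, 0, 9), (0, 0, 9), (0, 0, 8)], [(0, 13, 11), (0, 0, 9), (0, 0, 9), (0, 0, 9), (0, 0, 9), (0, 0, 9), (0, 0, 8)], [(1, 6, 5)], [(0, 13, 11), (0, 0, 9), (0, 0, 9), (0, 0, 9), (0, 0, 9), (0, 0, 9), (0, 0,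 8)], [(2, 14, 13), (2, 0, 13), (2, 0, 13), (2, 0, 13), (2, 0, 13), (2, 0, 13), (2, 0, 13), (2, 0, 13)], [(0, 13, 11), (0, 0, 9), (0, 0, 9), (0, 0, 9), (0, 0, 9), (0, 0, 9), (0, 0, 8)], [(0, 13, 11), (0, 0, 9), (0, 0, 9), (0, 0, 9), (0, 0, 9), (0, 0, 9), (0, 0, 8)], [(1, 10, 6)], [(0, 13, 11), (0, 0, 9), (0, 0, 9), (0, 0, 9), (0, 0, 9), (0, 0, 9), (0, 0, 8)], [(0, 13, 11), (0, 0, 9), (0, 0, 9), (0, 0, 9), (0, 0, 9), (0, 0, 9), (0, 0, 8)], [(0, 13, 11), (0, 0, 9), (0, 0, 9), (0, 0, 9), (0, 0, 9), (0, 0, 9), (0, 0, 8)], [(0, 13, 11), (0, 0, 9), (0, 0, 9), (0, 0, 9), (0, 0, 9), (0, 0, 9), (0, 0, 8)], [(1, 6, 5)], [(1, 8, 6)]]),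
  (4, [[(1, 8, 6)], [(1, 7, 6)], [(1, 13, 6)], [(1, 12, 6)], [(0, 13, 11), (0, 0, 9), (0, 0, 9), (0, 0, 9), (0, 0, 9), (0, 0, 9), (0, 0, 8)], [(1, 10, 6)], [(0, 13, 11), (0, 0, 9), (0, 0, 9), (0, 0, 9), (0, 0, 9), (0, 0, 9), (0, 0, 8)], [(0, 13, 11), (0, 0, 9), (0, 0, 9), (0, 0, 9), (0, 0, 9), (0, 0, 9), (0, 0, 8)], [(0, 13, 11), (0, 0, 9), (0, 0, 9), (0, 0, 9), (0, 0, 9), (0, 0, 9), (0, 0, 8)], [(0, 13, 11), (0, 0, 9), (0, 0, 9), (0, 0, 9), (0, 0, 9), (0, 0, 9), (0, 0, 8)], [(0, 13, 11), (0, 0, 9), (0, 0, 9), (0, 0, 9), (0, 0, 9), (0, 0, 9), (0, 0, 8)], [(0, 13, 11), (0, 0, 9), (0, 0, 9), (0, 0, 9), (0, 0, 9), (0, 0, 9), (0, 0, 8)], [(1, 6, 5)], [(0, 13, 11), (0, 0, 9), (0, 0, 9), (0, 0, 9), (0, 0, 9), (0, 0, 9), (0, 0, 8)], [(2, 14, 13), (2, 0, 13),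 (2, 0, 13), (2, 0, 13), (2, 0, 13), (2, 0, 13), (2, 0, 13), (2, 0, 13)], [(0, 13, 11), (0, 0, 9), (0, 0, 9), (0, 0, 9), (0, 0, 9), (0, 0, 9), (0, 0, 8)], [(0, 13, 11), (0, 0, 9), (0, 0, 9), (0, 0, 9), (0, 0, 9), (0, 0, 9), (0, 0, 8)], [(1, 11, 6)], [(0, 13, 11), (0, 0, 9), (0, 0, 9), (0, 0, 9), (0, 0, 9), (0, 0, 9), (0, 0, 8)], [(0, 13, 11), (0, 0, 9), (0, 0, 9), (0, 0, 9), (0, 0, 9), (0, 0, 9), (0, 0, 8)], [(0, 13, 11), (0, 0, 9), (0, 0, 9), (0, 0, 9), (0, 0, 9), (0, 0, 9), (0, 0, 8)], [(0, 13, 11), (0, 0, 9), (0, 0, 9), (0, 0, 9), (0, 0, 9), (0, 0, 9), (0, 0, 8)], [(1, 6, 5)], [(1, 9, 6)]]),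
  (4, [[(1, 9, 6)], [(1, 8, 6)], [(1, 7, 6)], [(1, 13, 6)], [(0, 13, 11), (0, 0, 9), (0, 0, 9), (0, 0, 9), (0, 0, 9), (0, 0, 9), (0, 0, 8)], [(1, 11, 6)], [(0, 13, 11), (0, 0, 9), (0, 0, 9), (0, 0, 9), (0, 0, 9), (0, 0, 9), (0, 0, 8)], [(0, 13, 11), (0, 0, 9), (0, 0, 9), (0, 0, 9), (0, 0, 9), (0, 0, 9), (0, 0, 8)], [(0, 13, 11), (0, 0, 9), (0, 0, 9), (0, 0, 9), (0, 0, 9), (0, 0, 9), (0, 0, 8)], [(0, 13, 11), (0, 0, 9), (0, 0, 9), (0, 0, 9), (0, 0, 9), (0, 0, 9), (0, 0, 8)], [(0, 13, 11), (0, 0, 9), (0, 0, 9), (0, 0, 9), (0, 0, 9), (0, 0, 9), (0, 0, 8)], [(0, 13, 11), (0, 0, 9), (0, 0, 9), (0, 0, 9), (0, 0, 9), (0, 0, 9), (0, 0, 8)], [(1, 6, 5)], [(0, 13, 11), (0, 0, 9), (0, 0, 9), (0, 0, 9), (0, 0, 9), (0, 0, 9), (0, 0, 8)], [(2, 14, 13), (2, 0, 13), (2,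 0, 13), (2, 0, 13), (2, 0, 13), (2, 0, 13), (2, 0, 13), (2, 0, 13)], [(0, 13, 11), (0, 0, 9), (0, 0, 9), (0, 0, 9), (0, 0, 9), (0, 0, 9), (0, 0, 8)], [(0, 13, 11), (0, 0, 9), (0, 0, 9), (0, 0, 9), (0, 0, 9), (0, 0, 9), (0, 0, 8)], [(1, 12, 6)], [(0, 13, 11), (0, 0, 9), (0, 0, 9), (0, 0, 9), (0, 0, 9), (0, 0, 9), (0, 0, 8)], [(0, 13, 11), (0, 0, 9), (0, 0, 9), (0, 0, 9), (0, 0, 9), (0, 0, 9), (0, 0, 8)], [(0, 13, 11), (0, 0, 9), (0, 0, 9), (0, 0, 9), (0, 0, 9), (0, 0, 9), (0, 0, 8)], [(0, 13, 11), (0, 0, 9), (0, 0, 9), (0, 0, 9), (0, 0, 9), (0, 0, 9), (0, 0, 8)], [(1, 6, 5)], [(1, 10, 6)]]),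
  (4, [[(0, 13, 11), (0, 0, 9), (0, 0, 9), (0, 0, 9), (0, 0, 9), (0, 0, 9), (0, 0, 8)], [(0, 13, 11), (0, 0, 9), (0, 0, 9), (0, 0, 9), (0, 0, 9), (0, 0, 9), (0, 0, 8)], [(0, 13, 11), (0, 0, 9), (0, 0, 9), (0, 0, 9), (0, 0, 9), (0, 0, 9), (0, 0, 8)], [(0, 13, 11), (0, 0, 9), (0, 0, 9), (0, 0, 9), (0, 0, 9), (0, 0, 9), (0, 0, 8)], [(1, 13, 6)], [(0, 13, 11), (0, 0, 9), (0, 0, 9), (0, 0, 9), (0, 0, 9), (0, 0, 9), (0, 0, 8)], [(1, 12, 6)], [(0, 13, 11), (0, 0, 9), (0, 0, 9), (0, 0, 9), (0, 0, 9), (0, 0, 9), (0, 0, 8)], [(0, 13, 11), (0, 0, 9), (0, 0, 9), (0, 0, 9), (0, 0, 9), (0, 0, 9), (0, 0, 8)], [(1, 10, 6)], [(0, 13, 11), (0, 0, 9), (0, 0, 9), (0, 0, 9), (0, 0, 9), (0, 0, 9), (0, 0, 8)], [(0, 13, 11), (0, 0, 9), (0, 0, 9), (0, 0, 9), (0, 0, 9), (0, 0,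 9), (0, 0, 8)], [(2, 14, 13), (2, 0, 13), (2, 0, 13), (2, 0, 13), (2, 0, 13), (2, 0, 13), (2, 0, 13), (2, 0, 13)], [(1, 11, 6)], [(1, 6, 5)], [(1, 9, 6)], [(0, 13, 11), (0, 0, 9), (0, 0, 9), (0, 0, 9), (0, 0, 9), (0, 0, 9), (0, 0, 8)], [(0, 13, 11), (0, 0, 9), (0, 0, 9), (0, 0, 9), (0, 0, 9), (0, 0, 9), (0, 0, 8)], [(1, 7, 6)], [(1, 8, 6)], [(0, 13, 11), (0, 0, 9), (0, 0, 9), (0, 0, 9), (0, 0, 9), (0, 0, 9), (0, 0, 8)], [(0, 13, 11), (0, 0, 9), (0, 0, 9), (0, 0, 9), (0, 0, 9), (0, 0, 9), (0, 0, 8)], [(1, 6, 5)], [(0, 13, 11), (0, 0, 9), (0, 0, 9), (0, 0, 9), (0, 0, 9), (0, 0, 9), (0, 0, 8)]]),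
  (4, [[(1, 11, 6)], [(1, 10, 6)], [(1, 9, 6)], [(1, 8, 6)], [(0, 13, 11), (0, 0, 9), (0, 0, 9), (0, 0, 9), (0, 0, 9), (0, 0, 9), (0, 0, 8)], [(1, 13, 6)], [(0, 13, 11), (0, 0, 9), (0, 0, 9), (0, 0, 9), (0, 0, 9), (0, 0, 9), (0, 0, 8)], [(0, 13, 11), (0, 0, 9), (0, 0, 9), (0, 0, 9), (0, 0, 9), (0, 0, 9), (0, 0, 8)], [(0, 13, 11), (0, 0, 9), (0, 0, 9), (0, 0, 9), (0, 0, 9), (0, 0, 9), (0, 0, 8)], [(0, 13, 11), (0, 0, 9), (0, 0, 9), (0, 0, 9), (0, 0, 9), (0, 0, 9), (0, 0, 8)], [(0, 13, 11), (0, 0, 9), (0, 0, 9), (0, 0, 9), (0, 0, 9), (0, 0, 9), (0, 0, 8)], [(0, 13, 11), (0, 0, 9), (0, 0, 9), (0, 0, 9), (0, 0, 9), (0, 0, 9), (0, 0, 8)], [(1, 6, 5)], [(0, 13, 11), (0, 0, 9), (0, 0, 9), (0, 0, 9), (0, 0, 9), (0, 0, 9), (0, 0, 8)], [(2, 14, 13), (2, 0, 13),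 (2, 0, 13), (2, 0, 13), (2, 0, 13), (2, 0, 13), (2, 0, 13), (2, 0, 13)], [(0, 13, 11), (0, 0, 9), (0, 0, 9), (0, 0, 9), (0, 0, 9), (0, 0, 9), (0, 0, 8)], [(0, 13, 11), (0, 0, 9), (0, 0, 9), (0, 0, 9), (0, 0, 9), (0, 0, 9), (0, 0, 8)], [(1, 7, 6)], [(0, 13, 11), (0, 0, 9), (0, 0, 9), (0, 0, 9), (0, 0, 9), (0, 0, 9), (0, 0, 8)], [(0, 13, 11), (0, 0, 9), (0, 0, 9), (0, 0, 9), (0, 0, 9), (0, 0, 9), (0, 0, 8)], [(0, 13, 11), (0, 0, 9), (0, 0, 9), (0, 0, 9), (0, 0, 9), (0, 0, 9), (0, 0, 8)], [(0, 13, 11), (0, 0, 9), (0, 0, 9), (0, 0, 9), (0, 0, 9), (0, 0, 9), (0, 0, 8)], [(1, 6, 5)], [(1, 12, 6)]]),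
  (4, [[(0, 13, 11), (0, 0, 9), (0, 0, 9), (0, 0, 9), (0, 0, 9), (0, 0, 9), (0, 0, 8)], [(0, 13, 11), (0, 0, 9), (0, 0, 9), (0, 0, 9), (0, 0, 9), (0, 0, 9), (0, 0, 8)], [(0, 13, 11), (0, 0, 9), (0, 0, 9), (0, 0, 9), (0, 0, 9), (0, 0, 9), (0, 0, 8)], [(0, 13, 11), (0, 0, 9), (0, 0, 9), (0, 0, 9), (0, 0, 9), (0, 0, 9), (0, 0, 8)], [(1, 7, 6)], [(0, 13, 11), (0, 0, 9), (0, 0, 9), (0, 0, 9), (0, 0, 9), (0, 0, 9), (0, 0, 8)], [(1, 13, 6)], [(0, 13, 11), (0, 0, 9), (0, 0, 9), (0, 0, 9), (0, 0, 9), (0, 0, 9), (0, 0, 8)], [(0, 13, 11), (0, 0, 9), (0, 0, 9), (0, 0, 9), (0, 0, 9), (0, 0, 9), (0, 0, 8)], [(1, 11, 6)], [(0, 13, 11), (0, 0, 9), (0, 0, 9), (0, 0, 9), (0, 0, 9), (0, 0, 9), (0, 0, 8)], [(0, 13, 11), (0, 0, 9), (0, 0, 9), (0, 0, 9), (0, 0, 9), (0, 0, 9),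 (0, 0, 8)], [(2, 14, 13), (2, 0, 13), (2, 0, 13), (2, 0, 13), (2, 0, 13), (2, 0, 13), (2, 0, 13), (2, 0, 13)], [(1, 12, 6)], [(1, 6, 5)], [(1, 10, 6)], [(0, 13, 11), (0, 0, 9), (0, 0, 9), (0, 0, 9), (0, 0, 9), (0, 0, 9), (0, 0, 8)], [(0, 13, 11), (0, 0, 9), (0, 0, 9), (0, 0, 9), (0, 0, 9), (0, 0, 9), (0, 0, 8)], [(1, 8, 6)], [(1, 9, 6)], [(0, 13, 11), (0, 0, 9), (0, 0, 9), (0, 0, 9), (0, 0, 9), (0, 0, 9), (0, 0, 8)], [(0, 13, 11), (0, 0, 9), (0, 0, 9), (0, 0, 9), (0, 0, 9), (0, 0, 9), (0, 0, 8)], [(1, 6, 5)], [(0, 13, 11), (0, 0, 9), (0, 0, 9), (0, 0, 9), (0, 0, 9), (0, 0, 9), (0, 0, 8)]]),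
  (4, [[(0, 13, 11), (0, 0, 9), (0, 0, 9), (0, 0, 9), (0, 0, 9), (0, 0, 9), (0, 0, 8)], [(0, 13, 11), (0, 0, 9), (0, 0, 9), (0, 0, 9), (0, 0, 9), (0, 0, 9), (0, 0, 8)], [(0, 13, 11), (0, 0, 9), (0, 0, 9), (0, 0, 9), (0, 0, 9), (0, 0, 9), (0, 0, 8)], [(0, 13, 11), (0, 0, 9), (0, 0, 9), (0, 0, 9), (0, 0, 9), (0, 0, 9), (0, 0, 8)], [(0, 13, 11), (0, 0, 9), (0, 0, 9), (0, 0, 9), (0, 0, 9), (0, 0, 9), (0, 0, 8)], [(0, 13, 11), (0, 0, 9), (0, 0, 9), (0, 0, 9), (0, 0, 9), (0, 0, 9), (0, 0, 8)], [(0, 13, 11), (0, 0, 9), (0, 0, 9), (0, 0, 9), (0, 0, 9), (0, 0, 9), (0, 0, 8)], [(1, 13, 6)], [(1, 7, 6)], [(0, 13, 11), (0, 0, 9), (0, 0, 9), (0, 0, 9), (0, 0, 9), (0, 0, 9), (0, 0, 8)], [(1, 8, 6)], [(1, 9, 6)], [(1, 6, 5)], [(0, 13, 11), (0, 0, 9), (0, 0, 9), (0, 0,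 9), (0, 0, 9), (0, 0, 9), (0, 0, 8)], [(1, 6, 5)], [(0, 13, 11), (0, 0, 9), (0, 0, 9), (0, 0, 9), (0, 0, 9), (0, 0, 9), (0, 0, 8)], [(1, 10, 6)], [(0, 13, 11), (0, 0, 9), (0, 0, 9), (0, 0, 9), (0, 0, 9), (0, 0, 9), (0, 0, 8)], [(0, 13, 11), (0, 0, 9), (0, 0, 9), (0, 0, 9), (0, 0, 9), (0, 0, 9), (0, 0, 8)], [(0, 13, 11), (0, 0, 9), (0, 0, 9), (0, 0, 9), (0, 0, 9), (0, 0, 9), (0, 0, 8)], [(1, 11, 6)], [(1, 12, 6)], [(2, 14, 13), (2, 0, 13), (2, 0, 13), (2, 0, 13), (2, 0, 13), (2, 0, 13), (2, 0, 13), (2, 0, 13)], [(0, 13, 11), (0, 0, 9), (0, 0, 9), (0, 0, 9), (0, 0, 9), (0, 0, 9), (0, 0, 8)]]),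
  (4, [[(0, 13, 11), (0, 0, 9), (0, 0, 9), (0, 0, 9), (0, 0, 9), (0, 0, 9), (0, 0, 8)], [(0, 13, 11), (0, 0, 9), (0, 0, 9), (0, 0, 9), (0, 0, 9), (0, 0, 9), (0, 0, 8)], [(0, 13, 11), (0, 0, 9), (0, 0, 9), (0, 0, 9), (0, 0, 9), (0, 0, 9), (0, 0, 8)], [(0, 13, 11), (0, 0, 9), (0, 0, 9), (0, 0, 9), (0, 0, 9), (0, 0, 9), (0, 0, 8)], [(0, 13, 11), (0, 0, 9), (0, 0, 9), (0, 0, 9), (0, 0, 9), (0, 0, 9), (0, 0, 8)], [(0, 13, 11), (0, 0, 9), (0, 0, 9), (0, 0, 9), (0, 0, 9), (0, 0, 9), (0, 0, 8)], [(0, 13, 11), (0, 0, 9), (0, 0, 9), (0, 0, 9), (0, 0, 9), (0, 0, 9), (0, 0, 8)], [(1, 12, 6)], [(1, 13, 6)], [(0, 13, 11), (0, 0, 9), (0, 0, 9), (0, 0, 9), (0, 0, 9), (0, 0, 9), (0, 0, 8)], [(1, 7, 6)], [(1, 8, 6)], [(1, 6, 5)], [(0, 13, 11), (0, 0, 9), (0, 0, 9), (0,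 0, 9), (0, 0, 9), (0, 0, 9), (0, 0, 8)], [(1, 6, 5)], [(0, 13, 11), (0, 0, 9), (0, 0, 9), (0, 0, 9), (0, 0, 9), (0, 0, 9), (0, 0, 8)], [(1, 9, 6)], [(0, 13, 11), (0, 0, 9), (0, 0, 9), (0, 0, 9), (0, 0, 9), (0, 0, 9), (0, 0, 8)], [(0, 13, 11), (0, 0, 9), (0, 0, 9), (0, 0, 9), (0, 0, 9), (0, 0, 9), (0, 0, 8)], [(0, 13, 11), (0, 0, 9), (0, 0, 9), (0, 0, 9), (0, 0, 9), (0, 0, 9), (0, 0, 8)], [(1, 10, 6)], [(1, 11, 6)], [(2, 14, 13), (2, 0, 13), (2, 0, 13), (2, 0, 13), (2, 0, 13), (2, 0, 13), (2, 0, 13), (2, 0, 13)], [(0, 13, 11), (0, 0, 9), (0, 0, 9), (0, 0, 9), (0, 0, 9), (0, 0, 9), (0, 0, 8)]]),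
  (4, [[(0, 13, 11), (0, 0, 9), (0, 0, 9), (0, 0, 9), (0, 0, 9), (0, 0, 9), (0, 0, 8)], [(0, 13, 11), (0, 0, 9), (0, 0, 9), (0, 0, 9), (0, 0, 9), (0, 0, 9), (0, 0, 8)], [(0, 13, 11), (0, 0, 9), (0, 0, 9), (0, 0, 9), (0, 0, 9), (0, 0, 9), (0, 0, 8)], [(0, 13, 11), (0, 0, 9), (0, 0, 9), (0, 0, 9), (0, 0, 9), (0, 0, 9), (0, 0, 8)], [(1, 9, 6)], [(0, 13, 11), (0, 0, 9), (0, 0, 9), (0, 0, 9), (0, 0, 9), (0, 0, 9), (0, 0, 8)], [(1, 8, 6)], [(0, 13, 11), (0, 0, 9), (0, 0, 9), (0, 0, 9), (0, 0, 9), (0, 0, 9), (0, 0, 8)], [(0, 13, 11), (0, 0, 9), (0, 0, 9), (0, 0, 9), (0, 0, 9), (0, 0, 9), (0, 0, 8)], [(1, 13, 6)], [(0, 13, 11), (0, 0, 9), (0, 0, 9), (0, 0, 9), (0, 0, 9), (0, 0, 9), (0, 0, 8)], [(0, 13, 11), (0, 0, 9), (0, 0, 9), (0, 0, 9), (0, 0, 9), (0, 0, 9),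 (0, 0, 8)], [(2, 14, 13), (2, 0, 13), (2, 0, 13), (2, 0, 13), (2, 0, 13), (2, 0, 13), (2, 0, 13), (2, 0, 13)], [(1, 7, 6)], [(1, 6, 5)], [(1, 12, 6)], [(0, 13, 11), (0, 0, 9), (0, 0, 9), (0, 0, 9), (0, 0, 9), (0, 0, 9), (0, 0, 8)], [(0, 13, 11), (0, 0, 9), (0, 0, 9), (0, 0, 9), (0, 0, 9), (0, 0, 9), (0, 0, 8)], [(1, 10, 6)], [(1, 11, 6)], [(0, 13, 11), (0, 0, 9), (0, 0, 9), (0, 0, 9), (0, 0, 9), (0, 0, 9), (0, 0, 8)], [(0, 13, 11), (0, 0, 9), (0, 0, 9), (0, 0, 9), (0, 0, 9), (0, 0, 9), (0, 0, 8)], [(1, 6, 5)], [(0, 13, 11), (0, 0, 9), (0, 0, 9), (0, 0, 9), (0, 0, 9), (0, 0, 9), (0, 0, 8)]]),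
  (4, [[(0, 13, 11), (0, 0, 9), (0, 0, 9), (0, 0, 9), (0, 0, 9), (0, 0, 9), (0, 0, 8)], [(0, 13, 11), (0, 0, 9), (0, 0, 9), (0, 0, 9), (0, 0, 9), (0, 0, 9), (0, 0, 8)], [(0, 13, 11), (0, 0, 9), (0, 0, 9), (0, 0, 9), (0, 0, 9), (0, 0, 9), (0, 0, 8)], [(0, 13, 11), (0, 0, 9), (0, 0, 9), (0, 0, 9), (0, 0, 9), (0, 0, 9), (0, 0, 8)], [(0, 13, 11), (0, 0, 9), (0, 0, 9), (0, 0, 9), (0, 0, 9), (0, 0, 9), (0, 0, 8)], [(0, 13, 11), (0, 0, 9), (0, 0, 9), (0, 0, 9), (0, 0, 9), (0, 0, 9), (0, 0, 8)], [(0, 13, 11), (0, 0, 9), (0, 0, 9), (0, 0, 9), (0, 0, 9), (0, 0, 9), (0, 0, 8)], [(1, 11, 6)], [(1, 12, 6)], [(0, 13, 11), (0, 0, 9), (0, 0, 9), (0, 0, 9), (0, 0, 9), (0, 0, 9), (0, 0, 8)], [(1, 13, 6)], [(1, 7, 6)], [(1, 6, 5)], [(0, 13, 11), (0, 0, 9), (0, 0, 9), (0,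 0, 9), (0, 0, 9), (0, 0, 9), (0, 0, 8)], [(1, 6, 5)], [(0, 13, 11), (0, 0, 9), (0, 0, 9), (0, 0, 9), (0, 0, 9), (0, 0, 9), (0, 0, 8)], [(1, 8, 6)], [(0, 13, 11), (0, 0, 9), (0, 0, 9), (0, 0, 9), (0, 0, 9), (0, 0, 9), (0, 0, 8)], [(0, 13, 11), (0, 0, 9), (0, 0, 9), (0, 0, 9), (0, 0, 9), (0, 0, 9), (0, 0, 8)], [(0, 13, 11), (0, 0, 9), (0, 0, 9), (0, 0, 9), (0, 0, 9), (0, 0, 9), (0, 0, 8)], [(1, 9, 6)], [(1, 10, 6)], [(2, 14, 13), (2, 0, 13), (2, 0, 13), (2, 0, 13), (2, 0, 13), (2, 0, 13), (2, 0, 13), (2, 0, 13)], [(0, 13, 11), (0, 0, 9), (0, 0, 9), (0, 0, 9), (0, 0, 9), (0, 0, 9), (0, 0, 8)]]),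
  (4, [[(0, 13, 11), (0, 0, 9), (0, 0, 9), (0, 0, 9), (0, 0, 9), (0, 0, 9), (0, 0, 8)], [(0, 13, 11), (0, 0, 9), (0, 0, 9), (0, 0, 9), (0, 0, 9), (0, 0, 9), (0, 0, 8)], [(0, 13, 11), (0, 0, 9), (0, 0, 9), (0, 0, 9), (0, 0, 9), (0, 0, 9), (0, 0, 8)], [(0, 13, 11), (0, 0, 9), (0, 0, 9), (0, 0, 9), (0, 0, 9), (0, 0, 9), (0, 0, 8)], [(0, 13, 11), (0, 0, 9), (0, 0, 9), (0, 0, 9), (0, 0, 9), (0, 0, 9), (0, 0, 8)], [(0, 13, 11), (0, 0, 9), (0, 0, 9), (0, 0, 9), (0, 0, 9), (0, 0, 9), (0, 0, 8)], [(0, 13, 11), (0, 0, 9), (0, 0, 9), (0, 0, 9), (0, 0, 9), (0, 0, 9), (0, 0, 8)], [(1, 10, 6)], [(1, 11, 6)], [(0, 13, 11), (0, 0, 9), (0, 0, 9), (0, 0, 9), (0, 0, 9), (0, 0, 9), (0, 0, 8)], [(1, 12, 6)], [(1, 13, 6)], [(1, 6, 5)], [(0, 13, 11), (0, 0, 9), (0, 0, 9), (0,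 0, 9), (0, 0, 9), (0, 0, 9), (0, 0, 8)], [(1, 6, 5)], [(0, 13, 11), (0, 0, 9), (0, 0, 9), (0, 0, 9), (0, 0, 9), (0, 0, 9), (0, 0, 8)], [(1, 7, 6)], [(0, 13, 11), (0, 0, 9), (0, 0, 9), (0, 0, 9), (0, 0, 9), (0, 0, 9), (0, 0, 8)], [(0, 13, 11), (0, 0, 9), (0, 0, 9), (0, 0, 9), (0, 0, 9), (0, 0, 9), (0, 0, 8)], [(0, 13, 11), (0, 0, 9), (0, 0, 9), (0, 0, 9), (0, 0, 9), (0, 0, 9), (0, 0, 8)], [(1, 8, 6)], [(1, 9, 6)], [(2, 14, 13), (2, 0, 13), (2, 0, 13), (2, 0, 13), (2, 0, 13), (2, 0, 13), (2, 0, 13), (2, 0, 13)], [(0, 13, 11), (0, 0, 9), (0, 0, 9), (0, 0, 9), (0, 0, 9), (0, 0, 9), (0, 0, 8)]]),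
  (24, [[(1, 6, 5)]]),
  (4, [[(0, 13, 11), (0, 0, 9), (0, 0, 9), (0, 0, 9), (0, 0, 9), (0, 0, 9), (0, 0, 8)], [(0, 13, 11), (0, 0, 9), (0, 0, 9), (0, 0, 9), (0, 0, 9), (0, 0, 9), (0, 0, 8)], [(0, 13, 11), (0, 0, 9), (0, 0, 9), (0, 0, 9), (0, 0, 9), (0, 0, 9), (0, 0, 8)], [(0, 13, 11), (0, 0, 9), (0, 0, 9), (0, 0, 9), (0, 0, 9), (0, 0, 9), (0, 0, 8)], [(1, 8, 6)], [(0, 13, 11), (0, 0, 9), (0, 0, 9), (0, 0, 9), (0, 0, 9), (0, 0, 9), (0, 0, 8)], [(1, 7, 6)], [(0, 13, 11), (0, 0, 9), (0, 0, 9), (0, 0, 9), (0, 0, 9), (0, 0, 9), (0, 0, 8)], [(0, 13, 11), (0, 0, 9), (0, 0, 9), (0, 0, 9), (0, 0, 9), (0, 0, 9), (0, 0, 8)], [(1, 12, 6)], [(0, 13, 11), (0, 0, 9), (0, 0, 9), (0, 0, 9), (0, 0, 9), (0, 0, 9), (0, 0, 8)], [(0, 13, 11), (0, 0, 9), (0, 0, 9), (0, 0, 9),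 (0, 0, 9), (0, 0, 9), (0, 0, 8)], [(2, 14, 13), (2, 0, 13), (2, 0, 13), (2, 0, 13), (2, 0, 13), (2, 0, 13), (2, 0, 13), (2, 0, 13)], [(1, 13, 6)], [(1, 6, 5)], [(1, 11, 6)], [(0, 13, 11), (0, 0, 9), (0, 0, 9), (0, 0, 9), (0, 0, 9), (0, 0, 9), (0, 0, 8)], [(0, 13, 11), (0, 0, 9), (0, 0, 9), (0, 0, 9), (0, 0, 9), (0, 0, 9), (0, 0, 8)], [(1, 9, 6)], [(1, 10, 6)], [(0, 13, 11), (0, 0, 9), (0, 0, 9), (0, 0, 9), (0, 0, 9), (0, 0, 9), (0, 0, 8)], [(0, 13, 11), (0, 0, 9), (0, 0, 9), (0, 0, 9), (0, 0, 9), (0, 0, 9), (0, 0, 8)], [(1, 6, 5)], [(0, 13, 11), (0, 0, 9), (0, 0, 9), (0, 0, 9), (0, 0, 9), (0, 0, 9), (0, 0, 8)]]),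
  (24, [[(1, 6, 5)]]),
  (4, [[(0, 13, 11), (0, 0, 9), (0, 0, 9), (0, 0, 9), (0, 0, 9), (0, 0, 9), (0, 0, 8)], [(0, 13, 11), (0, 0, 9), (0, 0, 9), (0, 0, 9), (0, 0, 9), (0, 0, 9), (0, 0, 8)], [(0, 13, 11), (0, 0, 9), (0, 0, 9), (0, 0, 9), (0, 0, 9), (0, 0, 9), (0, 0, 8)], [(0, 13, 11), (0, 0, 9), (0, 0, 9), (0, 0, 9), (0, 0, 9), (0, 0, 9), (0, 0, 8)], [(1, 10, 6)], [(0, 13, 11), (0, 0, 9), (0, 0, 9), (0, 0, 9), (0, 0, 9), (0, 0, 9), (0, 0, 8)], [(1, 9, 6)], [(0, 13, 11), (0, 0, 9), (0, 0, 9), (0, 0, 9), (0, 0, 9), (0, 0, 9), (0, 0, 8)], [(0, 13, 11), (0, 0, 9), (0, 0, 9), (0, 0, 9), (0, 0, 9), (0, 0, 9), (0, 0, 8)], [(1, 7, 6)], [(0, 13, 11), (0, 0, 9), (0, 0, 9), (0, 0, 9), (0, 0, 9), (0, 0, 9), (0, 0, 8)], [(0, 13, 11), (0, 0, 9), (0, 0, 9), (0, 0, 9),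 (0, 0, 9), (0, 0, 9), (0, 0, 8)], [(2, 14, 13), (2, 0, 13), (2, 0, 13), (2, 0, 13), (2, 0, 13), (2, 0, 13), (2, 0, 13), (2, 0, 13)], [(1, 8, 6)], [(1, 6, 5)], [(1, 13, 6)], [(0, 13, 11), (0, 0, 9), (0, 0, 9), (0, 0, 9), (0, 0, 9), (0, 0, 9), (0, 0, 8)], [(0, 13, 11), (0, 0, 9), (0, 0, 9), (0, 0, 9), (0, 0, 9), (0, 0, 9), (0, 0, 8)], [(1, 11, 6)], [(1, 12, 6)], [(0, 13, 11), (0, 0, 9), (0, 0, 9), (0, 0, 9), (0, 0, 9), (0, 0, 9), (0, 0, 8)], [(0, 13, 11), (0, 0, 9), (0, 0, 9), (0, 0, 9), (0, 0, 9), (0, 0, 9), (0, 0, 8)], [(1, 6, 5)], [(0, 13, 11), (0, 0, 9), (0, 0, 9), (0, 0, 9), (0, 0, 9), (0, 0, 9), (0, 0, 8)]]),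
  (4, [[(0, 13, 11), (0, 0, 9), (0, 0, 9), (0, 0, 9), (0, 0, 9), (0, 0, 9), (0, 0, 8)], [(0, 13, 11), (0, 0, 9), (0, 0, 9), (0, 0, 9), (0, 0, 9), (0, 0, 9), (0, 0, 8)], [(0, 13, 11), (0, 0, 9), (0, 0, 9), (0, 0, 9), (0, 0, 9), (0, 0, 9), (0, 0, 8)], [(0, 13, 11), (0, 0, 9), (0, 0, 9), (0, 0, 9), (0, 0, 9), (0, 0, 9), (0, 0, 8)], [(0, 13, 11), (0, 0, 9), (0, 0, 9), (0, 0, 9), (0, 0, 9), (0, 0, 9), (0, 0, 8)], [(0, 13, 11), (0, 0, 9), (0, 0, 9), (0, 0, 9), (0, 0, 9), (0, 0, 9), (0, 0, 8)], [(0, 13, 11), (0, 0, 9), (0, 0, 9), (0, 0, 9), (0, 0, 9), (0, 0, 9), (0, 0, 8)], [(1, 9, 6)], [(1, 10, 6)], [(0, 13, 11), (0, 0, 9), (0, 0, 9), (0, 0, 9), (0, 0, 9), (0, 0, 9), (0, 0, 8)], [(1, 11, 6)], [(1, 12, 6)], [(1, 6, 5)], [(0, 13, 11), (0, 0, 9), (0, 0, 9), (0,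 0, 9), (0, 0, 9), (0, 0, 9), (0, 0, 8)], [(1, 6, 5)], [(0, 13, 11), (0, 0, 9), (0, 0, 9), (0, 0, 9), (0, 0, 9), (0, 0, 9), (0, 0, 8)], [(1, 13, 6)], [(0, 13, 11), (0, 0, 9), (0, 0, 9), (0, 0, 9), (0, 0, 9), (0, 0, 9), (0, 0, 8)], [(0, 13, 11), (0, 0, 9), (0, 0, 9), (0, 0, 9), (0, 0, 9), (0, 0, 9), (0, 0, 8)], [(0, 13, 11), (0, 0, 9), (0, 0, 9), (0, 0, 9), (0, 0, 9), (0, 0, 9), (0, 0, 8)], [(1, 7, 6)], [(1, 8, 6)], [(2, 14, 13), (2, 0, 13), (2, 0, 13), (2, 0, 13), (2, 0, 13), (2, 0, 13), (2, 0, 13), (2, 0, 13)], [(0, 13, 11), (0, 0, 9), (0, 0, 9), (0, 0, 9), (0, 0, 9), (0, 0, 9), (0, 0, 8)]]),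
  (4, [[(1, 10, 6)], [(1, 9, 6)], [(1, 8, 6)], [(1, 7, 6)], [(0, 13, 11), (0, 0, 9), (0, 0, 9), (0, 0, 9), (0, 0, 9), (0, 0, 9), (0, 0, 8)], [(1, 12, 6)], [(0, 13, 11), (0, 0, 9), (0, 0, 9), (0, 0, 9), (0, 0, 9), (0, 0, 9), (0, 0, 8)], [(0, 13, 11), (0, 0, 9), (0, 0, 9), (0, 0, 9), (0, 0, 9), (0, 0, 9), (0, 0, 8)], [(0, 13, 11), (0, 0, 9), (0, 0, 9), (0, 0, 9), (0, 0, 9), (0, 0, 9), (0, 0, 8)], [(0, 13, 11), (0, 0, 9), (0, 0, 9), (0, 0, 9), (0, 0, 9), (0, 0, 9), (0, 0, 8)], [(0, 13, 11), (0, 0, 9), (0, 0, 9), (0, 0, 9), (0, 0, 9), (0, 0, 9), (0, 0, 8)], [(0, 13, 11), (0, 0, 9), (0, 0, 9), (0, 0, 9), (0, 0, 9), (0, 0, 9), (0, 0, 8)], [(1, 6, 5)], [(0, 13, 11), (0, 0, 9), (0, 0, 9), (0, 0, 9), (0, 0, 9), (0, 0, 9), (0, 0, 8)], [(2, 14, 13), (2, 0, 13), (2,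 0, 13), (2, 0, 13), (2, 0, 13), (2, 0, 13), (2, 0, 13), (2, 0, 13)], [(0, 13, 11), (0, 0, 9), (0, 0, 9), (0, 0, 9), (0, 0, 9), (0, 0, 9), (0, 0, 8)], [(0, 13, 11), (0, 0, 9), (0, 0, 9), (0, 0, 9), (0, 0, 9), (0, 0, 9), (0, 0, 8)], [(1, 13, 6)], [(0, 13, 11), (0, 0, 9), (0, 0, 9), (0, 0, 9), (0, 0, 9), (0, 0, 9), (0, 0, 8)], [(0, 13, 11), (0, 0, 9), (0, 0, 9), (0, 0, 9), (0, 0, 9), (0, 0, 9), (0, 0, 8)], [(0, 13, 11), (0, 0, 9), (0, 0, 9), (0, 0, 9), (0, 0, 9), (0, 0, 9), (0, 0, 8)], [(0, 13, 11), (0, 0, 9), (0, 0, 9), (0, 0, 9), (0, 0, 9), (0, 0, 9), (0, 0, 8)], [(1, 6, 5)], [(1, 11, 6)]]),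
  (4, [[(0, 13, 11), (0, 0, 9), (0, 0, 9), (0, 0, 9), (0, 0, 9), (0, 0, 9), (0, 0, 8)], [(0, 13, 11), (0, 0, 9), (0, 0, 9), (0, 0, 9), (0, 0, 9), (0, 0, 9), (0, 0, 8)], [(0, 13, 11), (0, 0, 9), (0, 0, 9), (0, 0, 9), (0, 0, 9), (0, 0, 9), (0, 0, 8)], [(0, 13, 11), (0, 0, 9), (0, 0, 9), (0, 0, 9), (0, 0, 9), (0, 0, 9), (0, 0, 8)], [(1, 12, 6)], [(0, 13, 11), (0, 0, 9), (0, 0, 9), (0, 0, 9), (0, 0, 9), (0, 0, 9), (0, 0, 8)], [(1, 11, 6)], [(0, 13, 11), (0, 0, 9), (0, 0, 9), (0, 0, 9), (0, 0, 9), (0, 0, 9), (0, 0, 8)], [(0, 13, 11), (0, 0, 9), (0, 0, 9), (0, 0, 9), (0, 0, 9), (0, 0, 9), (0, 0, 8)], [(1, 9, 6)], [(0, 13, 11), (0, 0, 9), (0, 0, 9), (0, 0, 9), (0, 0, 9), (0, 0, 9), (0, 0, 8)], [(0, 13, 11), (0, 0, 9), (0, 0, 9), (0, 0, 9), (0, 0, 9), (0, 0, 9),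 (0, 0, 8)], [(2, 14, 13), (2, 0, 13), (2, 0, 13), (2, 0, 13), (2, 0, 13), (2, 0, 13), (2, 0, 13), (2, 0, 13)], [(1, 10, 6)], [(1, 6, 5)], [(1, 8, 6)], [(0, 13, 11), (0, 0, 9), (0, 0, 9), (0, 0, 9), (0, 0, 9), (0, 0, 9), (0, 0, 8)], [(0, 13, 11), (0, 0, 9), (0, 0, 9), (0, 0, 9), (0, 0, 9), (0, 0, 9), (0, 0, 8)], [(1, 13, 6)], [(1, 7, 6)], [(0, 13, 11), (0, 0, 9), (0, 0, 9), (0, 0, 9), (0, 0, 9), (0, 0, 9), (0, 0, 8)], [(0, 13, 11), (0, 0, 9), (0, 0, 9), (0, 0, 9), (0, 0, 9), (0, 0, 9), (0, 0, 8)], [(1, 6, 5)], [(0, 13, 11), (0, 0, 9), (0, 0, 9), (0, 0, 9), (0, 0, 9), (0, 0, 9), (0, 0, 8)]]),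
  (4, [[(0, 13, 11), (0, 0, 9), (0, 0, 9), (0, 0, 9), (0, 0, 9), (0, 0, 9), (0, 0, 8)], [(0, 13, 11), (0, 0, 9), (0, 0, 9), (0, 0, 9), (0, 0, 9), (0, 0, 9), (0, 0, 8)], [(0, 13, 11), (0, 0, 9), (0, 0, 9), (0, 0, 9), (0, 0, 9), (0, 0, 9), (0, 0, 8)], [(0, 13, 11), (0, 0, 9), (0, 0, 9), (0, 0, 9), (0, 0, 9), (0, 0, 9), (0, 0, 8)], [(1, 11, 6)], [(0, 13, 11), (0, 0, 9), (0, 0, 9), (0, 0, 9), (0, 0, 9), (0, 0, 9), (0, 0, 8)], [(1, 10, 6)], [(0, 13, 11), (0, 0, 9), (0, 0, 9), (0, 0, 9), (0, 0, 9), (0, 0, 9), (0, 0, 8)], [(0, 13, 11), (0, 0, 9), (0, 0, 9), (0, 0, 9), (0, 0, 9), (0, 0, 9), (0, 0, 8)], [(1, 8, 6)], [(0, 13, 11), (0, 0, 9), (0, 0, 9), (0, 0, 9), (0, 0, 9), (0, 0, 9), (0, 0, 8)], [(0, 13, 11), (0, 0, 9), (0, 0, 9), (0, 0, 9), (0, 0, 9), (0, 0, 9),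 (0, 0, 8)], [(2, 14, 13), (2, 0, 13), (2, 0, 13), (2, 0, 13), (2, 0, 13), (2, 0, 13), (2, 0, 13), (2, 0, 13)], [(1, 9, 6)], [(1, 6, 5)], [(1, 7, 6)], [(0, 13, 11), (0, 0, 9), (0, 0, 9), (0, 0, 9), (0, 0, 9), (0, 0, 9), (0, 0, 8)], [(0, 13, 11), (0, 0, 9), (0, 0, 9), (0, 0, 9), (0, 0, 9), (0, 0, 9), (0, 0, 8)], [(1, 12, 6)], [(1, 13, 6)], [(0, 13, 11), (0, 0, 9), (0, 0, 9), (0, 0, 9), (0, 0, 9), (0, 0, 9), (0, 0, 8)], [(0, 13, 11), (0, 0, 9), (0, 0, 9), (0, 0, 9), (0, 0, 9), (0, 0, 9), (0, 0, 8)], [(1, 6, 5)], [(0, 13, 11), (0, 0, 9), (0, 0, 9), (0, 0, 9), (0, 0, 9), (0, 0, 9), (0, 0, 8)]]),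
  (4, [[(0, 13, 11), (0, 0, 9), (0, 0, 9), (0, 0, 9), (0, 0, 9), (0, 0, 9), (0, 0, 8)], [(0, 13, 11), (0, 0, 9), (0, 0, 9), (0, 0, 9), (0, 0, 9), (0, 0, 9), (0, 0, 8)], [(0, 13, 11), (0, 0, 9), (0, 0, 9), (0, 0, 9), (0, 0, 9), (0, 0, 9), (0, 0, 8)], [(0, 13, 11), (0, 0, 9), (0, 0, 9), (0, 0, 9), (0, 0, 9), (0, 0, 9), (0, 0, 8)], [(0, 13, 11), (0, 0, 9), (0, 0, 9), (0, 0, 9), (0, 0, 9), (0, 0, 9), (0, 0, 8)], [(0, 13, 11), (0, 0, 9), (0, 0, 9), (0, 0, 9), (0, 0, 9), (0, 0, 9), (0, 0, 8)], [(0, 13, 11), (0, 0, 9), (0, 0, 9), (0, 0, 9), (0, 0, 9), (0, 0, 9), (0, 0, 8)], [(1, 8, 6)], [(1, 9, 6)], [(0, 13, 11), (0, 0, 9), (0, 0, 9), (0, 0, 9), (0, 0, 9), (0, 0, 9), (0, 0, 8)], [(1, 10, 6)], [(1, 11, 6)], [(1, 6, 5)], [(0, 13, 11), (0, 0, 9), (0, 0, 9), (0,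 0, 9), (0, 0, 9), (0, 0, 9), (0, 0, 8)], [(1, 6, 5)], [(0, 13, 11), (0, 0, 9), (0, 0, 9), (0, 0, 9), (0, 0, 9), (0, 0, 9), (0, 0, 8)], [(1, 12, 6)], [(0, 13, 11), (0, 0, 9), (0, 0, 9), (0, 0, 9), (0, 0, 9), (0, 0, 9), (0, 0, 8)], [(0, 13, 11), (0, 0, 9), (0, 0, 9), (0, 0, 9), (0, 0, 9), (0, 0, 9), (0, 0, 8)], [(0, 13, 11), (0, 0, 9), (0, 0, 9), (0, 0, 9), (0, 0, 9), (0, 0, 9), (0, 0, 8)], [(1, 13, 6)], [(1, 7, 6)], [(2, 14, 13), (2, 0, 13), (2, 0, 13), (2, 0, 13), (2, 0, 13), (2, 0, 13), (2, 0, 13), (2, 0, 13)], [(0, 13, 11), (0, 0, 9), (0, 0, 9), (0, 0, 9), (0, 0, 9), (0, 0, 9), (0, 0, 8)]]),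
  (4, [[(0, 13, 11), (0, 0, 9), (0, 0, 9), (0, 0, 9), (0, 0, 9), (0, 0, 9), (0, 0, 8)], [(0, 13, 11), (0, 0, 9), (0, 0, 9), (0, 0, 9), (0, 0, 9), (0, 0, 9), (0, 0, 8)], [(0, 13, 11), (0, 0, 9), (0, 0, 9), (0, 0, 9), (0, 0, 9), (0, 0, 9), (0, 0, 8)], [(0, 13, 11), (0, 0, 9), (0, 0, 9), (0, 0, 9), (0, 0, 9), (0, 0, 9), (0, 0, 8)], [(0, 13, 11), (0, 0, 9), (0, 0, 9), (0, 0, 9), (0, 0, 9), (0, 0, 9), (0, 0, 8)], [(0, 13, 11), (0, 0, 9), (0, 0, 9), (0, 0, 9), (0, 0, 9), (0, 0, 9), (0, 0, 8)], [(0, 13, 11), (0, 0, 9), (0, 0, 9), (0, 0, 9), (0, 0, 9), (0, 0, 9), (0, 0, 8)], [(1, 7, 6)], [(1, 8, 6)], [(0, 13, 11), (0, 0, 9), (0, 0, 9), (0, 0, 9), (0, 0, 9), (0, 0, 9), (0, 0, 8)], [(1, 9, 6)], [(1, 10, 6)], [(1, 6, 5)], [(0, 13, 11), (0, 0, 9), (0, 0, 9), (0, 0,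 9), (0, 0, 9), (0, 0, 9), (0, 0, 8)], [(1, 6, 5)], [(0, 13, 11), (0, 0, 9), (0, 0, 9), (0, 0, 9), (0, 0, 9), (0, 0, 9), (0, 0, 8)], [(1, 11, 6)], [(0, 13, 11), (0, 0, 9), (0, 0, 9), (0, 0, 9), (0, 0, 9), (0, 0, 9), (0, 0, 8)], [(0, 13, 11), (0, 0, 9), (0, 0, 9), (0, 0, 9), (0, 0, 9), (0, 0, 9), (0, 0, 8)], [(0, 13, 11), (0, 0, 9), (0, 0, 9), (0, 0, 9), (0, 0, 9), (0, 0, 9), (0, 0, 8)], [(1, 12, 6)], [(1, 13, 6)], [(2, 14, 13), (2, 0, 13), (2, 0, 13), (2, 0, 13), (2, 0, 13), (2, 0, 13), (2, 0, 13), (2, 0, 13)], [(0, 13, 11), (0, 0, 9), (0, 0, 9), (0, 0, 9), (0, 0, 9), (0, 0, 9), (0, 0, 8)]]),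
  (24, [[(1, 6, 5)]]),
  (4, [[(1, 12, 6)], [(1, 11, 6)], [(1, 10, 6)], [(1, 9, 6)], [(0, 13, 11), (0, 0, 9), (0, 0, 9), (0, 0, 9), (0, 0, 9), (0, 0, 9), (0, 0, 8)], [(1, 7, 6)], [(0, 13, 11), (0, 0, 9), (0, 0, 9), (0, 0, 9), (0, 0, 9), (0, 0, 9), (0, 0, 8)], [(0, 13, 11), (0, 0, 9), (0, 0, 9), (0, 0, 9), (0, 0, 9), (0, 0, 9), (0, 0, 8)], [(0, 13, 11), (0, 0, 9), (0, 0, 9), (0, 0, 9), (0, 0, 9), (0, 0, 9), (0, 0, 8)], [(0, 13, 11), (0, 0, 9), (0, 0, 9), (0, 0, 9), (0, 0, 9), (0, 0, 9), (0, 0, 8)], [(0, 13, 11), (0, 0, 9), (0, 0, 9), (0, 0, 9), (0, 0, 9), (0, 0, 9), (0, 0, 8)], [(0, 13, 11), (0, 0, 9), (0, 0, 9), (0, 0, 9), (0, 0, 9), (0, 0, 9), (0, 0, 8)], [(1, 6, 5)], [(0, 13, 11), (0, 0, 9), (0, 0, 9), (0, 0, 9), (0, 0, 9), (0, 0, 9), (0, 0, 8)], [(2,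 14, 13), (2, 0, 13), (2, 0, 13), (2, 0, 13), (2, 0, 13), (2, 0, 13), (2, 0, 13), (2, 0, 13)], [(0, 13, 11), (0, 0, 9), (0, 0, 9), (0, 0, 9), (0, 0, 9), (0, 0, 9), (0, 0, 8)], [(0, 13, 11), (0, 0, 9), (0, 0, 9), (0, 0, 9), (0, 0, 9), (0, 0, 9), (0, 0, 8)], [(1, 8, 6)], [(0, 13, 11), (0, 0, 9), (0, 0, 9), (0, 0, 9), (0, 0, 9), (0, 0, 9), (0, 0, 8)], [(0, 13, 11), (0, 0, 9), (0, 0, 9), (0, 0, 9), (0, 0, 9), (0, 0, 9), (0, 0, 8)], [(0, 13, 11), (0, 0, 9), (0, 0, 9), (0, 0, 9), (0, 0, 9), (0, 0, 9), (0, 0, 8)], [(0, 13, 11), (0, 0, 9), (0, 0, 9), (0, 0, 9), (0, 0, 9), (0, 0, 9), (0, 0, 8)], [(1, 6, 5)], [(1, 13, 6)]])]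

/-- The invariant trio. -/
def sevenTrio : ℕ × ℕ := (832080, 7409024)

end CfsgLib.Mathieu
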