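import Cfsg.Agent.Lib.Mathieu.OctInvol
import Cfsg.Agent.Lib.Mathieu.OddData
import Cfsg.Agent.Lib.Mathieu.SevenData
import Cfsg.Agent.Lib.Mathieu.Reps
import Cfsg.Agent.Lib.Golay.Mathieu

/-!
# Elements of odd prime order in `M22` and `M24`

For each: the order of the centraliser, an element acting as a power map, and sometimes a proof
that no element of the group inverts it.
-/

set_option autoImplicit false
set_option maxRecDepth 100000

namespace CfsgLib.Mathieu

open Cfsg CfsgLib.Golay
open scoped Pointwise

/-- The data of an element `x` of prime order `q` with its non-trivial powers. -/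
def powsOK (X : List ℕ) (q x : ℕ) (pw : List ℕ) (n r : ℕ) : Bool :=
  inFix X x && inFix X n && !sameW [x] [] && sameW (List.replicate q x) [] &&
  Nat.beq pw.length (q - 1) && pw.all valid &&
  ((List.range (q - 1)).all fun k => sameW [pw.getD k 0] (List.replicate (k + 1) x)) &&
  sameW [n, x] (List.replicate r x ++ [n])

/-- What the certificates give for an element of prime order `q`. -/
structure OddElt (H : Subgroup (Equiv.Perm GolayPt)) (q c r : ℕ)
    (x : Equiv.Perm GolayPt) : Prop where
  mem : x ∈ H
  order : orderOf x = q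
  card : Nat.card {σ : Equiv.Perm GolayPt // σ ∈ H ∧ σ * x = x * σ} = c
  fusion : ∃ n ∈ H, n * x * n⁻¹ = x ^ r

theorem prod_replicate_map (k x : ℕ) :
    ((List.replicate k x).map permOf).prod = permOf x ^ k := by
  rw [List.map_replicate, List.prod_replicate]

theorem oddElt_of_cert {X : List ℕ} {q x n r : ℕ} {pw : List ℕ} {L : List CLevel}
    {fin : List (ℕ × ℕ × ℕ)} (hq : q.Prime) (h : powsOK X q x pw n r = true)
    (hc : cChainOK X pw L fin = true) :
    OddElt (fixMasks X) q (cCard L) r (permOf x) := by
  simp only [powsOK, Bool.and_eq_true, Bool.not_eq_true', List.all_eq_true, List.mem_range,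
    Nat.beq_eq] at h
  obtain ⟨⟨⟨⟨⟨⟨⟨hx, hn⟩, hx1⟩, hxq⟩, hlen⟩, hv⟩, hpow⟩, hnr⟩ := h
  have vx : valid x = true := inFix_valid hx
  have vn : valid n = true := inFix_valid hn
  have vrep : ∀ k, ∀ g ∈ List.replicate k x, valid g = true := fun k g hg => by
    rw [(List.mem_replicate.1 hg).2]; exact vx
  have hxq' : permOf x ^ q = 1 := by
    have := (sameW_iff (vrep q) (by simp)).1 hxq
    rwa [prod_replicate_map, List.map_nil, List.prod_nil] at this
  have hne : permOf x ≠ 1 := fun e => by
    rw [(sameW_iff (u := [x]) (v := []) (by simp [vx]) (by simp)).2 (by simp [e])] at hx1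
    exact Bool.noConfusion hx1
  have := Fact.mk hq
  have hpows : ∀ k, k < q - 1 → permOf (pw.getD k 0) = permOf x ^ (k + 1) := fun k hk => by
    have hk' : k < pw.length := hlen ▸ hk
    have hg : valid (pw.getD k 0) = true := by
      rw [List.getD_eq_getElem?_getD, List.getElem?_eq_getElem hk', Option.getD_some]
      exact hv _ (List.getElem_mem hk')
    have := (sameW_iff (u := [pw.getD k 0]) (by simpa using hg) (vrep (k + 1))).1 (hpow k hk)
    rw [prod_replicate_map] at this
    simpa using this
  refine ⟨inFix_mem hx, orderOf_eq_prime hxq' hne, ?_, permOf n, inFix_mem hn, ?_⟩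
  · rw [← card_commFix hc]
    refine Nat.card_congr (Equiv.subtypeEquivRight fun σ => ?_)
    rw [mem_commFix]
    refine and_congr_right fun _ => ⟨fun hσ t ht => ?_, fun hσ => ?_⟩
    · obtain ⟨k, hk, rfl⟩ := List.mem_iff_getElem.1 ht
      have hk' : k < q - 1 := hlen ▸ hk
      have := hpows k hk'
      rw [List.getD_eq_getElem?_getD, List.getElem?_eq_getElem hk, Option.getD_some] at this
      rw [this]
      exact (show Commute σ (permOf x) from hσ).pow_right _
    · have h0 : 0 < q - 1 := by have := hq.two_le; omega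
      have hk : 0 < pw.length := hlen ▸ h0
      have h1 := hσ _ (List.getElem_mem hk)
      have := hpows 0 h0
      rw [List.getD_eq_getElem?_getD, List.getElem?_eq_getElem hk, Option.getD_some, zero_add,
        pow_one] at this
      rwa [this] at h1
  · have := (sameW_iff (u := [n, x]) (v := List.replicate r x ++ [n]) (by simp [vn, vx])
      (fun g hg => by
        rcases List.mem_append.1 hg with h | h
        · exact vrep r g h
        · rw [List.mem_singleton.1 h]; exact vn)).1 hnr
    rw [List.map_append, List.prod_append, prod_replicate_map] at this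
    simp only [List.map_cons, List.map_nil, List.prod_cons, List.prod_nil, mul_one] at this
    rw [this, mul_inv_cancel_right]

/-- No element of `fixMasks X` intertwines the pairs of `ts`. -/
def noInterX (X : List ℕ) (ts : List (ℕ × ℕ)) (b : ℕ) (R : List Ref) : Bool :=
  Nat.ble b 23 && ts.all (fun p => valid p.1 && valid p.2) && X.all (fun A => Nat.ble A 16777215) &&
  (List.range 24).all fun y => refB ts (tFacts ts b y ++ diagFacts X) (R.getD y (24, []))

/-- `ts` consists of the pairs `(x^i, x^-i)`. -/
def pairsOK (q x : ℕ) (ts : List (ℕ × ℕ)) : Bool :=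
  Nat.beq ts.length (q - 1) && ((List.range (q - 1)).all fun k =>
    sameW [(ts.getD k (0, 0)).1] (List.replicate (k + 1) x) &&
    sameW [(ts.getD k (0, 0)).2] (List.replicate (q - (k + 1)) x))

theorem no_inverter {X : List ℕ} {q x : ℕ} {ts : List (ℕ × ℕ)} {b : ℕ} {R : List Ref}
    (vx : valid x = true) (hxq : orderOf (permOf x) = q)
    (hp : pairsOK q x ts = true) (h : noInterX X ts b R = true) :
    ∀ σ ∈ fixMasks X, σ * permOf x * σ⁻¹ ≠ (permOf x)⁻¹ := by
  simp only [noInterX, Bool.and_eq_true, List.all_eq_true] at h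
  obtain ⟨⟨⟨hb, hv⟩, hX⟩, hR⟩ := h
  simp only [pairsOK, Bool.and_eq_true, List.all_eq_true, List.mem_range, Nat.beq_eq] at hp
  obtain ⟨hlen, hp⟩ := hp
  intro σ hσ hinv
  have hb' : b < 24 := Nat.lt_succ_of_le (Nat.le_of_ble_eq_true hb)
  have hts : ∀ p ∈ ts, σ * permOf p.1 = permOf p.2 * σ := by
    intro p hpm
    obtain ⟨k, hk, rfl⟩ := List.mem_iff_getElem.1 hpm
    have hk' : k < q - 1 := hlen ▸ hk
    have hg : ts.getD k (0, 0) = ts[k] := by
      rw [List.getD_eq_getElem?_getD, List.getElem?_eq_getElem hk, Option.getD_some]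
    obtain ⟨h1, h2⟩ := hp k hk'
    rw [hg] at h1 h2
    have vrep : ∀ j, ∀ g ∈ List.replicate j x, valid g = true := fun j g hg => by
      rw [(List.mem_replicate.1 hg).2]; exact vx
    have e1 := (sameW_iff (by simpa using (hv _ hpm).1) (vrep _)).1 h1
    have e2 := (sameW_iff (by simpa using (hv _ hpm).2) (vrep _)).1 h2
    rw [prod_replicate_map] at e1 e2
    simp only [List.map_cons, List.map_nil, List.prod_cons, List.prod_nil, mul_one] at e1 e2
    rw [e1, e2]
    have h3 : σ * permOf x ^ (k + 1) * σ⁻¹ = (permOf x ^ (k + 1))⁻¹ := by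
      rw [← conj_pow, hinv, inv_pow]
    have h4 : (permOf x ^ (k + 1))⁻¹ = permOf x ^ (q - (k + 1)) := by
      refine inv_eq_of_mul_eq_one_right ?_
      rw [← pow_add, Nat.add_sub_cancel' (by omega), ← hxq, pow_orderOf_eq_one]
    rw [← h4, ← h3, inv_mul_cancel_right]
  refine refB_sound (fun p hp => ⟨(hv p hp).1, (hv p hp).2⟩) (fixMasks_le X hσ) hts
    (hR _ (List.mem_range.2 (idx_lt (σ (pt b))))) ?_
  intro p hp
  rcases List.mem_append.1 hp with hp | hp
  · exact tFacts_sound (fun p hp => ⟨(hv p hp).1, (hv p hp).2⟩) hts hb' (idx_lt _)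
      (by rw [pt_idx]) p hp
  · exact diagFacts_sound (fun A hA => Nat.lt_succ_of_le (Nat.le_of_ble_eq_true (hX A hA))) hσ p hp

theorem elt24_twentyThree : OddElt (fixMasks []) 23 23 2 (permOf qTwentyThree) := by
  have h := oddElt_of_cert (by norm_num : Nat.Prime 23)
    (show powsOK [] 23 qTwentyThree qTwentyThreePows qTwentyThreeN 2 = true by decide +kernel)
    (show cChainOK [] qTwentyThreePows qTwentyThreeLevels qTwentyThreeFin = true by decide +kernel)
  rwa [show cCard qTwentyThreeLevels = 23 by decide +kernel] at h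

theorem elt24_eleven : OddElt (fixMasks []) 11 11 2 (permOf qEleven) := by
  have h := oddElt_of_cert (by norm_num : Nat.Prime 11)
    (show powsOK [] 11 qEleven qElevenPows qElevenN 2 = true by decide +kernel)
    (show cChainOK [] qElevenPows qElevenLevels qElevenFin = true by decide +kernel)
  rwa [show cCard qElevenLevels = 11 by decide +kernel] at h

theorem elt24_five : OddElt (fixMasks []) 5 60 2 (permOf qFive) := by
  have h := oddElt_of_cert (by norm_num : Nat.Prime 5)
    (show powsOK [] 5 qFive qFivePows qFiveN 2 = true by decide +kernel)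
    (show cChainOK [] qFivePows qFiveLevels qFiveFin = true by decide +kernel)
  rwa [show cCard qFiveLevels = 60 by decide +kernel] at h

theorem elt24_seven : OddElt (fixMasks []) 7 42 2 (permOf sSeven) := by
  have h := oddElt_of_cert (by norm_num : Nat.Prime 7)
    (show powsOK [] 7 sSeven sSevenPows nSeven 2 = true by decide +kernel)
    (show cChainOK [] sSevenPows sSevenLevels sSevenFin = true by decide +kernel)
  rwa [show cCard sSevenLevels = 42 by decide +kernel] at h

theorem elt22_five : OddElt (fixMasks X22) 5 5 2 (permOf qFiveP) := by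
  have h := oddElt_of_cert (by norm_num : Nat.Prime 5)
    (show powsOK X22 5 qFiveP qFivePPows qFivePN 2 = true by decide +kernel)
    (show cChainOK X22 qFivePPows qFivePLevels qFivePFin = true by decide +kernel)
  rwa [show cCard qFivePLevels = 5 by decide +kernel] at h

theorem elt22_eleven : OddElt (fixMasks X22) 11 11 4 (permOf qElevenP) := by
  have h := oddElt_of_cert (by norm_num : Nat.Prime 11)
    (show powsOK X22 11 qElevenP qElevenPPows qElevenPN 4 = true by decide +kernel)
    (show cChainOK X22 qElevenPPows qElevenPLevels qElevenPFin = true by decide +kernel)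
  rwa [show cCard qElevenPLevels = 11 by decide +kernel] at h

theorem elt22_seven : OddElt (fixMasks X22) 7 7 2 (permOf qSevenP) := by
  have h := oddElt_of_cert (by norm_num : Nat.Prime 7)
    (show powsOK X22 7 qSevenP qSevenPPows qSevenPN 2 = true by decide +kernel)
    (show cChainOK X22 qSevenPPows qSevenPLevels qSevenPFin = true by decide +kernel)
  rwa [show cCard qSevenPLevels = 7 by decide +kernel] at h

theorem noinv24_twentyThree : ∀ σ ∈ fixMasks [],
    σ * permOf qTwentyThree * σ⁻¹ ≠ (permOf qTwentyThree)⁻¹ :=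
  no_inverter (q := 23) (ts := qTwentyThreePairs) (b := qTwentyThreeBase) (R := qTwentyThreeRefs)
    (by decide +kernel) elt24_twentyThree.order (by decide +kernel) (by decide +kernel)

theorem noinv24_seven : ∀ σ ∈ fixMasks [], σ * permOf sSeven * σ⁻¹ ≠ (permOf sSeven)⁻¹ :=
  no_inverter (q := 7) (ts := invSevenPairs) (b := invSevenBase) (R := invSevenRefs)
    (by decide +kernel) elt24_seven.order (by decide +kernel) (by decide +kernel)

theorem noinv22_eleven : ∀ σ ∈ fixMasks X22,
    σ * permOf qElevenP * σ⁻¹ ≠ (permOf qElevenP)⁻¹ :=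
  no_inverter (q := 11) (ts := qElevenPPairs) (b := qElevenPBase) (R := qElevenPRefs)
    (by decide +kernel) elt22_eleven.order (by decide +kernel) (by decide +kernel)

theorem noinv22_seven : ∀ σ ∈ fixMasks X22,
    σ * permOf qSevenP * σ⁻¹ ≠ (permOf qSevenP)⁻¹ :=
  no_inverter (q := 7) (ts := qSevenPPairs) (b := qSevenPBase) (R := qSevenPRefs)
    (by decide +kernel) elt22_seven.order (by decide +kernel) (by decide +kernel)

end CfsgLib.Mathieu
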