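import Cfsg.Agent.Lib.Mathieu.Classes
import Cfsg.Agent.Lib.Mathieu.Sextets
import Cfsg.Agent.Lib.Golay.Count
import Cfsg.Agent.Lib.Mathieu.ListData

/-! Transport of fixed objects along conjugation, and fixed objects of encoded permutations. -/

set_option autoImplicit false
set_option maxRecDepth 100000

namespace CfsgLib.Mathieu

open Cfsg CfsgLib.Golay
open scoped Pointwise

/-- The fixed points of a permutation of the 24 points. -/
def fixS (g : Equiv.Perm GolayPt) : Finset GolayPt := Finset.univ.filter fun p => g p = p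

theorem fixS_conj (c g : Equiv.Perm GolayPt) : fixS (c * g * c⁻¹) = c • fixS g := by
  ext p
  rw [← Finset.inv_smul_mem_iff, fixS, fixS, Finset.mem_filter, Finset.mem_filter,
    Equiv.Perm.smul_def, Equiv.Perm.mul_apply, Equiv.Perm.mul_apply]
  simp only [Finset.mem_univ, true_and]
  exact Equiv.apply_eq_iff_eq_symm_apply c

theorem card_fixS_conj (c g : Equiv.Perm GolayPt) : (fixS (c * g * c⁻¹)).card = (fixS g).card := by
  rw [fixS_conj, Finset.card_smul_finset]

/-- The mask of the fixed points of an encoded permutation. -/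
def fixMask (g : ℕ) : ℕ :=
  (List.range 24).foldl (fun a i => bif Nat.beq (img g i) i then Nat.lor a (Nat.shiftLeft 1 i) else a) 0

theorem fixS_permOf {g m : ℕ} (hg : valid g = true)
    (h : ((List.range 24).all fun i => (m.testBit i == Nat.beq (img g i) i)) = true) :
    fixS (permOf g) = mset m := by
  simp only [List.all_eq_true, List.mem_range, beq_iff_eq] at h
  ext p
  simp only [fixS, Finset.mem_filter, Finset.mem_univ, true_and, mem_mset, h _ (idx_lt p),
    Nat.beq_eq, permOf_apply hg]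
  constructor
  · intro e
    have := congrArg idx e
    rwa [idx_pt (valid_lt hg (idx_lt p))] at this
  · intro e
    rw [e, pt_idx]

theorem smul_sextet {c : Equiv.Perm GolayPt} (hc : c ∈ M24) {S : Finset (Finset GolayPt)}
    (hS : S ∈ sextets) : c • S ∈ sextets := by
  refine ⟨by rw [Finset.card_smul_finset]; exact hS.1, ?_, ?_⟩
  · intro t ht
    obtain ⟨u, hu, rfl⟩ := Finset.mem_smul_finset.1 ht
    rw [Finset.card_smul_finset]; exact hS.2.1 u hu
  · intro t ht u hu hne
    obtain ⟨t', ht', rfl⟩ := Finset.mem_smul_finset.1 ht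
    obtain ⟨u', hu', rfl⟩ := Finset.mem_smul_finset.1 hu
    rw [← Finset.smul_finset_union]
    exact M24_smul_octad hc (hS.2.2 t' ht' u' hu' fun e => hne (by rw [e]))

theorem smul_trio {c : Equiv.Perm GolayPt} (hc : c ∈ M24) {T : Finset (Finset GolayPt)}
    (hT : T ∈ trios) : c • T ∈ trios := by
  refine ⟨by rw [Finset.card_smul_finset]; exact hT.1, ?_, ?_⟩
  · intro t ht
    obtain ⟨u, hu, rfl⟩ := Finset.mem_smul_finset.1 ht
    exact M24_smul_octad hc (hT.2.1 u hu)
  · intro t ht u hu hne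
    obtain ⟨t', ht', rfl⟩ := Finset.mem_smul_finset.1 ht
    obtain ⟨u', hu', rfl⟩ := Finset.mem_smul_finset.1 hu
    rw [Finset.disjoint_left]
    intro x hx hx'
    rw [← Finset.inv_smul_mem_iff] at hx hx'
    exact Finset.disjoint_left.1 (hT.2.2 t' ht' u' hu' fun e => hne (by rw [e])) hx hx'

theorem ncard_fixed_conj {β : Type*} [MulAction (Equiv.Perm GolayPt) β] {A : Set β}
    (hA : ∀ c ∈ M24, ∀ a ∈ A, c • a ∈ A) {c : Equiv.Perm GolayPt} (hc : c ∈ M24)
    (g : Equiv.Perm GolayPt) :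
    {a | a ∈ A ∧ (c * g * c⁻¹) • a = a}.ncard = {a | a ∈ A ∧ g • a = a}.ncard := by
  rw [show {a | a ∈ A ∧ (c * g * c⁻¹) • a = a} = (c • ·) '' {a | a ∈ A ∧ g • a = a} from ?_]
  · exact Set.ncard_image_of_injective _ (MulAction.injective c)
  ext a
  simp only [Set.mem_image, Set.mem_ofPred_eq]
  constructor
  · rintro ⟨ha, h⟩
    refine ⟨c⁻¹ • a, ⟨hA _ (Subgroup.inv_mem _ hc) a ha, ?_⟩, smul_inv_smul c a⟩
    rw [mul_smul, mul_smul] at h
    rw [eq_inv_smul_iff, h]
  · rintro ⟨b, ⟨hb, h⟩, rfl⟩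
    exact ⟨hA c hc b hb, by rw [mul_smul, mul_smul, inv_smul_smul, h]⟩

theorem ncard_fixed_octads {g : ℕ} (hg : valid g = true) :
    {o : Finset GolayPt | o ∈ octads ∧ permOf g • o = o}.ncard =
      (octLit.filter fun m => Nat.beq (mimg g m) m).length := by
  rw [← octList_lit]
  have e : {o : Finset GolayPt | o ∈ octads ∧ permOf g • o = o}.ncard =
      {o : Finset GolayPt | o ∈ octads ∧ ∃ m < 16777216, mset m = o ∧ mimg g m = m}.ncard := by
    congr 1
    ext o
    simp only [Set.mem_ofPred_eq, and_congr_right_iff]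
    intro ho
    obtain ⟨m, hm, rfl⟩ := exists_mset o
    rw [smul_mset hg]
    constructor
    · intro h; exact ⟨m, hm, rfl, mset_inj (mimg_lt hg m) hm h⟩
    · rintro ⟨n, hn, e, h⟩
      rw [mset_inj hn hm e] at h; rw [h]
  rw [e]
  refine ncard_mset_list (fun m hm => isCode_lt (mem_octList.1 (List.mem_filter.1 hm).1).1)
    ((codeList_nodup.filter _).filter _) fun s => ?_
  simp only [Set.mem_ofPred_eq, mem_octads_iff, List.mem_filter, Nat.beq_eq]
  constructor
  · rintro ⟨⟨m, hm, rfl⟩, n, hn, e, h⟩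
    rw [mset_inj hn (isCode_lt (mem_octList.1 hm).1) e] at h
    exact ⟨m, ⟨hm, h⟩, rfl⟩
  · rintro ⟨m, ⟨hm, h⟩, rfl⟩
    exact ⟨⟨m, hm, rfl⟩, m, isCode_lt (mem_octList.1 hm).1, rfl, h⟩

theorem ncard_fixed_dodecads {g : ℕ} (hg : valid g = true) :
    {o : Finset GolayPt | o ∈ dodecads ∧ permOf g • o = o}.ncard =
      (dodLit.filter fun m => Nat.beq (mimg g m) m).length := by
  rw [← dodList_lit]
  refine ncard_mset_list (fun m hm => isCode_lt (mem_dodList.1 (List.mem_filter.1 hm).1).1)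
    ((codeList_nodup.filter _).filter _) fun s => ?_
  simp only [Set.mem_ofPred_eq, mem_dodecads_iff, List.mem_filter, Nat.beq_eq]
  constructor
  · rintro ⟨⟨m, hm, rfl⟩, h⟩
    rw [smul_mset hg] at h
    exact ⟨m, ⟨hm, mset_inj (mimg_lt hg m) (isCode_lt (mem_dodList.1 hm).1) h⟩, rfl⟩
  · rintro ⟨m, ⟨hm, h⟩, rfl⟩
    exact ⟨⟨m, hm, rfl⟩, by rw [smul_mset hg, h]⟩

theorem ncard_fixed_sextets {g : ℕ} (hg : valid g = true) :
    {S : Finset (Finset GolayPt) | S ∈ sextets ∧ permOf g • S = S}.ncard =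
      (sextList.filter (keepsB g)).length :=
  sextets_ncard_filter fun _ hl => keeps_iff hg fun m hm => ((sext_props hl).2.1 m hm).2

/-- The masks of a trio. -/
def trioList (p : ℕ × ℕ) : List ℕ := [p.1, p.2, third p.1 p.2]

theorem trioList_lt {p : ℕ × ℕ} (hp : p ∈ trioPairs) : ∀ m ∈ trioList p, m < 16777216 := by
  obtain ⟨a, b⟩ := p
  obtain ⟨ha, hb, hd, -, -⟩ := mem_trioPairs.1 hp
  obtain ⟨hc, -, -⟩ := third_props ha hb hd
  intro m hm
  simp only [trioList, List.mem_cons, List.not_mem_nil, or_false] at hm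
  rcases hm with rfl | rfl | rfl
  exacts [isCode_lt (mem_octList.1 ha).1, isCode_lt (mem_octList.1 hb).1,
    isCode_lt (mem_octList.1 hc).1]

theorem ncard_fixed_trios {g : ℕ} (hg : valid g = true) :
    {T : Finset (Finset GolayPt) | T ∈ trios ∧ permOf g • T = T}.ncard =
      (trioLit.filter fun p => keepsB g (trioList p)).length := by
  rw [← trioPairs_lit]
  exact trios_ncard_filter fun p hp => by rw [trioSet_eq]; exact keeps_iff hg (trioList_lt hp)

theorem tOct_valid : valid tOct = true := by decide +kernel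
theorem tFree_valid : valid tFree = true := by decide +kernel
theorem sSix_valid : valid sSix = true := by decide +kernel
theorem sFree_valid : valid sFree = true := by decide +kernel
theorem tOct_mem : permOf tOct ∈ M24 := inM24_mem (by decide +kernel)
theorem tFree_mem : permOf tFree ∈ M24 := inM24_mem (by decide +kernel)
theorem sSix_mem : permOf sSix ∈ M24 := inM24_mem (by decide +kernel)
theorem sFree_mem : permOf sFree ∈ M24 := inM24_mem (by decide +kernel)

theorem fixS_tOct : fixS (permOf tOct) = mset (fixMask tOct) :=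
  fixS_permOf tOct_valid (by decide +kernel)
theorem fixS_tOct_octad : fixS (permOf tOct) ∈ octads := by
  rw [fixS_tOct]; exact mem_octads_iff.2 ⟨_, mem_octList.2 (by decide +kernel), rfl⟩
theorem fixS_tOct_card : (fixS (permOf tOct)).card = 8 := by
  rw [fixS_tOct, card_mset]; decide +kernel
theorem fixS_tFree : fixS (permOf tFree) = ∅ := by
  rw [fixS_permOf (m := 0) tFree_valid (by decide +kernel), mset_zero]

theorem fixS_eq_empty_iff {g : Equiv.Perm GolayPt} : fixS g = ∅ ↔ ∀ p, g p ≠ p := by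
  simp [fixS, Finset.filter_eq_empty_iff]

/-- An involution of `M24` is conjugate to `tOct` and fixes 8 points, or to `tFree` and fixes
none. -/
theorem invol_cases {g : Equiv.Perm GolayPt} (hg : g ∈ M24) (h2 : orderOf g = 2) :
    (∃ c ∈ M24, g = c * permOf tOct * c⁻¹ ∧ (fixS g).card = 8) ∨
      ∃ c ∈ M24, g = c * permOf tFree * c⁻¹ ∧ fixS g = ∅ := by
  obtain ⟨c, hc, h | h⟩ := invol_conj hg h2
  · have e : g = c⁻¹ * permOf tOct * c⁻¹⁻¹ := by rw [← h]; group
    exact Or.inl ⟨c⁻¹, Subgroup.inv_mem _ hc, e, by rw [e, card_fixS_conj, fixS_tOct_card]⟩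
  · have e : g = c⁻¹ * permOf tFree * c⁻¹⁻¹ := by rw [← h]; group
    exact Or.inr ⟨c⁻¹, Subgroup.inv_mem _ hc, e, by rw [e, fixS_conj, fixS_tFree]; simp⟩

theorem sSixSq_eq : valid sSixSq = true ∧ permOf sSixSq = permOf sSix * permOf sSix :=
  isProd_sound sSix_valid sSix_valid (by decide +kernel)
theorem sFreeSq_eq : valid sFreeSq = true ∧ permOf sFreeSq = permOf sFree * permOf sFree :=
  isProd_sound sFree_valid sFree_valid (by decide +kernel)
theorem sSix_fix : (fixS (permOf sSix)).card = 6 ∧ (fixS (permOf sSixSq)).card = 6 := by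
  rw [fixS_permOf (m := fixMask sSix) sSix_valid (by decide +kernel),
    fixS_permOf (m := fixMask sSixSq) sSixSq_eq.1 (by decide +kernel), card_mset, card_mset]
  decide +kernel
theorem sFree_fix : fixS (permOf sFree) = ∅ ∧ fixS (permOf sFreeSq) = ∅ := by
  rw [fixS_permOf (m := 0) sFree_valid (by decide +kernel),
    fixS_permOf (m := 0) sFreeSq_eq.1 (by decide +kernel), mset_zero]
  exact ⟨rfl, rfl⟩

/-- An element of order three is, up to inverse, conjugate to `sSix` (six fixed points) or to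
`sFree` (none). -/
theorem order3_cases {g : Equiv.Perm GolayPt} (hg : g ∈ M24) (h3 : orderOf g = 3) :
    (∃ c ∈ M24, (g = c * permOf sSix * c⁻¹ ∨ g = c * permOf sSixSq * c⁻¹) ∧ (fixS g).card = 6) ∨
      ∃ c ∈ M24, (g = c * permOf sFree * c⁻¹ ∨ g = c * permOf sFreeSq * c⁻¹) ∧ fixS g = ∅ := by
  obtain ⟨c, hc, r, hr, h⟩ := order3_conj hg h3
  have e : g = c⁻¹ * permOf r * c⁻¹⁻¹ := by rw [← h]; group
  simp only [List.mem_cons, List.not_mem_nil, or_false] at hr
  rcases hr with rfl | rfl | rfl | rfl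
  · exact Or.inl ⟨c⁻¹, Subgroup.inv_mem _ hc, Or.inl e, by rw [e, card_fixS_conj, sSix_fix.1]⟩
  · exact Or.inr ⟨c⁻¹, Subgroup.inv_mem _ hc, Or.inl e,
      by rw [e, fixS_conj, sFree_fix.1]; simp⟩
  · exact Or.inl ⟨c⁻¹, Subgroup.inv_mem _ hc, Or.inr e, by rw [e, card_fixS_conj, sSix_fix.2]⟩
  · exact Or.inr ⟨c⁻¹, Subgroup.inv_mem _ hc, Or.inr e,
      by rw [e, fixS_conj, sFree_fix.2]; simp⟩

end CfsgLib.Mathieu
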