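import Cfsg.Agent.Lib.Golay.Code

/-! Generated: Sylow 3-subgroup of `M24` as a table, with conjugators. -/

set_option autoImplicit false
set_option maxRecDepth 100000

namespace CfsgLib.Mathieu

/-- Generators of a Sylow 3-subgroup. -/
def sylThreeGens : List ℕ := [20373057195643845402468271944469217, 151451315538706300849355513695578190]

/-- Its elements. -/
def sylThreeTable : List (List ℕ) := [[984818244535754528103549039458486304, 20373057195643845402468271944469217, 151451315538706300849355513695578190, 69423295561125160256430356935313431, 592753073271821928949800499060156514, 134604269982478873938851105793723470, 688859662825681298277036879583610195, 110677359951754254141890424727939523, 596126655500031033291487113707342946, 799056087558247566873907438647215626, 142113443426524384095250065163665486, 684905370392790531978445148866511187, 426680346641685810750658875187289712, 112106882354293880064660543585471939, 442943833438884520781922759852394096, 605457879819895843043405090616098914, 804143602697174947992001424427876874, 681827570428620533024608320831380819, 966516802679650841501311430516881440, 51447103873799561825877501519793175, 103286913652052776444454956334432707, 441814409970910044188688527323595376, 818339552602675011761600642502647306,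 14630725015680980777416221272390369, 972556145144244199891331668184075296, 65378471310323069359768078263597079, 26512068709559095890654672967896801]]

/-- Word tree. -/
def sylThreeTree : List (ℕ × ℕ) := [(0, 0), (1, 0), (0, 1), (1, 1), (0, 2), (1, 2), (1, 3), (0, 4), (1, 4), (0, 5), (1, 5), (0, 6), (0, 7), (1, 7), (0, 8), (1, 8), (0, 9), (1, 11), (1, 12), (0, 13), (1, 13), (0, 14), (1, 16), (1, 17), (1, 21), (1, 22)]

/-- Closure table. -/
def sylThreeClos : List (List ℕ) := [[1, 3, 5, 0, 8, 10, 12, 13, 15, 17, 2, 14, 16, 20, 22, 4, 6, 21, 23, 24, 7, 9, 11, 25, 26, 18, 19],
  [2, 4, 6, 7, 9, 11, 0, 14, 16, 1, 17, 18, 19, 21, 3, 22, 23, 24, 5, 20, 12, 25, 26, 8, 10, 13, 15]]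

/-- Order of the keys. -/
def sylThreePerm : List ℕ := [23, 17, 7, 10, 16, 3, 2, 6, 0, 13, 21, 25, 8, 14, 24, 12, 1, 5, 20, 9, 18, 22, 26, 15, 4, 11, 19]

/-- Conjugators to the representatives. -/
def sylThreeWit : List (List (ℕ × ℕ)) := [[(0, 0), (973135206459819183275216022251278368, 0), (355863419026321509106230400765103168, 0), (70934696551305098137690083434894048, 0), (482460396119128255495287369508160576, 1), (883272734326515620174290954567093312, 1), (346764620058502653343597837851801664, 0), (267749762514447451897113975732610112, 1), (340853159611616096981716659888817216, 1), (268195935190999333807982386059847744, 1), (269010891630679250299102980488858688, 1), (340608898723715869254311212828941376, 1), (358807376141373836426742072626362432, 1), (339671064286070665814181672299576384, 0), (883313021704074170689504369106626624, 1), (694046889493250200696034256411001920, 0), (466876608816565355637143825104067648, 1), (482298017859956607372437425062907968, 1), (383809876777317957753053162037280964, 0), (70713723775677281407359833744706272, 0), (878116444178366057342018826337830976, 1), (682314348335092486766458003199056960, 0), (339630816017717844517269145312271424, 0), (972560815420533050926679905878345760, 0), (269539703335434939223810234493468964,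 0), (59251667140687953360251756965464800, 0), (984818244535754528103549039458486304, 0)]]

end CfsgLib.Mathieu
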