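import Cfsg.Agent.Lib.Mathieu.SylList
import Cfsg.Agent.Lib.Mathieu.Reps
import Cfsg.Agent.Lib.Mathieu.SylTwoData
import Cfsg.Agent.Lib.Mathieu.SylThreeData

/-! The conjugacy classes of elements of orders 2 and 3 of `M24`. -/

set_option autoImplicit false
set_option maxRecDepth 100000

namespace CfsgLib.Mathieu

open Cfsg CfsgLib.Golay
open scoped Pointwise

/-- Every table entry is the identity, or is not of order dividing `p`, or has a conjugator. -/
def clsOK (p n : ℕ) (reps : List ℕ) (T : List (List ℕ)) (W : List (List (ℕ × ℕ))) : Bool :=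
  reps.all valid && (List.range n).all fun k =>
    let g := tget T k
    let w := (W.getD (k / 32) []).getD (k % 32) (0, 0)
    ((List.range 24).all fun i => Nat.beq (img g i) i) ||
    ((List.range 24).any fun i => !Nat.beq (imgIter g p i) i) ||
    (inM24 w.1 && Nat.ble (w.2 + 1) reps.length &&
      (List.range 24).all fun i =>
        Nat.beq (img w.1 (img g i)) (img (reps.getD w.2 idCode) (img w.1 i)))

theorem cls_spec {p a m n : ℕ} [Fact p.Prime] {gs reps : List ℕ} {T : List (List ℕ)}
    {tree : List (ℕ × ℕ)} {clos : List (List ℕ)} {perm : List ℕ} {W : List (List (ℕ × ℕ))}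
    (h : tableOK n gs T tree clos perm = true) (hc : clsOK p n reps T W = true) (hn : n = p ^ a)
    (hm : 244823040 = p ^ a * m) (hpm : ¬ p ∣ m) {x : Equiv.Perm GolayPt} (hx : x ∈ M24)
    (hox : orderOf x = p) :
    ∃ c ∈ M24, ∃ r ∈ reps, c * x * c⁻¹ = permOf r := by
  obtain ⟨c, hcM, k, hk, hv, e⟩ := exists_conj_table h hn hm hpm hx hox
  simp only [clsOK, Bool.and_eq_true, List.all_eq_true] at hc
  have hk' := hc.2 k (List.mem_range.2 hk)
  have hord : orderOf (permOf (tget T k)) = p := by
    rw [← e, ← hox]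
    exact orderOf_injective (MulAut.conj c).toMonoidHom (MulAut.conj c).injective x
  simp only [Bool.or_eq_true, Bool.and_eq_true, List.all_eq_true, List.any_eq_true] at hk'
  rcases hk' with (h1 | ⟨i, hi, h1⟩) | ⟨⟨h1, h2⟩, h3⟩
  · exfalso
    have : permOf (tget T k) = 1 := Equiv.ext fun q => by
      rw [permOf_apply hv, Nat.eq_of_beq_eq_true (h1 _ (List.mem_range.2 (idx_lt q))), pt_idx]; rfl
    rw [this, orderOf_one] at hord
    exact Nat.Prime.ne_one Fact.out hord.symm
  · exfalso
    obtain ⟨hsp, hlt⟩ := imgIter_spec hv p (List.mem_range.1 hi)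
    have hpow : permOf (tget T k) ^ p = 1 := by rw [← hord]; exact pow_orderOf_eq_one _
    rw [hpow] at hsp
    rw [Bool.not_eq_true', ← Bool.not_eq_true] at h1
    apply h1
    have := congrArg idx hsp
    rw [idx_pt hlt, Equiv.Perm.one_apply, idx_pt (List.mem_range.1 hi)] at this
    rw [← this]; exact Nat.beq_refl _
  · set w := (W.getD (k / 32) []).getD (k % 32) (0, 0) with hw
    have hj : w.2 < reps.length := Nat.le_of_ble_eq_true h2
    have hr : reps.getD w.2 idCode ∈ reps := by
      rw [List.getD_eq_getElem _ _ hj]; exact List.getElem_mem hj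
    refine ⟨permOf w.1 * c, Subgroup.mul_mem _ (inM24_mem h1) hcM, _, hr, ?_⟩
    have hwv := inM24_valid h1
    have hrv := hc.1 _ hr
    have e2 : permOf w.1 * permOf (tget T k) = permOf (reps.getD w.2 idCode) * permOf w.1 :=
      Equiv.ext fun q => by
        rw [Equiv.Perm.mul_apply, Equiv.Perm.mul_apply, permOf_apply hv q,
          permOf_apply hwv q, permOf_pt hwv (valid_lt hv (idx_lt q)),
          permOf_pt hrv (valid_lt hwv (idx_lt q)),
          Nat.eq_of_beq_eq_true (h3 _ (List.mem_range.2 (idx_lt q)))]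
    calc permOf w.1 * c * x * (permOf w.1 * c)⁻¹
        = permOf w.1 * (c * x * c⁻¹) * (permOf w.1)⁻¹ := by group
      _ = _ := by rw [e, e2, mul_inv_cancel_right]

theorem sylTwo_ok : tableOK 1024 sylTwoGens sylTwoTable sylTwoTree sylTwoClos sylTwoPerm = true := by
  decide +kernel

theorem sylTwo_cls : clsOK 2 1024 [tOct, tFree] sylTwoTable sylTwoWit = true := by decide +kernel

theorem sylThree_ok :
    tableOK 27 sylThreeGens sylThreeTable sylThreeTree sylThreeClos sylThreePerm = true := by
  decide +kernel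

/-- The squares of the representatives of order three. -/
def sSixSq : ℕ := sSixPows.getD 1 0
/-- The square of `sFree`. -/
def sFreeSq : ℕ := sFreePows.getD 1 0

theorem sylThree_cls :
    clsOK 3 27 [sSix, sFree, sSixSq, sFreeSq] sylThreeTable sylThreeWit = true := by
  decide +kernel

/-- An involution of `M24` is conjugate to `tOct` or to `tFree`. -/
theorem invol_conj {x : Equiv.Perm GolayPt} (hx : x ∈ M24) (h2 : orderOf x = 2) :
    ∃ c ∈ M24, c * x * c⁻¹ = permOf tOct ∨ c * x * c⁻¹ = permOf tFree := by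
  haveI : Fact (Nat.Prime 2) := ⟨Nat.prime_two⟩
  obtain ⟨c, hc, r, hr, e⟩ := cls_spec (m := 239085) (a := 10) sylTwo_ok sylTwo_cls (by norm_num)
    (by norm_num) (by norm_num) hx h2
  simp only [List.mem_cons, List.not_mem_nil, or_false] at hr
  exact ⟨c, hc, hr.elim (fun h => Or.inl (h ▸ e)) fun h => Or.inr (h ▸ e)⟩

/-- An element of order three of `M24` or its inverse is conjugate to `sSix` or to `sFree`. -/
theorem order3_conj {x : Equiv.Perm GolayPt} (hx : x ∈ M24) (h3 : orderOf x = 3) :
    ∃ c ∈ M24, ∃ r ∈ [sSix, sFree, sSixSq, sFreeSq], c * x * c⁻¹ = permOf r := by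
  haveI : Fact (Nat.Prime 3) := ⟨Nat.prime_three⟩
  exact cls_spec (m := 9067520) (a := 3) sylThree_ok sylThree_cls (by norm_num) (by norm_num)
    (by norm_num) hx h3

end CfsgLib.Mathieu
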