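import Cfsg.Agent.Lib.Mathieu.Comm
import Cfsg.Agent.Lib.Golay.Trans

/-! The elements of a certified centraliser as words in the transversals. -/

set_option autoImplicit false
set_option maxRecDepth 100000

namespace CfsgLib.Mathieu

open Cfsg CfsgLib.Golay
open scoped Pointwise

/-- All choices of one transversal element per level. -/
def cWords : List CLevel → List (List ℕ)
  | [] => [[]]
  | lv :: L => lv.2.1.flatMap fun g => (cWords L).map (g :: ·)

/-- Image of a point number under a word. -/
def wImg : List ℕ → ℕ → ℕ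
  | [], i => i
  | g :: w, i => img g (wImg w i)

theorem wImg_spec : ∀ {w : List ℕ}, (∀ g ∈ w, valid g = true) → ∀ {i : ℕ}, i < 24 →
    (w.map permOf).prod (pt i) = pt (wImg w i) ∧ wImg w i < 24
  | [], _, i, hi => ⟨rfl, hi⟩
  | g :: w, hv, i, hi => by
    obtain ⟨h1, h2⟩ := wImg_spec (w := w) (fun a ha => hv a (List.mem_cons_of_mem _ ha)) hi
    refine ⟨?_, valid_lt (hv g List.mem_cons_self) h2⟩
    rw [List.map_cons, List.prod_cons, Equiv.Perm.mul_apply, h1,
      permOf_pt (hv g List.mem_cons_self) h2]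
    rfl

theorem cChain_words : ∀ {L : List CLevel} {X ts : List ℕ} {fin : List (ℕ × ℕ × ℕ)},
    cChainOK X ts L fin = true → ∀ σ ∈ commFix X ts,
      ∃ w ∈ cWords L, (∀ g ∈ w, valid g = true) ∧ σ = (w.map permOf).prod
  | [], X, ts, fin, h, σ, hσ => by
    refine ⟨[], List.mem_singleton_self _, fun _ hg => absurd hg (List.not_mem_nil), ?_⟩
    have h1 : Nat.card (fixMasks X) = 1 := card_fixMasks h
    have : σ ∈ (⊥ : Subgroup (Equiv.Perm GolayPt)) := by
      rw [← Subgroup.eq_bot_of_card_eq _ h1]; exact hσ.1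
    simpa using this
  | lv :: L, X, ts, fin, h, σ, hσ => by
    simp only [cChainOK, Bool.and_eq_true] at h
    obtain ⟨hb, -, hv, hgs, horb⟩ := cLevelOK_unpack h.1
    have hmem := (horb (σ (pt lv.1))).1 ⟨σ, hσ, rfl⟩
    obtain ⟨g, hg, hgi⟩ := testBit_orbMask.1 (mem_mset.1 hmem)
    have hgG := hgs g hg
    have hgv : valid g = true := by
      have h' := h.1
      simp only [cLevelOK, Bool.and_eq_true, List.all_eq_true] at h'
      exact inFix_valid (h'.1.2 g hg).1
    have hg' : permOf g (pt lv.1) = σ (pt lv.1) := by rw [permOf_pt hgv hb, hgi, pt_idx]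
    have hτ : (permOf g)⁻¹ * σ ∈ commFix (nextX X ts lv.1) ts := by
      refine (mem_commFix_next hv hb).2 ⟨Subgroup.mul_mem _ (Subgroup.inv_mem _ hgG) hσ, ?_⟩
      rw [Equiv.Perm.mul_apply, ← hg', Equiv.Perm.inv_def, Equiv.symm_apply_apply]
    obtain ⟨w, hw, hwv, e⟩ := cChain_words h.2 _ hτ
    refine ⟨g :: w, List.mem_flatMap.2 ⟨g, hg, List.mem_map.2 ⟨w, hw, rfl⟩⟩, ?_, ?_⟩
    · intro a ha
      rcases List.mem_cons.1 ha with rfl | ha
      exacts [hgv, hwv a ha]
    · rw [List.map_cons, List.prod_cons, ← e, mul_inv_cancel_left]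

/-- Every involutory word is trivial or fixes exactly `k` points. -/
def invFixB (k : ℕ) (L : List CLevel) : Bool :=
  (cWords L).all fun w =>
    ((List.range 24).any fun i => !Nat.beq (wImg w (wImg w i)) i) ||
    ((List.range 24).all fun i => Nat.beq (wImg w i) i) ||
    Nat.beq ((List.range 24).filter fun i => Nat.beq (wImg w i) i).length k

theorem invFix_sound {k : ℕ} {L : List CLevel} {X ts : List ℕ} {fin : List (ℕ × ℕ × ℕ)}
    (h : cChainOK X ts L fin = true) (hk : invFixB k L = true) {σ : Equiv.Perm GolayPt}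
    (hσ : σ ∈ commFix X ts) (h2 : orderOf σ = 2) :
    (Finset.univ.filter fun p => σ p = p).card = k := by
  obtain ⟨w, hw, hwv, rfl⟩ := cChain_words h σ hσ
  set σ := (w.map permOf).prod with hσdef
  simp only [invFixB, List.all_eq_true, Bool.or_eq_true, List.any_eq_true] at hk
  rcases hk w hw with (⟨i, hi, e⟩ | e) | e
  · exfalso
    obtain ⟨h1, h1'⟩ := wImg_spec hwv (List.mem_range.1 hi)
    have hh := (wImg_spec hwv h1').1
    have hsq : σ * σ = 1 := by rw [← pow_two, ← h2]; exact pow_orderOf_eq_one σ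
    have : (σ * σ) (pt i) = pt i := by rw [hsq]; rfl
    rw [Equiv.Perm.mul_apply, h1, hh] at this
    have := congrArg idx this
    rw [idx_pt (wImg_spec hwv h1').2, idx_pt (List.mem_range.1 hi)] at this
    simp [this] at e
  · exfalso
    have : σ = 1 := Equiv.ext fun q => by
      have := (wImg_spec hwv (idx_lt q)).1
      rw [pt_idx, Nat.eq_of_beq_eq_true (e _ (List.mem_range.2 (idx_lt q))), pt_idx] at this
      exact this
    rw [this, orderOf_one] at h2; omega
  · rw [← Nat.eq_of_beq_eq_true e]
    have hset : (Finset.univ.filter fun p => σ p = p) =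
        (((List.range 24).filter fun i => Nat.beq (wImg w i) i).map pt).toFinset := by
      ext q
      simp only [Finset.mem_filter, Finset.mem_univ, true_and, List.mem_toFinset, List.mem_map,
        List.mem_filter, List.mem_range, Nat.beq_eq]
      constructor
      · intro hq
        have h1 := wImg_spec hwv (idx_lt q)
        rw [pt_idx, hq] at h1
        refine ⟨idx q, ⟨idx_lt q, ?_⟩, pt_idx q⟩
        have := congrArg idx h1.1
        rwa [idx_pt h1.2, eq_comm] at this
      · rintro ⟨i, ⟨hi, hie⟩, rfl⟩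
        rw [(wImg_spec hwv hi).1, hie]
    rw [hset, List.toFinset_card_of_nodup, List.length_map]
    refine (List.nodup_range.filter _).map_on fun a ha b hb h => ?_
    have ha' := List.mem_range.1 (List.mem_filter.1 ha).1
    have hb' := List.mem_range.1 (List.mem_filter.1 hb).1
    rw [← idx_pt ha', h, idx_pt hb']

end CfsgLib.Mathieu
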