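import Cfsg.Agent.Lib.Golay.SteinerIso

/-! Self-dual binary codes of length 24 and minimum weight 8. -/

set_option autoImplicit false
set_option maxRecDepth 100000

namespace CfsgLib.Mathieu

open Cfsg CfsgLib.Golay

variable {α : Type*} [Fintype α] [DecidableEq α]

/-- A binary code of length 24, dimension 12, self-orthogonal, of minimum weight at least 8. -/
structure ExtGolay (C : Submodule (ZMod 2) (α → ZMod 2)) : Prop where
  card : Fintype.card α = 24
  dim : Module.finrank (ZMod 2) C = 12
  orth : ∀ v ∈ C, ∀ w ∈ C, ∑ i, v i * w i = 0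
  min : ∀ w ∈ C, w ≠ 0 → 8 ≤ (support₂ w).card

variable {C : Submodule (ZMod 2) (α → ZMod 2)}

theorem support_eq_hamming (w : α → ZMod 2) : hammingNorm w = (support₂ w).card := rfl

theorem support_add_le (v w : α → ZMod 2) :
    (support₂ (v + w)).card + 2 * (support₂ v ∩ support₂ w).card =
      (support₂ v).card + (support₂ w).card := by
  rw [support₂_add', symmDiff_def, Finset.sup_eq_union,
    Finset.card_union_of_disjoint disjoint_sdiff_sdiff, Finset.card_sdiff, Finset.card_sdiff,
    Finset.inter_comm (support₂ w) (support₂ v)]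
  have h1 : (support₂ v ∩ support₂ w).card ≤ (support₂ v).card :=
    Finset.card_le_card Finset.inter_subset_left
  have h2 : (support₂ v ∩ support₂ w).card ≤ (support₂ w).card :=
    Finset.card_le_card Finset.inter_subset_right
  omega

theorem indWord_mem_iff {w : α → ZMod 2} {s : Finset α} (h : support₂ w = s) : w = indWord s := by
  rw [← h, indWord_support]

namespace ExtGolay

theorem eq_of_small (h : ExtGolay C) {v w : α → ZMod 2} (hv : v ∈ C) (hw : w ∈ C)
    (hs : (support₂ (v + w)).card < 8) : v = w := by
  by_contra hne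
  have : v + w ≠ 0 := fun e => hne (by
    funext i
    have := congrFun e i
    simp only [Pi.add_apply, Pi.zero_apply] at this
    generalize v i = a at this ⊢; generalize w i = b at this ⊢
    revert this; revert a b; decide)
  have := h.min _ (C.add_mem hv hw) this
  omega

theorem natCard (h : ExtGolay C) : Nat.card C = 4096 := by
  rw [Module.natCard_eq_pow_finrank (K := ZMod 2), h.dim]; simp

/-- The small sets avoiding a coordinate. -/
def small (i : α) : Finset (Finset α) :=
  ((Finset.univ.erase i).powerset).filter fun T => T.card ≤ 3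

theorem card_small (h : ExtGolay C) (i : α) : (small i).card = 2048 := by
  have e : small i = (Finset.range 4).biUnion fun k => (Finset.univ.erase i).powersetCard k := by
    ext T
    simp [small, Finset.mem_powersetCard]
    constructor <;> rintro ⟨h1, h2⟩ <;> refine ⟨?_, ?_⟩ <;> first | assumption | omega
  rw [e, Finset.card_biUnion]
  · simp only [Finset.card_powersetCard, Finset.card_erase_of_mem (Finset.mem_univ i),
      Finset.card_univ, h.card]
    decide
  · intro a _ b _ hab
    exact Finset.pairwise_disjoint_powersetCard _ hab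

/-- Deleting one coordinate leaves a perfect code. -/
theorem puncture (h : ExtGolay C) (i : α) (v : α → ZMod 2) :
    ∃ c ∈ C, ((support₂ (v + c)).erase i).card ≤ 3 := by
  classical
  haveI : Fintype C := Fintype.ofFinite _
  let Z := {z : α → ZMod 2 // z i = 0}
  let f : C × (small i : Finset (Finset α)) → Z := fun p =>
    ⟨fun j => if j = i then 0 else p.1.1 j + indWord p.2.1 j, by simp⟩
  have hsmall : ∀ T : (small i : Finset (Finset α)), T.1.card ≤ 3 := fun T =>
    (Finset.mem_filter.1 T.2).2
  have hinj : Function.Injective f := by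
    rintro ⟨c, T⟩ ⟨c', T'⟩ e
    have e' : ∀ j, j ≠ i → c.1 j + indWord T.1 j = c'.1 j + indWord T'.1 j := fun j hj => by
      have := congrFun (congrArg Subtype.val e) j
      simpa [f, hj] using this
    have hsub : support₂ (c.1 + c'.1) ⊆ insert i (T.1 ∪ T'.1) := by
      intro j hj
      by_contra hn
      simp only [Finset.mem_insert, Finset.mem_union, not_or] at hn
      have := e' j hn.1
      simp only [indWord, hn.2.1, hn.2.2, if_false, add_zero] at this
      simp only [support₂, Finset.mem_filter, Pi.add_apply, this] at hj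
      exact hj.2 (by generalize c'.1 j = a; revert a; decide)
    have hc : c = c' := Subtype.ext (h.eq_of_small c.2 c'.2 (by
      have h1 := Finset.card_le_card hsub
      have h2 := Finset.card_insert_le i (T.1 ∪ T'.1)
      have h3 := Finset.card_union_le T.1 T'.1
      have := hsmall T; have := hsmall T'
      omega))
    subst hc
    refine Prod.ext rfl (Subtype.ext (Finset.ext fun j => ?_))
    have hT : ∀ U : (small i : Finset (Finset α)), i ∉ U.1 := fun U hi =>
      (Finset.mem_erase.1 (Finset.mem_powerset.1 (Finset.mem_filter.1 U.2).1 hi)).1 rfl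
    by_cases hj : j = i
    · subst hj; simp [hT]
    · have := add_left_cancel (e' j hj)
      simp only [indWord] at this
      by_cases a : j ∈ T.1 <;> by_cases b : j ∈ T'.1 <;> simp_all
  have hcard : Fintype.card (C × (small i : Finset (Finset α))) = Fintype.card Z := by
    rw [Fintype.card_prod, Fintype.card_coe, h.card_small i, ← Nat.card_eq_fintype_card, h.natCard]
    have e : Z ≃ ({j // j ≠ i} → ZMod 2) :=
      { toFun := fun z j => z.1 j.1
        invFun := fun g => ⟨fun j => if hj : j = i then 0 else g ⟨j, hj⟩, by simp⟩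
        left_inv := fun z => Subtype.ext (funext fun j => by
          by_cases hj : j = i
          · subst hj; simp [z.2]
          · simp [hj])
        right_inv := fun g => funext fun j => by simp [j.2] }
    rw [Fintype.card_congr e, Fintype.card_fun, Fintype.card_subtype_compl, Fintype.card_subtype_eq,
      h.card, ZMod.card]
    norm_num
  obtain ⟨⟨c, T⟩, hT⟩ := ((Fintype.bijective_iff_injective_and_card f).2 ⟨hinj, hcard⟩).2
    ⟨fun j => if j = i then 0 else v j, by simp⟩
  refine ⟨c.1, c.2, le_trans (Finset.card_le_card ?_) (hsmall T)⟩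
  intro j hj
  rw [Finset.mem_erase] at hj
  have := congrFun (congrArg Subtype.val hT) j
  simp only [f, if_neg hj.1, indWord] at this
  have h2 := hj.2
  simp only [support₂, Finset.mem_filter, Pi.add_apply] at h2
  by_contra hjT
  rw [if_neg hjT, add_zero] at this
  rw [← this] at h2
  exact h2.2 (by generalize c.1 j = a; revert a; decide)

/-- Every five coordinates lie in exactly one octad. -/
theorem octad_unique (h : ExtGolay C) {s : Finset α} (hs : s.card = 5) :
    ∃! b, b ∈ wordsOfWeight (C : Set (α → ZMod 2)) 8 ∧ s ⊆ b := by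
  classical
  obtain ⟨i, hi⟩ := Finset.card_pos.1 (show 0 < s.card by omega)
  obtain ⟨c, hc, hle⟩ := h.puncture i (indWord (s.erase i))
  have hT : (s.erase i).card = 4 := by rw [Finset.card_erase_of_mem hi]; omega
  have hsupp : support₂ (indWord (s.erase i) + c) = symmDiff (s.erase i) (support₂ c) := by
    rw [support₂_add', support_indWord]
  rw [hsupp] at hle
  have hne : c ≠ 0 := by
    rintro rfl
    rw [support₂_zero', show (∅ : Finset α) = ⊥ from rfl, symmDiff_bot,
      Finset.erase_eq_of_notMem (Finset.notMem_erase i s)] at hle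
    omega
  have h8 := h.min c hc hne
  set K := (support₂ c).erase i with hK
  have e1 : (symmDiff (s.erase i) (support₂ c)).erase i = (s.erase i \ K) ∪ (K \ s.erase i) := by
    ext j; simp [Finset.mem_symmDiff, hK]; tauto
  rw [e1, Finset.card_union_of_disjoint disjoint_sdiff_sdiff, Finset.card_sdiff, Finset.card_sdiff,
    Finset.inter_comm (s.erase i) K] at hle
  have hm1 : (K ∩ s.erase i).card ≤ 4 := hT ▸ Finset.card_le_card Finset.inter_subset_right
  have hm2 : (K ∩ s.erase i).card ≤ K.card := Finset.card_le_card Finset.inter_subset_left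
  have hKc : (support₂ c).card ≤ K.card + 1 := by
    have := Finset.pred_card_le_card_erase (s := support₂ c) (a := i)
    rw [← hK] at this
    omega
  have hmem : i ∈ support₂ c := by
    by_contra hn
    have : K = support₂ c := Finset.erase_eq_of_notMem hn
    rw [this] at hle hm2 hm1
    omega
  have hKe : K.card + 1 = (support₂ c).card := Finset.card_erase_add_one hmem
  have hsub : s ⊆ support₂ c := by
    have : K ∩ s.erase i = s.erase i :=
      Finset.eq_of_subset_of_card_le Finset.inter_subset_right (by omega)
    intro j hj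
    by_cases e : j = i
    · rwa [e]
    · have hjm : j ∈ K ∩ s.erase i := by rw [this]; exact Finset.mem_erase.2 ⟨e, hj⟩
      exact Finset.mem_of_mem_erase (Finset.mem_inter.1 hjm).1
  refine ⟨support₂ c, ⟨⟨⟨c, hc, rfl⟩, by omega⟩, hsub⟩, ?_⟩
  rintro b ⟨⟨⟨d, hd, rfl⟩, hb8⟩, hsb⟩
  have := h.eq_of_small hd hc (by
    have h1 := support_add_le d c
    have h2 : 5 ≤ (support₂ d ∩ support₂ c).card :=
      hs ▸ Finset.card_le_card (Finset.subset_inter hsb hsub)
    omega)
  rw [this]

theorem steiner (h : ExtGolay C) :
    IsSteinerSystem 5 8 (wordsOfWeight (C : Set (α → ZMod 2)) 8) :=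
  ⟨fun _ hb => hb.2, fun _ hs => h.octad_unique hs⟩

/-- The code is equivalent to the standard one, and is spanned by its words of weight 8. -/
theorem equiv (h : ExtGolay C) :
    ∃ e : α ≃ GolayPt, (∀ w : α → ZMod 2, w ∈ C ↔ (fun p => w (e.symm p)) ∈ golayCode) ∧
      C = Submodule.span (ZMod 2) {w | w ∈ C ∧ (support₂ w).card = 8} := by
  classical
  obtain ⟨e, he⟩ := steiner24_iso h.card h.steiner
  let φ : (GolayPt → ZMod 2) →ₗ[ZMod 2] (α → ZMod 2) := LinearMap.funLeft (ZMod 2) (ZMod 2) e
  have hφ : Function.Injective φ := LinearMap.funLeft_injective_of_surjective _ _ _ e.surjective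
  set S := Submodule.span (ZMod 2) {w | w ∈ C ∧ (support₂ w).card = 8} with hS
  have hSC : S ≤ C := Submodule.span_le.2 fun w hw => hw.1
  have hgen : ∀ x ∈ gens, φ (mword x) ∈ S := by
    intro x hx
    have hx8 : mset x ∈ octads := by
      have : gens.all (fun x => isCode x && Nat.beq (pop x) 8) = true := by decide +kernel
      have := List.all_eq_true.1 this x hx
      simp only [Bool.and_eq_true] at this
      exact mem_octads_iff.2 ⟨x, mem_octList.2 ⟨this.1, Nat.eq_of_beq_eq_true this.2⟩, rfl⟩
    have himg : ((mset x).image e.symm).image e = mset x := by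
      rw [Finset.image_image]; simp
    obtain ⟨⟨w, hw, hwe⟩, h8⟩ := (he _).1 (himg ▸ hx8)
    refine Submodule.subset_span ?_
    have : φ (mword x) = w := by
      apply support₂_inj'
      rw [hwe, ← support_mword]
      ext j
      rw [Finset.mem_image]
      unfold support₂
      simp only [Finset.mem_filter, Finset.mem_univ, true_and]
      simp only [φ, LinearMap.funLeft_apply]
      exact ⟨fun hj => ⟨e j, hj, e.symm_apply_apply j⟩,
        fun ⟨a, ha, hab⟩ => by rwa [← hab, e.apply_symm_apply]⟩
    rw [this]; exact ⟨hw, hwe ▸ h8⟩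
  have hle : golayCode.map φ ≤ S := by
    rintro _ ⟨z, hz, rfl⟩
    obtain ⟨m, hm, rfl⟩ := mem_golayCode_iff.1 hz
    have := mword_enc_mem_submodule (S.comap φ) hgen (m % 4096)
    rwa [isCode_iff.1 hm] at this
  have hcard : Nat.card golayCode = 4096 := by
    have e' : (golayCode : Set (GolayPt → ZMod 2)) =
        ↑((Finset.range 4096).image fun k => mword (enc k)) := by
      ext z
      simp only [SetLike.mem_coe, Finset.coe_image, Set.mem_image, Finset.coe_range, Set.mem_Iio]
      constructor
      · intro hz
        obtain ⟨m, hm, rfl⟩ := mem_golayCode_iff.1 hz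
        exact ⟨m % 4096, Nat.mod_lt _ (by norm_num), by rw [isCode_iff.1 hm]⟩
      · rintro ⟨k, -, rfl⟩; exact mword_enc_mem k
    show Nat.card (golayCode : Set (GolayPt → ZMod 2)) = 4096
    rw [Nat.card_coe_set_eq, e', Set.ncard_coe_finset, Finset.card_image_of_injOn, Finset.card_range]
    intro a ha b hb hab
    simp only [Finset.coe_range, Set.mem_Iio] at ha hb
    have := mword_inj (enc_facts a ha).2 (enc_facts b hb).2 hab
    rw [← (enc_facts a ha).1, this, (enc_facts b hb).1]
  have heq : golayCode.map φ = C := by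
    refine SetLike.coe_injective (Set.eq_of_subset_of_ncard_le (hle.trans hSC) ?_ (Set.toFinite _))
    rw [← Nat.card_coe_set_eq, ← Nat.card_coe_set_eq, SetLike.coe_sort_coe, SetLike.coe_sort_coe,
      h.natCard, ← Nat.card_congr (Submodule.equivMapOfInjective φ hφ golayCode).toEquiv, hcard]
  refine ⟨e, fun w => ?_, le_antisymm (heq ▸ hle) hSC⟩
  rw [← heq, Submodule.mem_map]
  constructor
  · rintro ⟨z, hz, rfl⟩
    convert hz using 1
    funext p
    simp [φ, LinearMap.funLeft_apply]
  · intro hw
    exact ⟨_, hw, by funext j; simp [φ, LinearMap.funLeft_apply]⟩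

theorem four_dvd (h : ExtGolay C) {w : α → ZMod 2} (hw : w ∈ C) : 4 ∣ (support₂ w).card := by
  obtain ⟨e, he, -⟩ := h.equiv
  obtain ⟨m, hm, hmw⟩ := mem_golayCode_iff.1 ((he w).1 hw)
  have : (support₂ w).card = pop m := by
    rw [← card_mset, ← support_mword, hmw]
    refine (Finset.card_bij (fun j _ => e j) ?_ (fun a _ b _ hab => e.injective hab) ?_)
    · intro j hj; simpa [support₂] using hj
    · intro p hp; exact ⟨e.symm p, by simpa [support₂] using hp, by simp⟩
  rw [this]
  rcases isCode_weights hm with h' | h' | h' | h' | h' <;> rw [h'] <;> norm_num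

theorem exists_eight (h : ExtGolay C) : ∃ w ∈ C, (support₂ w).card = 8 := by
  classical
  obtain ⟨s, -, hs⟩ := Finset.exists_subset_card_eq
    (show 5 ≤ (Finset.univ : Finset α).card by rw [Finset.card_univ, h.card]; norm_num)
  obtain ⟨b, ⟨⟨⟨w, hw, rfl⟩, hb⟩, -⟩, -⟩ := h.octad_unique hs
  exact ⟨w, hw, hb⟩

/-- Coset leaders: one word of weight at most 3, or a sextet of words of weight 4. -/
theorem leaders (h : ExtGolay C) (w : α → ZMod 2) :
    (∃ u, {u : α → ZMod 2 | u - w ∈ C ∧ (support₂ u).card ≤ 4} = {u} ∧ (support₂ u).card ≤ 3) ∨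
    ({u : α → ZMod 2 | u - w ∈ C ∧ (support₂ u).card ≤ 4}.ncard = 6 ∧
      ∀ u ∈ {u : α → ZMod 2 | u - w ∈ C ∧ (support₂ u).card ≤ 4}, (support₂ u).card = 4 ∧
      ∀ u' ∈ {u : α → ZMod 2 | u - w ∈ C ∧ (support₂ u).card ≤ 4}, u ≠ u' →
        Disjoint (support₂ u) (support₂ u')) := by
  classical
  set L := {u : α → ZMod 2 | u - w ∈ C ∧ (support₂ u).card ≤ 4} with hL
  have hneg : ∀ u : α → ZMod 2, -u = u := fun u => by
    funext j; simp only [Pi.neg_apply]; generalize u j = a; revert a; decide
  have hsub : ∀ u v : α → ZMod 2, u - v = u + v := fun u v => by rw [sub_eq_add_neg, hneg]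
  have diff : ∀ u ∈ L, ∀ u' ∈ L, u ≠ u' → (support₂ u).card = 4 ∧ (support₂ u').card = 4 ∧
      Disjoint (support₂ u) (support₂ u') := by
    intro u hu u' hu' hne
    have hmem : u + u' ∈ C := by
      have := C.sub_mem hu.1 hu'.1
      rwa [sub_sub_sub_cancel_right, hsub] at this
    have hne' : u + u' ≠ 0 := fun e => hne (by rwa [← hsub, sub_eq_zero] at e)
    have h8 := h.min _ hmem hne'
    have e := support_add_le u u'
    have h4 := hu.2
    have h4' := hu'.2
    refine ⟨by omega, by omega, ?_⟩
    rw [Finset.disjoint_iff_inter_eq_empty, ← Finset.card_eq_zero]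
    omega
  obtain ⟨i⟩ : Nonempty α := Fintype.card_pos_iff.1 (by rw [h.card]; norm_num)
  obtain ⟨c, hc, hle⟩ := h.puncture i w
  have hu0 : w + c ∈ L := by
    refine ⟨by rw [add_sub_cancel_left]; exact hc, ?_⟩
    have := Finset.pred_card_le_card_erase (s := support₂ (w + c)) (a := i)
    omega
  by_cases h3 : ∃ u ∈ L, (support₂ u).card ≤ 3
  · obtain ⟨u, hu, hu3⟩ := h3
    refine Or.inl ⟨u, Set.eq_singleton_iff_unique_mem.2 ⟨hu, fun u' hu' => ?_⟩, hu3⟩
    by_contra hne
    have := (diff u hu u' hu' (Ne.symm hne)).1
    omega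
  · push Not at h3
    have all4 : ∀ u ∈ L, (support₂ u).card = 4 := fun u hu => by
      have := h3 u hu; have := hu.2; omega
    refine Or.inr ⟨?_, fun u hu => ⟨all4 u hu, fun u' hu' hne => (diff u hu u' hu' hne).2.2⟩⟩
    haveI : Fintype L := Fintype.ofFinite _
    have hd : ((L.toFinset : Finset (α → ZMod 2)) : Set (α → ZMod 2)).PairwiseDisjoint support₂ :=
      fun u hu u' hu' hne => (diff u (by simpa using hu) u' (by simpa using hu') hne).2.2
    have hcov : L.toFinset.biUnion support₂ = Finset.univ := by
      rw [Finset.eq_univ_iff_forall]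
      intro p
      simp only [Finset.mem_biUnion, Set.mem_toFinset]
      set u0 := w + c
      by_cases hp : p ∈ support₂ u0
      · exact ⟨u0, hu0, hp⟩
      · obtain ⟨b, ⟨⟨⟨d, hd', rfl⟩, hb⟩, hsb⟩, -⟩ := h.octad_unique
          (s := insert p (support₂ u0)) (by rw [Finset.card_insert_of_notMem hp, all4 u0 hu0])
        have h2 : support₂ u0 ⊆ support₂ d := (Finset.subset_insert _ _).trans hsb
        have hp2 : p ∈ support₂ d := hsb (Finset.mem_insert_self _ _)
        refine ⟨u0 + d, ⟨?_, ?_⟩, ?_⟩
        · rw [add_sub_right_comm, show u0 - w = c by rw [add_sub_cancel_left]]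
          exact C.add_mem hc hd'
        · have e := support_add_le u0 d
          rw [Finset.inter_eq_left.2 h2, hb, all4 u0 hu0] at e
          omega
        · rw [support₂_add', Finset.mem_symmDiff]
          exact Or.inr ⟨hp2, hp⟩
    have := congrArg Finset.card hcov
    rw [Finset.card_biUnion hd, Finset.sum_congr rfl fun u hu => all4 u (by simpa using hu),
      Finset.sum_const, Finset.card_univ, h.card, smul_eq_mul] at this
    rw [Set.ncard_eq_toFinset_card']
    omega

end ExtGolay

end CfsgLib.Mathieu
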