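import Cfsg.Agent.Lib.Golay.Gen

/-! Orders of centralisers in `M24` from certificates, and refutations of conjugacy. -/

set_option autoImplicit false
set_option maxRecDepth 100000

namespace CfsgLib.Mathieu

open Cfsg CfsgLib.Golay
open scoped Pointwise

/-- The facts forced on an element intertwining the pairs of `ts` that sends `b` to `y`. -/
def tFacts (ts : List (ℕ × ℕ)) (b y : ℕ) : List (ℕ × ℕ) :=
  (Nat.shiftLeft 1 b, Nat.shiftLeft 1 y) ::
    ts.map fun p => (Nat.shiftLeft 1 (img p.1 b), Nat.shiftLeft 1 (img p.2 y))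

theorem tFacts_sound {ts : List (ℕ × ℕ)} (hv : ∀ p ∈ ts, valid p.1 = true ∧ valid p.2 = true)
    {σ : Equiv.Perm GolayPt} (hts : ∀ p ∈ ts, σ * permOf p.1 = permOf p.2 * σ)
    {b y : ℕ} (hb : b < 24) (hy : y < 24) (hby : σ (pt b) = pt y) :
    ∀ f ∈ tFacts ts b y, MapsTo24 σ f := by
  have key : ∀ i j : ℕ, i < 24 → j < 24 → σ (pt i) = pt j →
      MapsTo24 σ (Nat.shiftLeft 1 i, Nat.shiftLeft 1 j) := by
    intro i j hi hj hij
    refine ⟨?_, ?_, ?_⟩
    · show 1 <<< i < _
      rw [Nat.one_shiftLeft]; exact Nat.pow_lt_pow_right (by norm_num) hi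
    · show 1 <<< j < _
      rw [Nat.one_shiftLeft]; exact Nat.pow_lt_pow_right (by norm_num) hj
    · have := (smul_mset_bit σ hi (q := pt j)).2 hij
      rwa [idx_pt hj] at this
  intro f hf
  rcases List.mem_cons.1 hf with rfl | hf
  · exact key b y hb hy hby
  obtain ⟨p, hp, rfl⟩ := List.mem_map.1 hf
  obtain ⟨h1, h2⟩ := hv p hp
  refine key _ _ (valid_lt h1 hb) (valid_lt h2 hy) ?_
  have := congrArg (fun π : Equiv.Perm GolayPt => π (pt b)) (hts p hp)
  simp only [Equiv.Perm.mul_apply] at this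
  rwa [permOf_pt h1 hb, hby, permOf_pt h2 hy] at this

/-- `g` commutes with `t`, both as encoded permutations. -/
def commB (t g : ℕ) : Bool :=
  valid t && valid g && (List.range 24).all fun i => Nat.beq (img g (img t i)) (img t (img g i))

theorem commB_sound {t g : ℕ} (h : commB t g = true) :
    permOf g * permOf t = permOf t * permOf g := by
  simp only [commB, Bool.and_eq_true, List.all_eq_true] at h
  obtain ⟨⟨ht, hg⟩, ha⟩ := h
  refine Equiv.ext fun p => ?_
  rw [Equiv.Perm.mul_apply, Equiv.Perm.mul_apply, permOf_apply ht p, permOf_apply hg p,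
    permOf_pt hg (valid_lt ht (idx_lt p)), permOf_pt ht (valid_lt hg (idx_lt p)),
    Nat.eq_of_beq_eq_true (ha _ (List.mem_range.2 (idx_lt p)))]

/-- The elements of `fixMasks X` commuting with every permutation in `ts`. -/
def commFix (X ts : List ℕ) : Subgroup (Equiv.Perm GolayPt) where
  carrier := {σ | σ ∈ fixMasks X ∧ ∀ t ∈ ts, σ * permOf t = permOf t * σ}
  one_mem' := ⟨Subgroup.one_mem _, fun t _ => by rw [one_mul, mul_one]⟩
  mul_mem' := fun {a b} ha hb => ⟨Subgroup.mul_mem _ ha.1 hb.1, fun t ht => by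
    rw [mul_assoc, hb.2 t ht, ← mul_assoc, ha.2 t ht, mul_assoc]⟩
  inv_mem' := fun {a} ha => ⟨Subgroup.inv_mem _ ha.1, fun t ht => by
    rw [inv_mul_eq_iff_eq_mul, ← mul_assoc, ha.2 t ht, mul_inv_cancel_right]⟩

theorem mem_commFix {X ts : List ℕ} {σ : Equiv.Perm GolayPt} :
    σ ∈ commFix X ts ↔ σ ∈ fixMasks X ∧ ∀ t ∈ ts, σ * permOf t = permOf t * σ := Iff.rfl

/-- The pairs `(t, t)`. -/
def diagT (ts : List ℕ) : List (ℕ × ℕ) := ts.map fun t => (t, t)

/-- A refutation: either a derivation, or a point `c < 24` with a derivation for each image. -/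
abbrev Ref : Type := ℕ × List (List (ℕ × ℕ × ℕ))

/-- The refutation contradicts the facts `F` for intertwiners of `ts`. -/
def refB (ts : List (ℕ × ℕ)) (F : List (ℕ × ℕ)) (r : Ref) : Bool :=
  bif Nat.ble r.1 23 then
    (List.range 24).all fun z => refutes (r.2.getD z []) (tFacts ts r.1 z ++ F)
  else refutes (r.2.getD 0 []) F

theorem refB_sound {ts : List (ℕ × ℕ)} (hv : ∀ p ∈ ts, valid p.1 = true ∧ valid p.2 = true)
    {σ : Equiv.Perm GolayPt} (hσ : σ ∈ M24)
    (hts : ∀ p ∈ ts, σ * permOf p.1 = permOf p.2 * σ) {F : List (ℕ × ℕ)} {r : Ref}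
    (h : refB ts F r = true) : ¬ ∀ p ∈ F, MapsTo24 σ p := by
  intro hF
  rw [refB] at h
  cases hc : Nat.ble r.1 23 with
  | true =>
    simp only [hc, cond_true, List.all_eq_true] at h
    have hc' : r.1 < 24 := Nat.lt_succ_of_le (Nat.le_of_ble_eq_true hc)
    refine refutes_sound hσ (h _ (List.mem_range.2 (idx_lt (σ (pt r.1))))) fun p hp => ?_
    rcases List.mem_append.1 hp with hp | hp
    · exact tFacts_sound hv hts hc' (idx_lt _) (by rw [pt_idx]) p hp
    · exact hF p hp
  | false =>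
    simp only [hc, cond_false] at h
    exact refutes_sound hσ h hF

/-- A level: base point, transversal and refutations. -/
abbrev CLevel : Type := ℕ × List ℕ × List (ℕ × Ref)

/-- Product of the orbit lengths. -/
def cCard : List CLevel → ℕ
  | [] => 1
  | lv :: L => pop (orbMask lv.1 lv.2.1) * cCard L

/-- Correctness of one level over `commFix X ts`. -/
def cLevelOK (X ts : List ℕ) (lv : CLevel) : Bool :=
  Nat.ble lv.1 23 && X.all (fun A => Nat.ble A 16777215) && ts.all valid &&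
  lv.2.1.all (fun g => inFix X g && ts.all fun t => commB t g) &&
  (List.range 24).all fun y => Nat.testBit (orbMask lv.1 lv.2.1) y ||
    lv.2.2.any fun r => Nat.beq r.1 y &&
      refB (diagT ts) (tFacts (diagT ts) lv.1 y ++ diagFacts X) r.2

/-- The masks to be fixed once the point `b` is fixed. -/
def nextX (X ts : List ℕ) (b : ℕ) : List ℕ :=
  Nat.shiftLeft 1 b :: (ts.map fun t => Nat.shiftLeft 1 (img t b)) ++ X

theorem mem_commFix_next {X ts : List ℕ} (hts : ∀ t ∈ ts, valid t = true) {b : ℕ} (hb : b < 24)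
    {σ : Equiv.Perm GolayPt} :
    σ ∈ commFix (nextX X ts b) ts ↔ σ ∈ commFix X ts ∧ σ (pt b) = pt b := by
  simp only [mem_commFix, mem_fixMasks, nextX, List.forall_mem_append, List.forall_mem_cons,
    List.forall_mem_map]
  have eb : σ • mset (Nat.shiftLeft 1 b) = mset (Nat.shiftLeft 1 b) ↔ σ (pt b) = pt b := by
    have := smul_mset_bit σ hb (q := pt b)
    rwa [idx_pt hb] at this
  constructor
  · rintro ⟨⟨h1, ⟨h2, -⟩, h4⟩, h5⟩
    exact ⟨⟨⟨h1, h4⟩, h5⟩, eb.1 h2⟩
  · rintro ⟨⟨⟨h1, h4⟩, h5⟩, h6⟩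
    refine ⟨⟨h1, ⟨eb.2 h6, fun t ht => ?_⟩, h4⟩, h5⟩
    have hv := hts t ht
    have h := tFacts_sound (ts := [(t, t)]) (by simpa using hv) (by simpa using h5 t ht) hb hb h6
      (Nat.shiftLeft 1 (img t b), Nat.shiftLeft 1 (img t b)) (by simp [tFacts])
    exact h.2.2

theorem cLevelOK_unpack {X ts : List ℕ} {lv : CLevel} (h : cLevelOK X ts lv = true) :
    lv.1 < 24 ∧ (∀ A ∈ X, A < 16777216) ∧ (∀ t ∈ ts, valid t = true) ∧
    (∀ g ∈ lv.2.1, permOf g ∈ commFix X ts) ∧
    ∀ q : GolayPt, ((∃ σ ∈ commFix X ts, σ (pt lv.1) = q) ↔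
      q ∈ mset (orbMask lv.1 lv.2.1)) := by
  simp only [cLevelOK, Bool.and_eq_true, List.all_eq_true] at h
  obtain ⟨⟨⟨⟨hb, hX⟩, hv⟩, hT⟩, hR⟩ := h
  have hb' : lv.1 < 24 := Nat.lt_succ_of_le (Nat.le_of_ble_eq_true hb)
  have hX' : ∀ A ∈ X, A < 16777216 :=
    fun A hA => Nat.lt_succ_of_le (Nat.le_of_ble_eq_true (hX A hA))
  have hT' : ∀ g ∈ lv.2.1, permOf g ∈ commFix X ts := fun g hg => by
    have := hT g hg
    exact ⟨inFix_mem this.1, fun t ht => commB_sound (this.2 t ht)⟩
  refine ⟨hb', hX', hv, hT', fun q => ?_⟩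
  rw [mem_mset]
  constructor
  · rintro ⟨σ, hσ, hq⟩
    have := hR (idx q) (List.mem_range.2 (idx_lt q))
    rw [Bool.or_eq_true] at this
    rcases this with h' | h'
    · exact h'
    exfalso
    rw [List.any_eq_true] at h'
    obtain ⟨r, -, hr⟩ := h'
    rw [Bool.and_eq_true] at hr
    have hv2 : ∀ p ∈ diagT ts, valid p.1 = true ∧ valid p.2 = true := fun p hp => by
      obtain ⟨t, ht, rfl⟩ := List.mem_map.1 hp
      exact ⟨hv t ht, hv t ht⟩
    have hc2 : ∀ p ∈ diagT ts, σ * permOf p.1 = permOf p.2 * σ := fun p hp => by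
      obtain ⟨t, ht, rfl⟩ := List.mem_map.1 hp
      exact hσ.2 t ht
    refine refB_sound hv2 (fixMasks_le X hσ.1) hc2 hr.2 fun p hp => ?_
    rcases List.mem_append.1 hp with hp | hp
    · exact tFacts_sound hv2 hc2 hb' (idx_lt q) (by rw [hq, pt_idx]) p hp
    · exact diagFacts_sound hX' hσ.1 p hp
  · intro hq
    obtain ⟨g, hg, hgq⟩ := testBit_orbMask.1 hq
    exact ⟨permOf g, hT' g hg,
      by rw [permOf_pt (inFix_valid (hT g hg).1) hb', hgq, pt_idx]⟩

/-- All levels check and the last group is pinned down to the identity. -/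
def cChainOK : List ℕ → List ℕ → List CLevel → List (ℕ × ℕ × ℕ) → Bool
  | X, _, [], fin => Golay.chainOK X [] fin
  | X, ts, lv :: L, fin => cLevelOK X ts lv && cChainOK (nextX X ts lv.1) ts L fin

theorem card_commFix : ∀ {L : List CLevel} {X ts : List ℕ} {fin : List (ℕ × ℕ × ℕ)},
    cChainOK X ts L fin = true → Nat.card (commFix X ts) = cCard L
  | [], X, ts, fin, h => by
    have h1 : Nat.card (fixMasks X) = 1 := card_fixMasks h
    have h2 : commFix X ts ≤ fixMasks X := fun _ hs => hs.1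
    have h3 := Subgroup.card_dvd_of_le h2
    rw [h1] at h3
    exact Nat.dvd_one.1 h3
  | lv :: L, X, ts, fin, h => by
    simp only [cChainOK, Bool.and_eq_true] at h
    obtain ⟨hb, -, hv, -, horb⟩ := cLevelOK_unpack h.1
    have h1 := Nat.card_congr
      (MulAction.orbitProdStabilizerEquivGroup (↥(commFix X ts)) (pt lv.1))
    rw [Nat.card_prod] at h1
    rw [cCard, ← card_mset, ← card_commFix h.2, ← h1]
    congr 1
    · have e : MulAction.orbit (↥(commFix X ts)) (pt lv.1) =
          (↑(mset (orbMask lv.1 lv.2.1)) : Set GolayPt) := by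
        ext q
        rw [Finset.mem_coe, ← horb q]
        constructor
        · rintro ⟨⟨σ, hσ⟩, rfl⟩; exact ⟨σ, hσ, rfl⟩
        · rintro ⟨σ, hσ, rfl⟩; exact ⟨⟨σ, hσ⟩, rfl⟩
      rw [Nat.card_congr (Equiv.setCongr e)]
      simp
    · refine Nat.card_congr
        { toFun := fun s => ⟨s.1.1, (mem_commFix_next hv hb).2 ⟨s.1.2, ?_⟩⟩
          invFun := fun s => ⟨⟨s.1, ((mem_commFix_next hv hb).1 s.2).1⟩, ?_⟩
          left_inv := fun _ => rfl
          right_inv := fun _ => rfl }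
      · exact MulAction.mem_stabilizer_iff.1 s.2
      · exact MulAction.mem_stabilizer_iff.2 ((mem_commFix_next hv hb).1 s.2).2

theorem mem_commFix_one {t : ℕ} {σ : Equiv.Perm GolayPt} :
    σ ∈ commFix [] [t] ↔ σ ∈ M24 ∧ σ * permOf t = permOf t * σ := by
  simp [mem_commFix, fixMasks_nil]

/-- No element of `M24` intertwines the pairs of `ts`. -/
def noIntertwiner (ts : List (ℕ × ℕ)) (b : ℕ) (R : List Ref) : Bool :=
  Nat.ble b 23 && ts.all (fun p => valid p.1 && valid p.2) &&
  (List.range 24).all fun y => refB ts (tFacts ts b y ++ diagFacts []) (R.getD y (24, []))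

theorem noIntertwiner_sound {ts : List (ℕ × ℕ)} {b : ℕ} {R : List Ref}
    (h : noIntertwiner ts b R = true) {σ : Equiv.Perm GolayPt} (hσ : σ ∈ M24) :
    ¬ ∀ p ∈ ts, σ * permOf p.1 = permOf p.2 * σ := by
  simp only [noIntertwiner, Bool.and_eq_true, List.all_eq_true] at h
  obtain ⟨⟨hb, hv⟩, hR⟩ := h
  intro hts
  have hb' : b < 24 := Nat.lt_succ_of_le (Nat.le_of_ble_eq_true hb)
  refine refB_sound hv hσ hts (hR _ (List.mem_range.2 (idx_lt (σ (pt b))))) ?_
  intro p hp
  rcases List.mem_append.1 hp with hp | hp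
  · exact tFacts_sound hv hts hb' (idx_lt _) (by rw [pt_idx]) p hp
  · rw [show p = (16777215, 16777215) by simpa [diagFacts] using hp]
    exact mapsTo24_full σ

end CfsgLib.Mathieu
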