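import Cfsg.Agent.Lib.BlockB.ClassMul
import Cfsg.Agent.Lib.Char.Orthogonality
import Cfsg.Agent.Lib.Block.DegreeAux
import Cfsg.Agent.Lib.Block.Blocks

/-!
# Character values at elements of prime order with few fusion classes

If all generators of `⟨x⟩` are conjugate to `x` or its inverse, a symmetric character has an integer
value at `x` congruent to its degree modulo the order.
-/

set_option autoImplicit false

namespace CfsgLib.Mathieu

open Cfsg CfsgLib.Char
open scoped ComplexConjugate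

universe u

variable {G : Type u} [Group G] [Finite G]

/-- Every non-zero residue mod `q` is plus or minus a power of `r`. -/
def genPM (q r : ℕ) : Bool :=
  (List.range q).all fun i => i == 0 ||
    (List.range q).any fun j => i == r ^ j % q || (i + r ^ j) % q == 0

theorem value_int {q r d : ℕ} (hq : q.Prime) (hgen : genPM q r = true) {x : G}
    (hx : orderOf x = q) (hfus : ∃ n : G, n * x * n⁻¹ = x ^ r) {φ : G → ℂ}
    (hφ : IsCharacter G φ) (hsym : ∀ g, φ g⁻¹ = φ g) (hd : φ 1 = (d : ℂ)) :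
    ∃ k : ℤ, φ x = (k : ℂ) ∧ (q : ℤ) ∣ (d : ℤ) - k := by
  classical
  have := Fintype.ofFinite G
  have := Fact.mk hq
  obtain ⟨n, hn⟩ := hfus
  have hcf := isCharacter_isClassFunction hφ
  have hr : ∀ j, φ (x ^ (r ^ j)) = φ x := by
    intro j
    induction j with
    | zero => rw [pow_zero, pow_one]
    | succ j ih =>
      rw [pow_succ', pow_mul, ← hn, conj_pow]
      exact (hcf _ _).trans ih
  have hxq : x ^ q = 1 := hx ▸ pow_orderOf_eq_one x
  have hconst : ∀ i, i < q → i ≠ 0 → φ (x ^ i) = φ x := by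
    intro i hi hi0
    simp only [genPM, List.all_eq_true, List.mem_range, Bool.or_eq_true, beq_iff_eq,
      List.any_eq_true] at hgen
    obtain ⟨j, -, e | e⟩ := (hgen i hi).resolve_left hi0
    · rw [e, ← hr j, ← hx, pow_mod_orderOf]
    · have e1 : x ^ i * x ^ (r ^ j) = 1 := by
        rw [← pow_add, ← pow_mod_orderOf, hx, e, pow_zero]
      rw [eq_inv_of_mul_eq_one_left e1, hsym, hr]
  let C := Subgroup.zpowers x
  have hcard : Nat.card C = q := by rw [Nat.card_zpowers, hx]
  obtain ⟨m, hm⟩ := classInner_isCharacter_nat (isCharacter_restrict hφ C)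
    (irr_isCharacter (CfsgLib.Char.isIrrCharacter_one (G := C)))
  have hsum : ∑ c : C, φ c = (q : ℂ) * m := by
    rw [classInner_def, hcard, inv_mul_eq_iff_eq_mul₀ (Nat.cast_ne_zero.2 hq.ne_zero)] at hm
    simpa using hm
  have hval : ∀ c : C, c ≠ 1 → φ c = φ x := by
    rintro ⟨c, hc⟩ hne
    obtain ⟨i, hi⟩ := mem_zpowers_iff_mem_range_orderOf.1 hc |> Finset.mem_image.1
    obtain ⟨hi, rfl⟩ := hi
    rw [Finset.mem_range, hx] at hi
    refine hconst i hi fun h0 => hne ?_
    subst h0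
    exact Subtype.ext (pow_zero x)
  rw [← Finset.add_sum_erase _ _ (Finset.mem_univ (1 : C)),
    Finset.sum_congr rfl fun c hc => hval c (Finset.ne_of_mem_erase hc), Finset.sum_const,
    Finset.card_erase_of_mem (Finset.mem_univ _), Finset.card_univ, ← Nat.card_eq_fintype_card,
    hcard, nsmul_eq_mul, OneMemClass.coe_one, hd, Nat.cast_sub hq.one_le, Nat.cast_one] at hsum
  have hq1 : ((q : ℚ) - 1) ≠ 0 := by
    have h2 : (2 : ℚ) ≤ q := by exact_mod_cast hq.two_le
    linarith
  have hq1' : ((q : ℂ) - 1) ≠ 0 := by exact_mod_cast hq1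
  have hrat : φ x = (((q * m - d : ℚ) / ((q : ℚ) - 1) : ℚ) : ℂ) := by
    push_cast
    rw [eq_div_iff hq1']
    linear_combination hsum
  have hint : IsIntegral ℤ (φ x) := by
    obtain ⟨N, ρ, rfl⟩ := hφ
    exact char_isIntegral ρ x
  rw [hrat] at hint
  obtain ⟨k, hk⟩ := exists_int_of_isIntegral_rat hint
  refine ⟨k, by rw [hrat, hk]; push_cast; rfl, (m : ℤ) - k, ?_⟩
  rw [div_eq_iff hq1] at hk
  have : (q : ℤ) * m - d = k * ((q : ℤ) - 1) := by exact_mod_cast hk
  linarith

theorem charDegree_facts (χ : IrrCharacter G) :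
    ((charDegree (χ : G → ℂ) : ℕ) : ℂ) = (χ : G → ℂ) 1 ∧
      charDegree (χ : G → ℂ) ∣ Nat.card G :=
  ⟨CfsgLib.BlockB.irr_degree_cast χ, CfsgLib.BlockB.irr_degree_dvd_card χ⟩

/-- The squared absolute value at `x`. -/
theorem norm_sq_int {q r : ℕ} (hq : q.Prime) (hgen : genPM q r = true) {x : G}
    (hx : orderOf x = q) (hfus : ∃ n : G, n * x * n⁻¹ = x ^ r) (χ : IrrCharacter G) :
    ∃ n : ℕ, ‖(χ : G → ℂ) x‖ ^ 2 = (n : ℝ) ∧
      (q : ℤ) ∣ (charDegree (χ : G → ℂ) : ℤ) ^ 2 - n ∧
      (charDegree (χ : G → ℂ)) ^ 2 ∣ (Subgroup.centralizer ({x} : Set G)).index ^ 2 * n := by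
  classical
  have := Fintype.ofFinite G
  have hχ := irr_isCharacter χ.2
  obtain ⟨hd, -⟩ := charDegree_facts χ
  have hφ := isCharacter_mul hχ (isCharacter_conj hχ)
  obtain ⟨k, hk, hdvd⟩ := value_int (d := charDegree (χ : G → ℂ) ^ 2) hq hgen hx hfus hφ
    (fun g => by simp [char_inv hχ, mul_comm]) (by
      simp only [Pi.mul_apply, ← hd, Complex.conj_natCast]; push_cast; ring)
  simp only [Pi.mul_apply, Complex.mul_conj'] at hk
  have hk0 : 0 ≤ k := by
    have h1 : ((‖(χ : G → ℂ) x‖ ^ 2 : ℝ) : ℂ) = ((k : ℝ) : ℂ) := by push_cast; exact_mod_cast hk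
    have h2 := Complex.ofReal_inj.1 h1
    exact_mod_cast h2 ▸ sq_nonneg ‖(χ : G → ℂ) x‖
  obtain ⟨n, rfl⟩ := Int.eq_ofNat_of_zero_le hk0
  refine ⟨n, ?_, ?_, ?_⟩
  · have h1 : ((‖(χ : G → ℂ) x‖ ^ 2 : ℝ) : ℂ) = ((n : ℝ) : ℂ) := by push_cast; exact_mod_cast hk
    exact Complex.ofReal_inj.1 h1
  · push_cast at hdvd; exact hdvd
  · have hω := CfsgLib.BlockB.irr_centralChar_isIntegral χ x
    have hω' := CfsgLib.BlockB.irr_centralChar_isIntegral χ x⁻¹
    have hind : (Subgroup.centralizer ({x⁻¹} : Set G)) = Subgroup.centralizer ({x} : Set G) := by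
      ext g
      rw [Subgroup.mem_centralizer_singleton_iff, Subgroup.mem_centralizer_singleton_iff]
      exact Commute.inv_right_iff
    refine dvd_of_isIntegral_div (pow_pos (CfsgLib.BlockB.irr_degree_pos χ) 2) ?_
    have := hω.mul hω'
    unfold centralChar at this
    rw [hind, char_inv hχ, ← hd] at this
    have hn' : (n : ℂ) = ((χ : G → ℂ) x) * conj ((χ : G → ℂ) x) := by
      rw [Complex.mul_conj', hk]; push_cast; rfl
    push_cast
    rw [hn']
    rw [show ((Subgroup.centralizer ({x} : Set G)).index : ℂ) ^ 2 *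
        ((χ : G → ℂ) x * conj ((χ : G → ℂ) x)) / (charDegree (χ : G → ℂ) : ℂ) ^ 2 =
      (Subgroup.centralizer ({x} : Set G)).index * (χ : G → ℂ) x / (charDegree (χ : G → ℂ) : ℂ) *
        ((Subgroup.centralizer ({x} : Set G)).index * conj ((χ : G → ℂ) x) /
          (charDegree (χ : G → ℂ) : ℂ)) by rw [div_mul_div_comm]; ring]
    exact this

/-- Twice the real part at `x`. -/
theorem trace_int {q r : ℕ} (hq : q.Prime) (hgen : genPM q r = true) {x : G}
    (hx : orderOf x = q) (hfus : ∃ n : G, n * x * n⁻¹ = x ^ r) (χ : IrrCharacter G) :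
    ∃ k : ℤ, 2 * ((χ : G → ℂ) x).re = (k : ℝ) ∧
      (q : ℤ) ∣ 2 * (charDegree (χ : G → ℂ) : ℤ) - k ∧
      ((k : ℝ) ^ 2 ≤ 4 * ‖(χ : G → ℂ) x‖ ^ 2) := by
  have hχ := irr_isCharacter χ.2
  obtain ⟨hd, -⟩ := charDegree_facts χ
  obtain ⟨k, hk, hdvd⟩ := value_int (d := 2 * charDegree (χ : G → ℂ)) hq hgen hx hfus
    (isCharacter_add hχ (isCharacter_conj hχ))
    (fun g => by simp [char_inv hχ, add_comm]) (by
      simp only [Pi.add_apply, ← hd, Complex.conj_natCast]; push_cast; ring)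
  simp only [Pi.add_apply, Complex.add_conj] at hk
  have hk' : 2 * ((χ : G → ℂ) x).re = (k : ℝ) := by exact_mod_cast hk
  refine ⟨k, hk', by push_cast at hdvd; exact hdvd, ?_⟩
  rw [← hk']
  have h1 := Complex.abs_re_le_norm ((χ : G → ℂ) x)
  have h2 := abs_nonneg ((χ : G → ℂ) x).re
  nlinarith [sq_abs ((χ : G → ℂ) x).re]

/-- The class of `x`. -/
noncomputable def cls [Fintype G] (x : G) : Finset G := by
  classical exact Finset.univ.filter (IsConj x)

theorem card_cls [Fintype G] (x : G) :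
    (cls x).card = (Subgroup.centralizer ({x} : Set G)).index := by
  classical
  set C := Subgroup.centralizer ({x} : Set G)
  have hwd : ∀ a b : G, a⁻¹ * b ∈ C → a * x * a⁻¹ = b * x * b⁻¹ := by
    intro a b h
    have h' := Subgroup.mem_centralizer_singleton_iff.1 h
    calc a * x * a⁻¹ = a * (x * (a⁻¹ * b)) * b⁻¹ := by group
      _ = b * x * b⁻¹ := by rw [← h']; group
  let f : G ⧸ C → {y // y ∈ cls x} := Quotient.lift
    (fun a => ⟨a * x * a⁻¹, by simp [cls, isConj_iff]⟩)
    fun a b h => Subtype.ext (hwd a b (QuotientGroup.leftRel_apply.1 h))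
  have hf : Function.Bijective f := by
    refine ⟨?_, ?_⟩
    · rintro ⟨a⟩ ⟨b⟩ h
      refine QuotientGroup.eq.2 (Subgroup.mem_centralizer_singleton_iff.2 ?_)
      have h' : a * x * a⁻¹ = b * x * b⁻¹ := congrArg Subtype.val h
      calc a⁻¹ * b * x = a⁻¹ * (b * x * b⁻¹) * b := by group
        _ = x * (a⁻¹ * b) := by rw [← h']; group
    · rintro ⟨y, hy⟩
      simp only [cls, Finset.mem_filter, Finset.mem_univ, true_and, isConj_iff] at hy
      obtain ⟨a, ha⟩ := hy
      exact ⟨QuotientGroup.mk a, Subtype.ext ha⟩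
  rw [Subgroup.index, Nat.card_congr (Equiv.ofBijective f hf), Nat.card_eq_fintype_card,
    Fintype.card_coe]

theorem cls_value [Fintype G] {x g : G} (hg : g ∈ cls x) {φ : G → ℂ}
    (hφ : IsClassFunction G φ) : φ g = φ x := by
  simp only [cls, Finset.mem_filter] at hg
  exact (isClassFunction_isConj hφ hg.2).symm

theorem cls_order [Fintype G] {x g : G} (hg : g ∈ cls x) : orderOf g = orderOf x := by
  simp only [cls, Finset.mem_filter] at hg
  obtain ⟨a, rfl⟩ := isConj_iff.1 hg.2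
  exact (MulAut.conj a).orderOf_eq x

theorem cls_disjoint [Fintype G] {x y : G} (h : orderOf x ≠ orderOf y) :
    Disjoint (cls x) (cls y) :=
  Finset.disjoint_left.2 fun _ hg hg' => h ((cls_order hg).symm.trans (cls_order hg'))

theorem cls_disjoint_inv [Fintype G] {x : G} (h : ∀ g : G, g * x * g⁻¹ ≠ x⁻¹) :
    Disjoint (cls x) (cls x⁻¹) := by
  refine Finset.disjoint_left.2 fun y hy hy' => ?_
  simp only [cls, Finset.mem_filter] at hy hy'
  obtain ⟨a, ha⟩ := isConj_iff.1 (hy.2.trans hy'.2.symm)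
  exact h a ha

theorem centralizer_inv_index (x : G) :
    (Subgroup.centralizer ({x⁻¹} : Set G)).index = (Subgroup.centralizer ({x} : Set G)).index := by
  congr 1
  ext g
  rw [Subgroup.mem_centralizer_singleton_iff, Subgroup.mem_centralizer_singleton_iff]
  exact Commute.inv_right_iff

end CfsgLib.Mathieu
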