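import Cfsg.Agent.Lib.Golay.OrbitOctad

/-! Distances in the graph of octads, adjacency being disjointness. -/

set_option autoImplicit false
set_option maxRecDepth 100000

namespace CfsgLib.Mathieu

open Cfsg CfsgLib.Golay
open scoped Pointwise

theorem pair_move {o o' : Finset GolayPt} (ho : o ∈ octads) (ho' : o' ∈ octads) {b : ℕ}
    (hb : b ∈ octList) (h : (mset octMask ∩ mset b).card = (o ∩ o').card) :
    ∃ g : M24, g • mset octMask = o ∧ g • mset b = o' := by
  obtain ⟨c, hc⟩ := M24_trans_octads octMask_mem ho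
  have hb' : mset b ∈ octads := mem_octads_iff.2 ⟨b, hb, rfl⟩
  obtain ⟨g, hg, hg'⟩ := octad_stab_trans ho ((smul_mem_octads_iff c).2 hb') ho' (by
    rw [← h]; conv_lhs => rw [← hc]
    exact smul_inter_card c _ _)
  exact ⟨g * c, by rw [mul_smul, hc, hg], by rw [mul_smul, hg']⟩

theorem disjoint_smul {g : M24} {a b : Finset GolayPt} :
    Disjoint (g • a) (g • b) ↔ Disjoint a b := by
  simp only [Finset.disjoint_iff_inter_eq_empty, ← Finset.card_eq_zero, smul_inter_card]

theorem mset_disjoint {a b : ℕ} (h : Nat.beq (pop (Nat.land a b)) 0 = true) :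
    Disjoint (mset a) (mset b) := by
  rw [Finset.disjoint_iff_inter_eq_empty, ← mset_and, ← Finset.card_eq_zero, card_mset]
  exact Nat.eq_of_beq_eq_true h

theorem inter_card_mset (a b : ℕ) : (mset a ∩ mset b).card = pop (Nat.land a b) := by
  rw [← card_mset, ← mset_and]; rfl

theorem oct_of_check {a : ℕ} (h : (isCode a && Nat.beq (pop a) 8) = true) : a ∈ octList := by
  simp only [Bool.and_eq_true] at h
  exact mem_octList.2 ⟨h.1, Nat.eq_of_beq_eq_true h.2⟩

theorem no_common : octList.all (fun x => !Nat.beq (pop (Nat.land x octMask)) 0 ||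
    !Nat.beq (pop (Nat.land x 5279)) 0) = true := by decide +kernel

theorem adj_iff {o o' : octads} :
    (blockGraph octads).Adj o o' ↔ Disjoint (o : Finset GolayPt) o' := by
  rw [blockGraph, SimpleGraph.fromRel_adj]
  constructor
  · rintro ⟨-, h | h⟩
    exacts [h, h.symm]
  · intro h
    refine ⟨fun e => ?_, Or.inl h⟩
    rw [e, disjoint_self, Finset.bot_eq_empty] at h
    have := o'.2.2
    rw [h] at this; simp at this

theorem common_nbr {o o' : Finset GolayPt} (ho : o ∈ octads) (ho' : o' ∈ octads)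
    (h : (o ∩ o').card = 4) : ∃ x ∈ octads, Disjoint o x ∧ Disjoint x o' := by
  obtain ⟨g, h1, h2⟩ := pair_move ho ho' (oct_of_check (by decide +kernel : _ = true))
    (show (mset octMask ∩ mset 95313).card = _ by rw [h, inter_card_mset]; decide +kernel)
  refine ⟨g • mset 2130606, (smul_mem_octads_iff g).2 (mem_octads_iff.2 ⟨2130606,
    oct_of_check (by decide +kernel), rfl⟩), ?_, ?_⟩
  · rw [← h1, disjoint_smul]; exact mset_disjoint (by decide +kernel)
  · rw [← h2, disjoint_smul]; exact mset_disjoint (by decide +kernel)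

theorem path_two {o o' : Finset GolayPt} (ho : o ∈ octads) (ho' : o' ∈ octads)
    (h : (o ∩ o').card = 2) :
    (∃ x ∈ octads, ∃ y ∈ octads, Disjoint o x ∧ Disjoint x y ∧ Disjoint y o') ∧
      ∀ x ∈ octads, ¬ (Disjoint o x ∧ Disjoint x o') := by
  obtain ⟨g, h1, h2⟩ := pair_move ho ho' (oct_of_check (by decide +kernel : _ = true))
    (show (mset octMask ∩ mset 5279).card = _ by rw [h, inter_card_mset]; decide +kernel)
  refine ⟨⟨g • mset 1613974, (smul_mem_octads_iff g).2 (mem_octads_iff.2 ⟨1613974,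
    oct_of_check (by decide +kernel), rfl⟩), g • mset 6750560, (smul_mem_octads_iff g).2
    (mem_octads_iff.2 ⟨6750560, oct_of_check (by decide +kernel), rfl⟩), ?_, ?_, ?_⟩, ?_⟩
  · rw [← h1, disjoint_smul]; exact mset_disjoint (by decide +kernel)
  · rw [disjoint_smul]; exact mset_disjoint (by decide +kernel)
  · rw [← h2, disjoint_smul]; exact mset_disjoint (by decide +kernel)
  · rintro x hx ⟨d1, d2⟩
    obtain ⟨m, hm, e⟩ := mem_octads_iff.1 ((smul_mem_octads_iff g⁻¹).2 hx)
    have hx' : x = g • mset m := by rw [e, smul_inv_smul]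
    rw [hx', ← h1, disjoint_smul, Finset.disjoint_iff_inter_eq_empty, ← Finset.card_eq_zero,
      inter_card_mset] at d1
    rw [hx', ← h2, disjoint_smul, Finset.disjoint_iff_inter_eq_empty, ← Finset.card_eq_zero,
      inter_card_mset] at d2
    have := List.all_eq_true.1 no_common m hm
    rw [show Nat.land octMask m = Nat.land m octMask from Nat.land_comm _ _] at d1
    rw [d1, d2] at this
    exact absurd this (by decide)

theorem octad_dist (o o' : Finset GolayPt) (ho : o ∈ octads) (ho' : o' ∈ octads) (hne : o ≠ o') :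
    (blockGraph octads).Connected ∧
    ((blockGraph octads).dist ⟨o, ho⟩ ⟨o', ho'⟩ = 1 ↔ (o ∩ o').card = 0) ∧
    ((blockGraph octads).dist ⟨o, ho⟩ ⟨o', ho'⟩ = 2 ↔ (o ∩ o').card = 4) ∧
    ((blockGraph octads).dist ⟨o, ho⟩ ⟨o', ho'⟩ = 3 ↔ (o ∩ o').card = 2) := by
  have hcases : ∀ {a b : Finset GolayPt}, a ∈ octads → b ∈ octads → a ≠ b →
      (a ∩ b).card = 4 ∨ (a ∩ b).card = 2 ∨ (a ∩ b).card = 0 := by
    intro a b ha hb hab
    rcases octads_inter_cases ha hb with h | h | h | h
    · exact absurd (octads_eq_of_five ha hb (by omega)) hab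
    all_goals simp [h]
  have dcases : ∀ (a b : Finset GolayPt) (ha : a ∈ octads) (hb : b ∈ octads), a ≠ b →
      (blockGraph octads).Reachable ⟨a, ha⟩ ⟨b, hb⟩ ∧
      ((a ∩ b).card = 0 → (blockGraph octads).dist ⟨a, ha⟩ ⟨b, hb⟩ = 1) ∧
      ((a ∩ b).card = 4 → (blockGraph octads).dist ⟨a, ha⟩ ⟨b, hb⟩ = 2) ∧
      ((a ∩ b).card = 2 → (blockGraph octads).dist ⟨a, ha⟩ ⟨b, hb⟩ = 3) := by
    intro a b ha hb hab
    have hne' : (⟨a, ha⟩ : octads) ≠ ⟨b, hb⟩ := fun e => hab (congrArg Subtype.val e)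
    have h0 : (a ∩ b).card = 0 → (blockGraph octads).dist ⟨a, ha⟩ ⟨b, hb⟩ = 1 := fun h =>
      SimpleGraph.dist_eq_one_iff_adj.2 (adj_iff.2 (Finset.disjoint_iff_inter_eq_empty.2
        (Finset.card_eq_zero.1 h)))
    have h4 : (a ∩ b).card = 4 → (blockGraph octads).dist ⟨a, ha⟩ ⟨b, hb⟩ = 2 := fun h => by
      obtain ⟨x, hx, d1, d2⟩ := common_nbr ha hb h
      let w : (blockGraph octads).Walk ⟨a, ha⟩ ⟨b, hb⟩ :=
        .cons (adj_iff.2 d1 : (blockGraph octads).Adj ⟨a, ha⟩ ⟨x, hx⟩)
          (.cons (adj_iff.2 d2) .nil)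
      have hle : (blockGraph octads).dist ⟨a, ha⟩ ⟨b, hb⟩ ≤ 2 := SimpleGraph.dist_le w
      have hpos := (w.reachable).pos_dist_of_ne hne'
      have h1 : (blockGraph octads).dist ⟨a, ha⟩ ⟨b, hb⟩ ≠ 1 := fun e => by
        have := Finset.disjoint_iff_inter_eq_empty.1
          (adj_iff.1 (SimpleGraph.dist_eq_one_iff_adj.1 e))
        simp only at this
        rw [this] at h; simp at h
      omega
    have h2 : (a ∩ b).card = 2 → (blockGraph octads).dist ⟨a, ha⟩ ⟨b, hb⟩ = 3 := fun h => by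
      obtain ⟨⟨x, hx, y, hy, d1, d2, d3⟩, hno⟩ := path_two ha hb h
      let w : (blockGraph octads).Walk ⟨a, ha⟩ ⟨b, hb⟩ :=
        .cons (adj_iff.2 d1 : (blockGraph octads).Adj ⟨a, ha⟩ ⟨x, hx⟩)
          (.cons (adj_iff.2 d2 : (blockGraph octads).Adj ⟨x, hx⟩ ⟨y, hy⟩)
            (.cons (adj_iff.2 d3) .nil))
      have hle : (blockGraph octads).dist ⟨a, ha⟩ ⟨b, hb⟩ ≤ 3 := SimpleGraph.dist_le w
      obtain ⟨p, hp⟩ := (w.reachable).exists_walk_length_eq_dist
      rcases Nat.lt_or_ge ((blockGraph octads).dist ⟨a, ha⟩ ⟨b, hb⟩) 3 with hlt | hge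
      · exfalso
        rw [← hp] at hlt
        match p, hlt with
        | .nil, _ => exact hab rfl
        | .cons e .nil, _ =>
          have := Finset.disjoint_iff_inter_eq_empty.1 (adj_iff.1 e)
          rw [this] at h; simp at h
        | .cons (v := z) e (.cons e' .nil), _ =>
          exact hno z.1 z.2 ⟨adj_iff.1 e, adj_iff.1 e'⟩
        | .cons _ (.cons _ (.cons _ _)), hl =>
          simp only [SimpleGraph.Walk.length_cons] at hl
          omega
      · omega
    refine ⟨?_, h0, h4, h2⟩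
    rcases hcases ha hb hab with h | h | h
    · exact SimpleGraph.Reachable.of_dist_ne_zero (by rw [h4 h]; norm_num)
    · exact SimpleGraph.Reachable.of_dist_ne_zero (by rw [h2 h]; norm_num)
    · exact SimpleGraph.Reachable.of_dist_ne_zero (by rw [h0 h]; norm_num)
  haveI : Nonempty octads := ⟨⟨o, ho⟩⟩
  refine ⟨⟨fun a b => ?_⟩, ?_⟩
  · by_cases e : a = b
    · subst e; exact SimpleGraph.Reachable.refl a
    · exact (dcases a.1 b.1 a.2 b.2 fun h => e (Subtype.ext h)).1
  obtain ⟨-, d0, d4, d2⟩ := dcases o o' ho ho' hne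
  rcases hcases ho ho' hne with h | h | h <;> simp [h, d0, d4, d2]

end CfsgLib.Mathieu
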