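import Cfsg.Agent.Lib.Mathieu.PtStabs
import Cfsg.Agent.Lib.Mathieu.OctadGraph

/-! Stabilisers acting as the full symmetric group on a small set. -/

set_option autoImplicit false
set_option maxRecDepth 100000

namespace CfsgLib.Mathieu

open Cfsg CfsgLib.Golay
open scoped Pointwise

/-- A group of the right order acting faithfully on a set of points is the symmetric group. -/
theorem equiv_perm_of_faithful {X : List ℕ} {A n : ℕ} (hn : (mset A).card = n)
    (hA : ∀ σ ∈ fixMasks X, σ • mset A = mset A)
    (hfaith : Nat.card (fixMasks (bitsList A ++ X)) = 1)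
    (hcard : Nat.card (fixMasks X) = n.factorial) :
    Nonempty (↥(fixMasks X) ≃* Equiv.Perm (Fin n)) := by
  classical
  have hmap : ∀ σ ∈ fixMasks X, ∀ p, σ p ∈ mset A ↔ p ∈ mset A := fun σ hσ p => by
    conv_lhs => rw [← hA σ hσ, ← Equiv.Perm.smul_def, Finset.smul_mem_smul_finset_iff]
  let f : ↥(fixMasks X) →* Equiv.Perm {p // p ∈ mset A} :=
    { toFun := fun σ => (σ.1).subtypePerm (hmap σ.1 σ.2)
      map_one' := by ext; rfl
      map_mul' := fun a b => by ext; rfl }
  have hinj : Function.Injective f := by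
    rw [injective_iff_map_eq_one]
    intro σ hσ
    have hmem : σ.1 ∈ fixMasks (bitsList A ++ X) :=
      mem_fixMasks_bitsList.2 ⟨σ.2, fun p hp => by
        have := congrArg (fun e : Equiv.Perm {p // p ∈ mset A} => (e ⟨p, hp⟩).1) hσ
        exact this⟩
    rw [Subgroup.card_eq_one.1 hfaith, Subgroup.mem_bot] at hmem
    exact Subtype.ext hmem
  have hbij : Function.Bijective f := by
    rw [Nat.bijective_iff_injective_and_card]
    refine ⟨hinj, ?_⟩
    rw [hcard, Nat.card_eq_fintype_card, Fintype.card_perm, Fintype.card_coe, hn]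
  refine ⟨(MulEquiv.ofBijective f hbij).trans (Equiv.permCongrHom ?_)⟩
  exact Fintype.equivFinOfCardEq (by rw [Fintype.card_coe, hn])

theorem stab_smul_inf (g : M24) (a b : Finset GolayPt) (x : M24) :
    x ∈ MulAction.stabilizer M24 a ⊓ MulAction.stabilizer M24 b ↔
      g * x * g⁻¹ ∈ MulAction.stabilizer M24 (g • a) ⊓ MulAction.stabilizer M24 (g • b) := by
  simp only [Subgroup.mem_inf, MulAction.mem_stabilizer_iff, conj_smul_iff]

/-- The joint stabiliser of two sets in the position of two masks. -/
theorem stab_two {o o' : Finset GolayPt} {a b : ℕ} {g : M24} (h1 : g • mset a = o)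
    (h2 : g • mset b = o') :
    Nonempty (↥(MulAction.stabilizer M24 o ⊓ MulAction.stabilizer M24 o') ≃* fixMasks [b, a]) := by
  refine conj_equiv g⁻¹ (fixMasks_le _) fun x => ?_
  rw [stab_smul_inf g⁻¹ o o' x, ← h1, ← h2, inv_smul_smul, inv_smul_smul, Subgroup.mem_inf,
    MulAction.mem_stabilizer_iff, MulAction.mem_stabilizer_iff]
  generalize g⁻¹ * x * g⁻¹⁻¹ = y
  simp only [mem_fixMasks, List.forall_mem_cons, SetLike.coe_mem, true_and]
  exact ⟨fun h => ⟨h.2, h.1, fun _ hh => absurd hh (List.not_mem_nil)⟩, fun h => ⟨h.2.1, h.1⟩⟩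

theorem two_octads_card (o o' : Finset GolayPt) (ho : o ∈ octads) (ho' : o' ∈ octads) :
    ((o ∩ o').card = 0 → Nat.card ↥(MulAction.stabilizer M24 o ⊓ MulAction.stabilizer M24 o') = 10752) ∧
    ((o ∩ o').card = 4 → Nat.card ↥(MulAction.stabilizer M24 o ⊓ MulAction.stabilizer M24 o') = 1152) ∧
    ((o ∩ o').card = 2 → Nat.card ↥(MulAction.stabilizer M24 o ⊓ MulAction.stabilizer M24 o') = 720) := by
  have key : ∀ b k n : ℕ, (isCode b && Nat.beq (pop b) 8) = true → pop (Nat.land octMask b) = k →
      Nat.card (fixMasks [b, octMask]) = n → (o ∩ o').card = k →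
      Nat.card ↥(MulAction.stabilizer M24 o ⊓ MulAction.stabilizer M24 o') = n := by
    intro b k n hb hk hn h
    obtain ⟨g, h1, h2⟩ := pair_move ho ho' (oct_of_check hb) (by rw [inter_card_mset, hk, h])
    obtain ⟨e⟩ := stab_two h1 h2
    rw [Nat.card_congr e.toEquiv, hn]
  exact ⟨key 10558 0 _ (by decide +kernel) (by decide +kernel) card_orbA_0,
    key 95313 4 _ (by decide +kernel) (by decide +kernel) card_orbA_2,
    key 5279 2 _ (by decide +kernel) (by decide +kernel) card_orbA_1⟩

/-- The six points of the standard octad outside the second octad. -/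
def pairSixA : ℕ := Nat.xor octMask (Nat.land octMask 5279)

theorem two_octads_sym {o o' : Finset GolayPt} (ho : o ∈ octads) (ho' : o' ∈ octads)
    (h : (o ∩ o').card = 2) :
    Nonempty (↥(MulAction.stabilizer M24 o ⊓ MulAction.stabilizer M24 o') ≃* Equiv.Perm (Fin 6)) := by
  obtain ⟨g, h1, h2⟩ := pair_move ho ho' (oct_of_check (by decide +kernel : _ = true))
    (show (mset octMask ∩ mset 5279).card = _ by rw [h, inter_card_mset]; decide +kernel)
  obtain ⟨e⟩ := stab_two h1 h2
  obtain ⟨f⟩ := equiv_perm_of_faithful (X := [5279, octMask]) (A := pairSixA) (n := 6)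
    (by rw [card_mset]; decide +kernel)
    (fun σ hσ => by
      rw [show pairSixA = octMask ^^^ (octMask &&& 5279) from rfl, mset_sdiff,
        Finset.smul_finset_sdiff, hσ.2 octMask (by simp), hσ.2 5279 (by simp)])
    (by
      rw [show bitsList pairSixA ++ [5279, octMask] = pairSixX by decide +kernel, ← commFix_nil]
      exact pairSix_card)
    (by rw [show octMask = 13062145 from rfl, card_orbA_1]; rfl)
  exact ⟨e.trans f⟩

end CfsgLib.Mathieu
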