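import Cfsg.Agent.Lib.Mathieu.Groups
import Cfsg.Agent.Lib.Mathieu.SymSix
import Cfsg.Agent.Lib.Mathieu.Action
import Cfsg.Agent.Lib.Golay.Orbits
import Cfsg.Prelude.Def_SporadicCombinatorics

/-! Inside the stabiliser of a dodecad: hexads, `M9`, and the two kinds of `M11`. -/

set_option autoImplicit false
set_option maxRecDepth 100000

namespace CfsgLib.Mathieu

open Cfsg CfsgLib.Golay
open scoped Pointwise

/-- An element of the dodecad stabiliser fixing five points of the dodecad is trivial. -/
theorem dodecad_fix_five {d : Finset GolayPt} (hd : d ∈ dodecads) {g : Equiv.Perm GolayPt}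
    (hg : g ∈ M24) (hgd : g • d = d) (h5 : 5 ≤ (d.filter fun p => g p = p).card) : g = 1 := by
  classical
  obtain ⟨e⟩ := Function.Embedding.nonempty_of_card_le (α := Fin 5)
    (β := {p // p ∈ d.filter fun p => g p = p}) (by rwa [Fintype.card_fin, Fintype.card_coe])
  let x : Fin 5 ↪ GolayPt := e.trans ⟨Subtype.val, Subtype.val_injective⟩
  have hx : ∀ i, x i ∈ d ∧ g (x i) = x i := fun i =>
    (Finset.mem_filter (p := fun p => g p = p)).1 (e i).2
  have hu := (dodecad_sharp hd x x (fun i => (hx i).1) (fun i => (hx i).1)).unique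
    (y₁ := ⟨⟨g, hg⟩, MulAction.mem_stabilizer_iff.2 hgd⟩) (y₂ := 1)
    (fun i => (hx i).2) (fun i => rfl)
  exact congrArg (fun u : MulAction.stabilizer M24 d => ((u : M24) : Equiv.Perm GolayPt)) hu

/-- A move of a dodecad and five of its points to any other such configuration. -/
theorem dodecad_five_move {d d' : Finset GolayPt} (hd : d ∈ dodecads) (hd' : d' ∈ dodecads)
    (x : Fin 5 ↪ GolayPt) (y : Fin 5 ↪ GolayPt) (hx : ∀ i, x i ∈ d) (hy : ∀ i, y i ∈ d') :
    ∃ g : M24, g • d = d' ∧ ∀ i, g • x i = y i := by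
  obtain ⟨c, hc⟩ := M24_trans_dodecads hd hd'
  obtain ⟨g, hg, -⟩ := dodecad_sharp hd' (c • x) y (fun i => by
    rw [← hc]; exact Finset.smul_mem_smul_finset (hx i)) hy
  refine ⟨(g : M24) * c, by rw [mul_smul, hc]; exact MulAction.mem_stabilizer_iff.1 g.2, fun i => ?_⟩
  rw [mul_smul]; exact hg i

/-- The standard hexad on the dodecad of squares. -/
def hexC : ℕ := 270351
/-- The octad through the standard hexad. -/
def hexO : ℕ := 3416079

theorem hexad_move {d : Finset GolayPt} (hd : d ∈ dodecads) {C : Finset GolayPt}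
    (hC : C ∈ hexadsOn d) : ∃ g : M24, g • mset sqMask = d ∧ g • mset hexC = C := by
  classical
  obtain ⟨h6, o, ho, rfl⟩ := hC
  obtain ⟨e⟩ := Function.Embedding.nonempty_of_card_le (α := Fin 5) (β := {p // p ∈ o ∩ d})
    (by rw [Fintype.card_fin, Fintype.card_coe, h6]; norm_num)
  have h6' : (mset hexC).card = 6 := by rw [card_mset]; decide +kernel
  obtain ⟨b⟩ := Function.Embedding.nonempty_of_card_le (α := Fin 5) (β := {p // p ∈ mset hexC})
    (by rw [Fintype.card_fin, Fintype.card_coe, h6']; norm_num)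
  have hCsub : mset hexC = mset hexO ∩ mset sqMask := by
    rw [← mset_and]; exact congrArg mset (by decide +kernel)
  let x : Fin 5 ↪ GolayPt := b.trans ⟨Subtype.val, Subtype.val_injective⟩
  let y : Fin 5 ↪ GolayPt := e.trans ⟨Subtype.val, Subtype.val_injective⟩
  have hxm : ∀ i, x i ∈ mset hexO ∧ x i ∈ mset sqMask := fun i => by
    have := (b i).2
    exact Finset.mem_inter.1 (by rw [← hCsub]; exact this)
  obtain ⟨g, hg, hgx⟩ := dodecad_five_move sqMask_mem hd x y (fun i => (hxm i).2)
    (fun i => (Finset.mem_inter.1 (e i).2).2)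
  refine ⟨g, hg, ?_⟩
  have hO : g • mset hexO = o := by
    refine octads_eq_of_five ((smul_mem_octads_iff g).2
      (mem_octads_iff.2 ⟨hexO, oct_of_check (by decide +kernel), rfl⟩)) ho ?_
    have hsub : (Finset.univ.map y) ⊆ g • mset hexO ∩ o := by
      intro q hq
      obtain ⟨i, -, rfl⟩ := Finset.mem_map.1 hq
      refine Finset.mem_inter.2 ⟨?_, (Finset.mem_inter.1 (e i).2).1⟩
      rw [← hgx i]; exact Finset.smul_mem_smul_finset (hxm i).1
    have := Finset.card_le_card hsub
    rwa [Finset.card_map, Finset.card_univ, Fintype.card_fin] at this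
  rw [hCsub, Finset.smul_finset_inter, hO, hg]

theorem hexad_stab {d : Finset GolayPt} (hd : d ∈ dodecads) {C : Finset GolayPt}
    (hC : C ∈ hexadsOn d) :
    Nonempty (↥(MulAction.stabilizer M24 d ⊓ MulAction.stabilizer M24 C) ≃* Equiv.Perm (Fin 6)) ∧
    (∀ g ∈ MulAction.stabilizer M24 d ⊓ MulAction.stabilizer M24 C,
      (∀ p ∈ C, ((g : M24) : Equiv.Perm GolayPt) p = p) → g = 1) ∧
    ∀ g ∈ MulAction.stabilizer M24 d ⊓ MulAction.stabilizer M24 C,
      (∀ p ∈ d \ C, ((g : M24) : Equiv.Perm GolayPt) p = p) → g = 1 := by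
  classical
  obtain ⟨c, h1, h2⟩ := hexad_move hd hC
  have hCd : C ⊆ d := by obtain ⟨-, o, -, rfl⟩ := hC; exact Finset.inter_subset_right
  have faith : ∀ g ∈ MulAction.stabilizer M24 d ⊓ MulAction.stabilizer M24 C,
      ∀ A : Finset GolayPt, A ⊆ d → A.card = 6 →
      (∀ p ∈ A, ((g : M24) : Equiv.Perm GolayPt) p = p) → g = 1 := by
    intro g hg A hA h6 hfix
    refine Subtype.ext (dodecad_fix_five hd g.2 (MulAction.mem_stabilizer_iff.1 hg.1) ?_)
    have : A ⊆ d.filter fun p => ((g : M24) : Equiv.Perm GolayPt) p = p :=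
      fun p hp => Finset.mem_filter.2 ⟨hA hp, hfix p hp⟩
    have := Finset.card_le_card this
    omega
  refine ⟨?_, fun g hg h => faith g hg C hCd hC.1 h, fun g hg h => faith g hg (d \ C)
    Finset.sdiff_subset ?_ h⟩
  · obtain ⟨e⟩ := stab_two h1 h2
    obtain ⟨f⟩ := equiv_perm_of_faithful (X := [hexC, sqMask]) (A := hexC) (n := 6)
      (by rw [card_mset]; decide +kernel) (fun σ hσ => hσ.2 hexC (by simp))
      (by
        rw [show bitsList hexC ++ [hexC, sqMask] = hexInX by decide +kernel, ← commFix_nil]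
        exact hexIn_card)
      (by rw [show [hexC, sqMask] = [270351, 340831] by decide +kernel, hexGrp_card]; rfl)
    exact ⟨e.trans f⟩
  · rw [Finset.card_sdiff_of_subset hCd, hC.1, hd.2]

theorem sporM11Out_eq : Spor.M12 ⊓ MulAction.stabilizer (Equiv.Perm GolayPt) (none : GolayPt) =
    fixMasks [8388608, 340831] := by
  ext σ
  rw [show [8388608, 340831] = Nat.shiftLeft 1 23 :: X12 by decide +kernel,
    mem_fixMasks_bit (show (23 : ℕ) < 24 by norm_num), ← sporM12_eq]
  rfl

/-- An element interchanging the dodecad of squares and its complement, sending `0` to the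
extra point. -/
def swapDod : ℕ := 5537194523818715403655136398527671

theorem swapDod_mem : permOf swapDod ∈ M24 := inM24_mem (by decide +kernel)

theorem swapDod_sq :
    permOf swapDod • Spor.squareDodecad = Finset.univ \ Spor.squareDodecad := by
  rw [squareDodecad_eq, smul_mset (by decide +kernel), ← mset_full, ← mset_sdiff]
  exact congrArg mset (by decide +kernel)

theorem elevenOut_moves : (List.range 24).all (fun i => !sqMask.testBit i ||
    mElevenOutLevels.any fun lv => lv.2.1.any fun g => !Nat.beq (img g i) i) = true := by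
  decide +kernel

theorem two_elevens : Nonempty (↥(Spor.M12 ⊓ MulAction.stabilizer (Equiv.Perm GolayPt)
      (none : GolayPt)) ≃* ↥Spor.M11) ∧
    (¬ ∃ k ∈ Spor.M12, MulAut.conj k • Spor.M11 =
      Spor.M12 ⊓ MulAction.stabilizer (Equiv.Perm GolayPt) (none : GolayPt)) ∧
    ∃ g ∈ M24, g • Spor.squareDodecad = Finset.univ \ Spor.squareDodecad ∧
      MulAut.conj g • Spor.M11 =
        Spor.M12 ⊓ MulAction.stabilizer (Equiv.Perm GolayPt) (none : GolayPt) := by
  set s := permOf swapDod with hs
  have hs0 : s (some 0) = none := by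
    have h := permOf_pt (show valid swapDod = true by decide +kernel) (show (0 : ℕ) < 24 by norm_num)
    rw [show (some 0 : GolayPt) = pt 0 by decide +kernel, h]
    decide +kernel
  have hconj : MulAut.conj s • Spor.M11 =
      Spor.M12 ⊓ MulAction.stabilizer (Equiv.Perm GolayPt) (none : GolayPt) := by
    ext σ
    rw [Subgroup.mem_pointwise_smul_iff_inv_smul_mem, Spor.M11, Spor.M12]
    simp only [Subgroup.mem_inf, MulAction.mem_stabilizer_iff, MulAut.smul_def, MulAut.inv_apply,
      MulAut.conj_symm_apply]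
    have hD : (s⁻¹ * σ * s) • Spor.squareDodecad = Spor.squareDodecad ↔
        σ • Spor.squareDodecad = Spor.squareDodecad := by
      rw [mul_smul, mul_smul, inv_smul_eq_iff, swapDod_sq, Finset.smul_finset_sdiff,
        Finset.smul_finset_univ, ← Finset.compl_eq_univ_sdiff, ← Finset.compl_eq_univ_sdiff,
        compl_inj_iff]
    have hP : (s⁻¹ * σ * s) • (some 0 : GolayPt) = some 0 ↔ σ • (none : GolayPt) = none := by
      rw [mul_smul, mul_smul, inv_smul_eq_iff, Equiv.Perm.smul_def s, hs0]
    have hM : s⁻¹ * σ * s ∈ M24 ↔ σ ∈ M24 := by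
      rw [Subgroup.mul_mem_cancel_right _ swapDod_mem,
        Subgroup.mul_mem_cancel_left _ (Subgroup.inv_mem _ swapDod_mem)]
    rw [hD, hP]
    exact and_congr_left fun _ => and_congr_left fun _ => hM
  refine ⟨?_, ?_, s, swapDod_mem, swapDod_sq, hconj⟩
  · rw [← hconj]
    exact ⟨(Subgroup.equivSMul (MulAut.conj s) Spor.M11).symm⟩
  · rintro ⟨k, hk, he⟩
    have hq : k (pt 0) ∈ mset sqMask := by
      have := (MulAction.mem_stabilizer_iff.1 hk.2)
      rw [squareDodecad_eq] at this
      rw [← this]
      exact Finset.smul_mem_smul_finset (by decide +kernel)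
    have hall : ∀ σ ∈ fixMasks [8388608, 340831], σ (k (pt 0)) = k (pt 0) := by
      intro σ hσ
      rw [← sporM11Out_eq, ← he, Subgroup.mem_pointwise_smul_iff_inv_smul_mem] at hσ
      have : (MulAut.conj k)⁻¹ σ (pt 0) = pt 0 := hσ.2
      simp only [MulAut.inv_apply, MulAut.conj_symm_apply, Equiv.Perm.mul_apply] at this
      exact (Equiv.Perm.inv_eq_iff_eq.1 this).trans rfl
    obtain ⟨i, hi, hki⟩ : ∃ i < 24, k (pt 0) = pt i := ⟨_, idx_lt _, (pt_idx _).symm⟩
    rw [hki] at hq hall
    have := List.all_eq_true.1 elevenOut_moves i (List.mem_range.2 hi)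
    rw [mem_mset, idx_pt hi] at hq
    simp only [hq, Bool.not_true, Bool.false_or, List.any_eq_true] at this
    obtain ⟨lv, hlv, g, hg, hne⟩ := this
    have hmem : permOf g ∈ fixMasks [8388608, 340831] := by
      have hall' : mElevenOutLevels.all (fun lv => lv.2.1.all (inFix [8388608, 340831])) = true := by
        decide +kernel
      exact inFix_mem (List.all_eq_true.1 (List.all_eq_true.1 hall' lv hlv) g hg)
    have hgv : valid g = true := by
      have hall' : mElevenOutLevels.all (fun lv => lv.2.1.all valid) = true := by decide +kernel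
      exact List.all_eq_true.1 (List.all_eq_true.1 hall' lv hlv) g hg
    have e := hall _ hmem
    rw [permOf_pt hgv hi] at e
    have := congrArg idx e
    rw [idx_pt (valid_lt hgv hi), idx_pt hi] at this
    simp [this] at hne

theorem eleven_elusive (g : Equiv.Perm GolayPt) (hg : g ∈ Spor.M11) (hord : (orderOf g).Prime) :
    ∃ x : GolayPt, x ∉ Spor.squareDodecad ∧ g x = x := by
  classical
  have hD : Spor.squareDodecad = mset sqMask := squareDodecad_eq
  have hgM : g ∈ M24 := hg.1.1
  have hgd : g • mset sqMask = mset sqMask := by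
    have := MulAction.mem_stabilizer_iff.1 hg.1.2; rwa [hD] at this
  have hmap : ∀ p, g p ∈ mset sqMask ↔ p ∈ mset sqMask := fun p => by
    conv_lhs => rw [← hgd, ← Equiv.Perm.smul_def, Finset.smul_mem_smul_finset_iff]
  rw [hD]
  by_contra hno
  push Not at hno
  have hsub : fixS g ⊆ (mset sqMask).filter fun p => g p = p := fun p hp => by
    simp only [fixS, Finset.mem_filter, Finset.mem_univ, true_and] at hp ⊢
    exact ⟨by_contra fun h => hno p h hp, hp⟩
  have h0 : g (some 0) = some 0 := hg.2
  have hlt : (fixS g).card < 5 := by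
    by_contra hge
    have := dodecad_fix_five sqMask_mem hgM hgd (le_trans (not_lt.1 hge) (Finset.card_le_card hsub))
    rw [this, orderOf_one] at hord
    exact Nat.not_prime_one hord
  have hpos : (fixS g).Nonempty := ⟨some 0, by simp [fixS, h0]⟩
  by_cases h2 : orderOf g = 2
  · rcases invol_cases hgM h2 with ⟨_, _, _, h⟩ | ⟨_, _, _, h⟩
    · omega
    · rw [h] at hpos; exact Finset.not_nonempty_empty hpos
  by_cases h3 : orderOf g = 3
  · rcases order3_cases hgM h3 with ⟨_, _, _, h⟩ | ⟨_, _, _, h⟩
    · omega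
    · rw [h] at hpos; exact Finset.not_nonempty_empty hpos
  haveI : Fact (orderOf g).Prime := ⟨hord⟩
  let τ : Equiv.Perm {p // p ∉ mset sqMask} := g.subtypePerm fun p => not_congr (hmap p)
  obtain ⟨a, ha⟩ := Equiv.Perm.exists_fixed_point_of_prime (p := orderOf g) (n := 1) (σ := τ)
    (by
      rw [Fintype.card_subtype_compl, Fintype.card_coe, card_mset]
      rw [show Fintype.card GolayPt - pop sqMask = 12 by decide +kernel]
      intro hdvd
      have hle := Nat.le_of_dvd (by norm_num) hdvd
      generalize orderOf g = p at *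
      interval_cases p <;> simp_all (config := { decide := true }))
    (by
      ext x
      rw [Equiv.Perm.subtypePerm_pow]
      simp [pow_orderOf_eq_one])
  exact hno a.1 a.2 (congrArg Subtype.val ha)

/-- The generators of `M9` as a map from the quaternion group. -/
def qMap : QuaternionGroup 2 → ℕ
  | .a i => [984818244535754528103549039458486304, 227578386318009578406903204956702752,
      970499966350631336865513127433832480, 232652365823391711183829569059784736].getD i.val 0
  | .xa i => [608405391266436187982588441666881568, 719923664328491199848526586197411872,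
      609271311764373893382231684089481248, 715872302521680643580706198532491296].getD i.val 0

theorem qMap_ok : (∀ x, inFix [4, 2, 1, 340831] (qMap x) = true) ∧
    (∀ x y, isProd (qMap x) (qMap y) (qMap (x * y)) = true) ∧
    ∀ x y, (∀ i < 24, img (qMap x) i = img (qMap y) i) → x = y := by
  decide +kernel

/-- The `n`-th power of a word acts trivially. -/
def powTriv (w : List ℕ) (n : ℕ) : Bool :=
  (List.range 24).all fun i => Nat.beq (n.rec i fun _ j => wImg w j) i

theorem powTriv_iff {w : List ℕ} (hv : ∀ g ∈ w, valid g = true) (n : ℕ) :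
    powTriv w n = true ↔ (w.map permOf).prod ^ n = 1 := by
  have key : ∀ i < 24, ((w.map permOf).prod ^ n) (pt i) = pt (n.rec i fun _ j => wImg w j) ∧
      (n.rec i fun _ j => wImg w j : ℕ) < 24 := by
    intro i hi
    induction n with
    | zero => exact ⟨rfl, hi⟩
    | succ n ih =>
      obtain ⟨h1, h2⟩ := wImg_spec hv ih.2
      refine ⟨?_, h2⟩
      rw [pow_succ', Equiv.Perm.mul_apply, ih.1, h1]
  simp only [powTriv, List.all_eq_true, List.mem_range, Nat.beq_eq]
  constructor
  · intro h
    refine Equiv.ext fun q => ?_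
    have := (key _ (idx_lt q)).1
    rw [pt_idx, h _ (idx_lt q), pt_idx] at this
    exact this
  · intro h i hi
    obtain ⟨h1, h2⟩ := key i hi
    rw [h, Equiv.Perm.one_apply] at h1
    rw [← idx_pt h2, ← h1, idx_pt hi]

theorem nine_words : (cWords mNineLevels).all (fun w => !powTriv w 9 || powTriv w 3) = true ∧
    ((cWords mNineLevels).filter fun w => powTriv w 9).length = 9 := by
  decide +kernel

theorem mNine_stab {d : Finset GolayPt} (hd : d ∈ dodecads) {p q r : GolayPt} (hp : p ∈ d)
    (hq : q ∈ d) (hr : r ∈ d) (hpq : p ≠ q) (hpr : p ≠ r) (hqr : q ≠ r) :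
    Nonempty (↥(MulAction.stabilizer M24 d ⊓ MulAction.stabilizer M24 p ⊓
      MulAction.stabilizer M24 q ⊓ MulAction.stabilizer M24 r) ≃* fixMasks [4, 2, 1, 340831]) := by
  classical
  have hcard : 2 ≤ ((d.erase p).erase q |>.erase r).card := by
    rw [Finset.card_erase_of_mem (by simp [hr, hpr.symm, hqr.symm]),
      Finset.card_erase_of_mem (by simp [hq, hpq.symm]), Finset.card_erase_of_mem hp, hd.2]
    norm_num
  obtain ⟨u, hu, v, hv, huv⟩ := Finset.one_lt_card.1 hcard
  simp only [Finset.mem_erase] at hu hv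
  let f : Fin 5 → GolayPt := ![p, q, r, u, v]
  have hf : Function.Injective f := by
    obtain ⟨u1, u2, u3, -⟩ := hu
    obtain ⟨v1, v2, v3, -⟩ := hv
    intro i j h
    fin_cases i <;> fin_cases j <;> simp_all [f, eq_comm]
  have hfm : ∀ i, f i ∈ d := by
    intro i; fin_cases i <;> simp [f, hp, hq, hr, hu.2.2.2, hv.2.2.2]
  let y : Fin 5 ↪ GolayPt := ⟨fun i => pt i.val, by decide +kernel⟩
  obtain ⟨g, hg, hgx⟩ := dodecad_five_move hd sqMask_mem ⟨f, hf⟩ y hfm (by decide +kernel)
  refine conj_equiv g (fixMasks_le _) fun x => ?_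
  have e0 : g • p = pt 0 := hgx 0
  have e1 : g • q = pt 1 := hgx 1
  have e2 : g • r = pt 2 := hgx 2
  rw [show ([4, 2, 1, 340831] : List ℕ) = Nat.shiftLeft 1 2 :: Nat.shiftLeft 1 1 ::
      Nat.shiftLeft 1 0 :: [sqMask] by decide +kernel,
    mem_fixMasks_bit (show (2 : ℕ) < 24 by norm_num), mem_fixMasks_bit (show (1 : ℕ) < 24 by norm_num),
    mem_fixMasks_bit (show (0 : ℕ) < 24 by norm_num), mem_fixMasks_one, ← hg, ← e0, ← e1, ← e2,
    conj_smul_iff, coe_conj_pt, coe_conj_pt, coe_conj_pt]
  simp only [Subgroup.mem_inf, MulAction.mem_stabilizer_iff]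

theorem mNine_facts {H : Type*} [Group H] (e : H ≃* fixMasks [4, 2, 1, 340831]) :
    (∀ Q : Sylow 3 H, (Q : Subgroup H).Normal ∧ Nat.card ↥Q = 9 ∧
      ∀ x ∈ (Q : Subgroup H), x ^ 3 = 1) ∧
    ∀ P : Sylow 2 H, Nonempty (↥P ≃* QuaternionGroup 2) := by
  classical
  haveI : Finite H := Finite.of_equiv _ e.toEquiv.symm
  haveI : Fact (Nat.Prime 3) := ⟨Nat.prime_three⟩
  haveI : Fact (Nat.Prime 2) := ⟨Nat.prime_two⟩
  have hH : Nat.card H = 72 := (Nat.card_congr e.toEquiv).trans mNine_card
  have words : ∀ x : H, ∃ w ∈ cWords mNineLevels, (∀ g ∈ w, valid g = true) ∧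
      ((e x : fixMasks [4, 2, 1, 340831]) : Equiv.Perm GolayPt) = (w.map permOf).prod := fun x =>
    cChain_words mNine_ok _ (by rw [commFix_nil]; exact (e x).2)
  have pow_eq : ∀ (x : H) (n : ℕ) (w : List ℕ), (∀ g ∈ w, valid g = true) →
      ((e x : fixMasks [4, 2, 1, 340831]) : Equiv.Perm GolayPt) = (w.map permOf).prod →
      (powTriv w n = true ↔ x ^ n = 1) := by
    intro x n w hv hx
    rw [powTriv_iff hv, ← hx, ← Subgroup.coe_pow, ← map_pow, OneMemClass.coe_eq_one,
      MulEquiv.map_eq_one_iff]
  have h9 : ∀ x : H, x ^ 9 = 1 → x ^ 3 = 1 := by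
    intro x hx
    obtain ⟨w, hw, hv, he⟩ := words x
    have := List.all_eq_true.1 nine_words.1 w hw
    rw [(pow_eq x 9 w hv he).2 hx] at this
    exact (pow_eq x 3 w hv he).1 (by simpa using this)
  have hbound : {x : H | x ^ 9 = 1}.ncard ≤ 9 := by
    choose w hw hv he using words
    have hinj : Function.Injective w := fun a b hab => by
      have := (he a).trans ((congrArg (fun l => (List.map permOf l).prod) hab).trans (he b).symm)
      exact e.injective (Subtype.ext this)
    calc {x : H | x ^ 9 = 1}.ncard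
        ≤ (((cWords mNineLevels).filter fun l => powTriv l 9).toFinset : Set (List ℕ)).ncard := by
          refine Set.ncard_le_ncard_of_injOn w (fun x hx => ?_) hinj.injOn (Finset.finite_toSet _)
          simp only [List.coe_toFinset, Set.mem_ofPred_eq, List.mem_filter]
          exact ⟨hw x, (pow_eq x 9 _ (hv x) (he x)).2 hx⟩
      _ ≤ 9 := by
          rw [Set.ncard_coe_finset]
          exact (List.toFinset_card_le _).trans (le_of_eq nine_words.2)
  have f3 : (Nat.card H).factorization 3 = 2 := by
    rw [hH, show (72 : ℕ) = 3 ^ 2 * 8 by norm_num, Nat.factorization_mul (by norm_num) (by norm_num),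
      Finsupp.add_apply, Nat.Prime.factorization_pow Nat.prime_three, Finsupp.single_eq_same,
      Nat.factorization_eq_zero_of_not_dvd (by norm_num)]
  have f2 : (Nat.card H).factorization 2 = 3 := by
    rw [hH, show (72 : ℕ) = 2 ^ 3 * 9 by norm_num, Nat.factorization_mul (by norm_num) (by norm_num),
      Finsupp.add_apply, Nat.Prime.factorization_pow Nat.prime_two, Finsupp.single_eq_same,
      Nat.factorization_eq_zero_of_not_dvd (by norm_num)]
  refine ⟨fun Q => ?_, fun P => ?_⟩
  · have hQ : Nat.card ↥Q = 9 := (Sylow.card_eq_multiplicity Q).trans (by rw [f3]; norm_num)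
    have hQ9 : ∀ x ∈ (Q : Subgroup H), x ^ 9 = 1 := fun x hx => by
      have := congrArg Subtype.val (pow_card_eq_one' (x := (⟨x, hx⟩ : (Q : Subgroup H))))
      rwa [Subgroup.coe_pow, show Nat.card ↥(Q : Subgroup H) = 9 from hQ] at this
    have hset : ((Q : Subgroup H) : Set H) = {x | x ^ 9 = 1} := by
      refine Set.eq_of_subset_of_ncard_le hQ9 ?_ (Set.toFinite _)
      rw [← Nat.card_coe_set_eq]
      exact hbound.trans (le_of_eq hQ.symm)
    refine ⟨⟨fun n hn g => ?_⟩, hQ, fun x hx => h9 x (hQ9 x hx)⟩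
    have hn9 := hQ9 n hn
    show g * n * g⁻¹ ∈ ((Q : Subgroup H) : Set H)
    rw [hset, Set.mem_ofPred_eq, conj_pow, hn9]; group
  · let qh : QuaternionGroup 2 →* fixMasks [4, 2, 1, 340831] :=
      { toFun := fun x => ⟨permOf (qMap x), inFix_mem (qMap_ok.1 x)⟩
        map_one' := Subtype.ext (by
          show permOf (qMap 1) = 1
          rw [show qMap 1 = idCode by decide +kernel, permOf_idCode])
        map_mul' := fun x y => Subtype.ext
          (isProd_sound (inFix_valid (qMap_ok.1 x)) (inFix_valid (qMap_ok.1 y))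
            (qMap_ok.2.1 x y)).2 }
    have hqinj : Function.Injective qh := fun x y h => by
      have h' : permOf (qMap x) = permOf (qMap y) := congrArg Subtype.val h
      refine qMap_ok.2.2 x y fun i hi => ?_
      have := congrArg (fun π : Equiv.Perm GolayPt => idx (π (pt i))) h'
      simpa [permOf_pt (inFix_valid (qMap_ok.1 x)) hi, permOf_pt (inFix_valid (qMap_ok.1 y)) hi,
        idx_pt (valid_lt (inFix_valid (qMap_ok.1 x)) hi),
        idx_pt (valid_lt (inFix_valid (qMap_ok.1 y)) hi)] using this
    let f : QuaternionGroup 2 →* H := e.symm.toMonoidHom.comp qh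
    have hf : Function.Injective f := e.symm.injective.comp hqinj
    have hcard : Nat.card f.range = 2 ^ (Nat.card H).factorization 2 := by
      rw [f2, ← Nat.card_congr (MonoidHom.ofInjective hf).toEquiv, Nat.card_eq_fintype_card,
        QuaternionGroup.card]
      norm_num
    exact ⟨(P.equiv (Sylow.ofCard f.range hcard)).trans (MonoidHom.ofInjective hf).symm⟩

end CfsgLib.Mathieu
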