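import Cfsg.Agent.Lib.Mathieu.Comm

/-! Generated: the centraliser of the pointwise stabiliser of an octad. -/

set_option autoImplicit false

namespace CfsgLib.Mathieu

/-- Levels. -/
def eOctLevels : List CLevel := [
  (0,
    [984818244535754528103549039458486304,
     112424983097229755092343687492459521,
     70351105155508323366877919011341026,
     236664407677519277425755142460815907,
     154011290965101378516425393633478085,
     817890369117824433493462553211688166,
     901800400860725044026894134811446471,
     652325534931628596484059658113896777,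
     859476676985696056904033473758149930,
     735343378606643913461687753973501102,
     402972402299446091991411648247310991,
     610467988597677537367918574735234161,
     277846216548556559563915367368924851,
     444144782632339860456000191644018164,
     319332657317955561504592345438689909,
     28854523491105362182008475499005015],
    [(4, (24, [[(1, 16, 15)]])),
     (8, (24, [[(1, 16, 15)]])),
     (11, (24, [[(1, 16, 15)]])),
     (12, (24, [[(1, 16, 15)]])),
     (13, (24, [[(1, 16, 15)]])),
     (16, (24, [[(1, 16, 15)]])),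
     (18, (24, [[(1, 16, 15)]])),
     (22, (24, [[(1, 16, 15)]]))])]

/-- Final derivation. -/
def eOctFin : List (ℕ × ℕ × ℕ) := [(2, 17, 16), (2, 0, 16), (2, 0, 16), (2, 0, 16), (2, 0, 16), (2, 0, 16), (2, 0, 16), (2, 0, 16), (2, 0, 16), (2, 0, 16), (2, 0, 16), (2, 0, 16), (2, 0, 16), (2, 0, 16), (2, 0, 16), (2, 0, 16), (0, 32, 26), (0, 0, 25), (0, 0, 24), (0, 0, 22), (0, 0, 21), (3, 9347075, 9347075), (1, 6, 0), (2, 7, 1), (0, 33, 32), (0, 0, 27), (0, 0, 27), (0, 0, 4), (3, 13938692, 13938692), (1, 5, 0), (2, 6, 1), (0, 47, 43), (0, 0, 42), (0, 0, 42), (0, 0, 42), (0, 0, 37), (3, 1302533, 1302533), (1, 14, 0), (2, 15, 1), (1, 8, 2), (2, 9, 3), (0, 51, 50), (0, 0, 48), (0, 0, 44), (0, 0, 6), (0, 0, 5), (3, 10170384, 10170384), (1, 17, 0), (2, 18, 1), (1, 8, 2), (2, 9, 3), (0, 26, 58), (0, 0, 58), (0, 0, 15), (0, 0, 15), (0, 0, 15), (3, 4038912, 4038912), (1, 6, 0), (2, 7, 1)]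

end CfsgLib.Mathieu
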