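/-! Generated: certificates for the fifteen trios through an octad. -/

set_option autoImplicit false
set_option maxRecDepth 100000

namespace CfsgLib.Mathieu

/-- Generators of the octad stabiliser. -/
def fifGens : List Nat := [974014887239665213048788509728029745, 693551003543817702484240624571689170, 777921164721951076452449653324035153, 611766266531868159525633581875830092, 603826773989110163799014514728654486, 971007978544873182395584715759620209, 499280261637099254019727020847608881, 680320523796099082618699014588453280, 516977257692552224902400887458470066, 929552045543038091372124958240388784, 976684488040358484247585833434029170, 736822171814880099889888005115226166, 936709297225956475652336189768355920, 769945164021162143105259023002339382, 777678330323532048779087807167050929, 30671027107065508502510260463085233]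

/-- Words from the first trio. -/
def fifCert : List Nat := [0, 264, 88, 1544, 32, 48, 56, 40, 1288, 24, 8, 16, 96, 64, 3336]

/-- Elements keeping the octad and the first trio. -/
def fifGensB : List Nat := [23592432886193840606902011748006998, 29904296574751109490468787752414480, 22294268376450526685570808988078582, 29099053950229369038862289824490832, 23828323635127260304434556726595632, 15718137620536398744322030184990326, 15873867074307120506100580069385392, 23820965550998060002821083905506448, 30491218872205726730711904931613974, 28884866647569937290334247448695024, 24188181471539940318910238912717014, 28942506296592719409396863992169904, 30387187498001601047585299025732822, 30068014377026043665241546267341968]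

/-- Words from the second trio. -/
def fifCertB : List Nat := [0, 24, 80, 32, 16, 8, 264, 1800, 48, 520, 64, 40, 56, 112]

/-- A point outside, the octad, and the disjoint octads through that point. -/
def fifX : List Nat := [2, 13062145, 1613974, 2624690, 525274, 1573998, 3672838, 567074, 2664522, 10558, 2106966, 1084018, 3179802, 2130606, 36294, 3154402, 1060490]

/-- Derivation for `fifX`. -/
def fifFin : List (Nat × Nat × Nat) := [(2, 17, 16), (1, 17, 16), (2, 18, 17), (1, 2, 18), (2, 3, 19), (1, 3, 19), (2, 4, 20), (1, 4, 21), (2, 5, 22), (1, 5, 23), (2, 6, 24), (1, 6, 25), (2, 7, 26), (2, 7, 25), (1, 7, 26), (2, 8, 27), (1, 8, 28), (2, 9, 29), (1, 9, 30), (2, 10, 31), (1, 10, 32), (2, 11, 33), (1, 11, 34), (2, 12, 35), (1, 12, 36), (2, 13, 37), (1, 13, 38), (2, 14, 39), (1, 0, 36), (0, 14, 10), (0, 0, 7), (0, 0, 6), (0, 0, 6), (0, 0, 4), (3, 12222476, 12222476), (1, 36, 0), (2, 37, 1), (0, 37, 22), (0, 0, 22), (0, 0, 20), (0, 0, 17), (0, 0, 15), (3, 3416079, 3416079), (1, 6, 0), (2, 7, 1), (0, 38, 18), (0, 0, 17), (0, 0, 11), (3, 10170384, 10170384), (1, 4, 0), (2, 5, 1), (0, 44, 28), (0, 0, 28), (0, 0, 17), (3, 11952160, 11952160), (1, 11,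 0), (2, 12, 1), (1, 6, 2), (2, 7, 3), (0, 48, 34), (0, 0, 34), (0, 0, 3), (0, 0, 3), (3, 6475812, 6475812), (1, 28, 0), (2, 29, 1), (1, 16, 2), (2, 17, 3)]

end CfsgLib.Mathieu
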