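import Cfsg.Agent.Lib.Mathieu.OrbitResults
import Cfsg.Agent.Lib.Mathieu.FifteenData
import Cfsg.Agent.Lib.Golay.ChainOctPts

/-! The fifteen trios through an octad. -/

set_option autoImplicit false
set_option maxRecDepth 100000

namespace CfsgLib.Mathieu

open Cfsg CfsgLib.Golay
open scoped Pointwise

/-- A coded word acts as an element of every subgroup containing the generators. -/
theorem applyW_sub {H : Subgroup M24} {G : List ℕ}
    (hG : ∀ g ∈ G, valid g = true ∧ ∃ h ∈ H, (h : Equiv.Perm GolayPt) = permOf g) :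
    ∀ (f c : ℕ) (l : List ℕ), ∃ h ∈ H, h • sextSet l = sextSet (applyW G f c l)
  | 0, _, l => ⟨1, Subgroup.one_mem _, one_smul _ _⟩
  | f + 1, c, l => by
    rw [applyW]
    cases Nat.beq c 0
    · simp only [cond_false]
      obtain ⟨h, hh, e⟩ := applyW_sub hG f (Nat.div c 32)
        ((G[Nat.mod c 32 - 1]?).elim l fun g => l.map (mimg g))
      rcases hi : G[Nat.mod c 32 - 1]? with _ | g
      · rw [hi] at e; exact ⟨h, hh, e⟩
      · rw [hi] at e
        simp only [Option.elim_some] at e ⊢
        obtain ⟨hv, k, hk, ek⟩ := hG g (List.mem_of_getElem? hi)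
        refine ⟨h * k, Subgroup.mul_mem _ hh hk, ?_⟩
        rw [mul_smul, ← e]
        congr 1
        rw [sextSet_map hv l, ← ek]
        rfl
    · exact ⟨1, Subgroup.one_mem _, one_smul _ _⟩

/-- The trios through the standard octad. -/
def fifList : List (List ℕ) :=
  (trioLit.map trioList).filter fun l => l.any fun m => Nat.beq m octMask

/-- First trio. -/
def fifA : List ℕ := fifList.getD 0 []

/-- Second trio. -/
def fifB : List ℕ := fifList.getD 1 []

theorem fif_ok : Nat.beq fifList.length 15 && gensKeep [octMask] fifGens &&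
    gensKeep [octMask] fifGensB && gensKeep fifA fifGensB &&
    (fifList.zip fifCert).all (fun p => sameB (applyW fifGens 12 (Nat.div p.2 8) fifA) p.1) &&
    Nat.beq fifCert.length 15 && Nat.beq fifCertB.length 14 &&
    ((fifList.drop 1).zip fifCertB).all
      (fun p => sameB (applyW fifGensB 12 (Nat.div p.2 8) fifB) p.1) &&
    okFam fifA && fifList.all okFam = true := by decide +kernel

theorem oct_stab_of_family {g : M24}
    (hg : g ∈ MulAction.stabilizer M24 (sextSet [octMask])) : g • mset octMask = mset octMask := by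
  rw [show sextSet [octMask] = ({mset octMask} : Finset (Finset GolayPt)) by simp [sextSet],
    stab_singleton] at hg
  exact MulAction.mem_stabilizer_iff.1 hg

theorem mem_fifList {T : Finset (Finset GolayPt)} :
    T ∈ trios ∧ mset octMask ∈ T ↔ ∃ l ∈ fifList, sextSet l = T := by
  simp only [fifList, List.mem_filter, List.any_eq_true, Nat.beq_eq, exists_eq_right]
  constructor
  · rintro ⟨hT, ho⟩
    obtain ⟨l, hl, rfl⟩ := trios_listing.ex T hT
    refine ⟨l, ⟨hl, ?_⟩, rfl⟩
    simp only [sextSet, List.mem_toFinset, List.mem_map] at ho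
    obtain ⟨m, hm, e⟩ := ho
    obtain ⟨p, hp, rfl⟩ := List.mem_map.1 hl
    rw [← mset_inj (trioList_lt (trioPairs_lit.symm ▸ hp) m hm)
      (by decide +kernel) e]
    exact hm
  · rintro ⟨l, ⟨hl, ho⟩, rfl⟩
    exact ⟨trios_listing.mem l hl, by
      simp only [sextSet, List.mem_toFinset, List.mem_map]; exact ⟨_, ho, rfl⟩⟩

theorem fif_count : {T : Finset (Finset GolayPt) | T ∈ trios ∧ mset octMask ∈ T}.ncard = 15 := by
  rw [trios_listing.count (fun T => mset octMask ∈ T)
    (fun l => l.any fun m => Nat.beq m octMask) fun l hl => ?_]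
  · decide +kernel
  simp only [List.any_eq_true, Nat.beq_eq, exists_eq_right]
  constructor
  · intro ho
    simp only [sextSet, List.mem_toFinset, List.mem_map] at ho
    obtain ⟨m, hm, e⟩ := ho
    obtain ⟨p, hp, rfl⟩ := List.mem_map.1 hl
    rw [← mset_inj (trioList_lt (trioPairs_lit.symm ▸ hp) m hm) (by decide +kernel) e]
    exact hm
  · intro ho
    simp only [sextSet, List.mem_toFinset, List.mem_map]; exact ⟨_, ho, rfl⟩

theorem fif_two_trans {T₁ T₂ : Finset (Finset GolayPt)} (h1 : T₁ ∈ trios) (h2 : T₂ ∈ trios)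
    (o1 : mset octMask ∈ T₁) (o2 : mset octMask ∈ T₂) (hne : T₁ ≠ T₂) :
    ∃ g : M24, g • mset octMask = mset octMask ∧ g • sextSet fifA = T₁ ∧
      g • sextSet fifB = T₂ := by
  have h := fif_ok
  simp only [Bool.and_eq_true, Nat.beq_eq, List.all_eq_true] at h
  obtain ⟨⟨⟨⟨⟨⟨⟨⟨⟨hlen, hG⟩, hB1⟩, hB2⟩, hC⟩, hCl⟩, hCBl⟩, hCB⟩, hA⟩, -⟩ := h
  have hb : ∀ m ∈ [octMask], m < 16777216 := by decide +kernel
  obtain ⟨l, hl, rfl⟩ := mem_fifList.1 ⟨h1, o1⟩
  obtain ⟨i, hi, rfl⟩ := List.getElem_of_mem hl
  have hi' : i < fifCert.length := by omega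
  obtain ⟨g, hg, e⟩ := applyW_spec hb hG 12 (Nat.div (fifCert[i]'hi') 8) fifA
  have := hC (fifList[i]'hi, fifCert[i]'hi') (List.mem_iff_getElem.2 ⟨i, by simp; omega, by rw [List.getElem_zip]⟩)
  rw [sameB_spec this] at e
  dsimp only at e
  have ho := oct_stab_of_family hg
  have hT : g⁻¹ • T₂ ∈ trios ∧ mset octMask ∈ g⁻¹ • T₂ := by
    refine ⟨smul_trio (g⁻¹).2 h2, ?_⟩
    have hm : g⁻¹ • mset octMask ∈ g⁻¹ • T₂ := Finset.smul_mem_smul_finset o2
    rwa [inv_smul_eq_iff.2 ho.symm] at hm
  obtain ⟨k, hk, ek⟩ := mem_fifList.1 hT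
  obtain ⟨j, hj, rfl⟩ := List.getElem_of_mem hk
  obtain rfl | hj0 := Nat.eq_zero_or_pos j
  · exfalso
    apply hne
    rw [← e, show fifA = fifList[0] from List.getD_eq_getElem _ _ hj, ek, smul_inv_smul]
  have hgen : ∀ b ∈ fifGensB, valid b = true ∧ ∃ h ∈ MulAction.stabilizer M24 (sextSet [octMask]) ⊓
      MulAction.stabilizer M24 (sextSet fifA), (h : Equiv.Perm GolayPt) = permOf b := by
    intro b hb'
    simp only [gensKeep, List.all_eq_true, Bool.and_eq_true] at hB1 hB2
    have hv := inM24_valid (hB1 b hb').1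
    exact ⟨hv, ⟨permOf b, inM24_mem (hB1 b hb').1⟩,
      ⟨MulAction.mem_stabilizer_iff.2 ((keeps_iff hv hb).2 (hB1 b hb').2),
        MulAction.mem_stabilizer_iff.2 ((keeps_iff hv (okFam_spec hA).1).2 (hB2 b hb').2)⟩, rfl⟩
  have hj' : j - 1 < fifCertB.length := by omega
  obtain ⟨h, ⟨hh, hh'⟩, eh⟩ := applyW_sub hgen 12 (Nat.div fifCertB[j - 1] 8) fifB
  have := hCB ((fifList.drop 1)[j - 1]'(by simp; omega), fifCertB[j - 1])
    (List.mem_iff_getElem.2 ⟨j - 1, by simp; omega, by rw [List.getElem_zip]⟩)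
  rw [sameB_spec this] at eh
  dsimp only at eh
  simp only [List.getElem_drop, show 1 + (j - 1) = j by omega] at eh
  refine ⟨g * h, ?_, ?_, ?_⟩
  · rw [mul_smul, oct_stab_of_family hh, ho]
  · rw [mul_smul, MulAction.mem_stabilizer_iff.1 hh', e]
  · rw [mul_smul, eh, ek, smul_inv_smul]

theorem fifX_card : Nat.card (fixMasks fifX) = 1 := by
  rw [card_fixMasks (L := []) (fin := fifFin) (by decide +kernel)]; rfl

theorem octPts_keep : (chainOctPtsLevels.headD noLevel).2.1.all (fun g =>
    inM24 g && fifList.all fun l => keepsB g l) = true := by decide +kernel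

/-- The disjoint octads through the point 1 lie in trios through the octad. -/
theorem fifX_trios : (fifX.drop 2).all (fun m => fifList.any fun l =>
    (l.any fun a => Nat.beq a m) && (l.all fun a => Nat.beq a m || !Nat.testBit a 1)) = true := by
  decide +kernel

theorem pts_move : (List.range 24).all (fun i => Nat.testBit octMask i ||
    (chainOctPtsLevels.headD noLevel).2.1.any fun g => Nat.beq (img g i) 1) = true := by
  decide +kernel

theorem fif_kernel {g : M24} (ho : g • mset octMask = mset octMask) :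
    (∀ T ∈ trios, mset octMask ∈ T → g • T = T) ↔
      ∀ p ∈ mset octMask, (g : Equiv.Perm GolayPt) p = p := by
  have mem_pts : ∀ {σ : Equiv.Perm GolayPt}, σ ∈ fixMasks (bitsList octMask) ↔
      σ ∈ M24 ∧ ∀ p ∈ mset octMask, σ p = p := fun {σ} => by
    rw [← List.append_nil (bitsList octMask), mem_fixMasks_bitsList, fixMasks_nil]
  constructor
  · intro hT
    obtain ⟨hq1, hq2⟩ : pt 1 ∉ mset octMask ∧ (g : Equiv.Perm GolayPt) (pt 1) ∉ mset octMask := by
      have h1 : pt 1 ∉ mset octMask := by
        rw [mem_mset, idx_pt (by norm_num)]; decide +kernel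
      refine ⟨h1, fun h => h1 ?_⟩
      rw [← ho] at h
      exact (Finset.smul_mem_smul_finset_iff _).1 h
    have hmv := pts_move
    simp only [List.all_eq_true, Bool.or_eq_true, List.any_eq_true, Nat.beq_eq] at hmv
    rcases hmv _ (List.mem_range.2 (idx_lt ((g : Equiv.Perm GolayPt) (pt 1)))) with h | h
    · exact absurd (mem_mset.2 h) hq2
    obtain ⟨x, hx, ex⟩ := h
    have hk := octPts_keep
    simp only [List.all_eq_true, Bool.and_eq_true] at hk
    obtain ⟨hxM, hxk⟩ := hk x hx
    have hxv := inM24_valid hxM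
    have hxp : permOf x ∈ fixMasks (bitsList octMask) := by
      have hok := chainOctPts_ok
      rw [show chainOctPtsLevels = [chainOctPtsLevels.headD noLevel] from rfl] at hok
      simp only [chainOK, Bool.and_eq_true] at hok
      exact inFix_mem ((levelOK_unpack hok.1).2.2.1 x hx)
    set σ := permOf x * (g : Equiv.Perm GolayPt) with hσ
    have hσM : σ ∈ M24 := Subgroup.mul_mem _ hxp.1 g.2
    have hσo : σ • mset octMask = mset octMask := by
      rw [hσ, mul_smul]
      show permOf x • (g • mset octMask) = _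
      rw [ho]
      refine Finset.eq_of_subset_of_card_le (fun y hy => ?_)
        (le_of_eq (Finset.card_smul_finset _ _).symm)
      obtain ⟨z, hz, rfl⟩ := Finset.mem_smul_finset.1 hy
      rw [Equiv.Perm.smul_def, (mem_pts.1 hxp).2 z hz]; exact hz
    have hσ1 : σ (pt 1) = pt 1 := by
      rw [hσ, Equiv.Perm.mul_apply, permOf_apply hxv, ex]
    have hσT : ∀ l ∈ fifList, σ • sextSet l = sextSet l := by
      intro l hl
      obtain ⟨h1, h2⟩ := mem_fifList.2 ⟨l, hl, rfl⟩
      rw [hσ, mul_smul]
      show permOf x • (g • sextSet l) = _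
      rw [hT _ h1 h2]
      have hok := fif_ok
      simp only [Bool.and_eq_true, List.all_eq_true, decide_eq_true_eq] at hok
      exact (keeps_iff hxv (okFam_spec (hok.2 l hl)).1).2 (hxk l hl)
    have hσX : σ ∈ fixMasks fifX := by
      refine ⟨hσM, fun A hA => ?_⟩
      rw [show fifX = fifX.getD 0 0 :: fifX.getD 1 0 :: fifX.drop 2 from rfl] at hA
      simp only [List.mem_cons] at hA
      rcases hA with rfl | rfl | hA
      · rw [show fifX.getD 0 0 = Nat.shiftLeft 1 (idx (pt 1)) by
          rw [idx_pt (by norm_num)]; decide +kernel]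
        have := (smul_mset_bit σ (i := 1) (by norm_num) (q := pt 1)).2 hσ1
        rw [idx_pt (by norm_num)] at this ⊢
        exact this
      · exact hσo
      · have h := fifX_trios
        simp only [List.all_eq_true, List.any_eq_true, Bool.and_eq_true, Bool.or_eq_true,
          Nat.beq_eq, Bool.not_eq_true'] at h
        obtain ⟨l, hl, ⟨a, ha, rfl⟩, hrest⟩ := h A hA
        have hm : σ • mset a ∈ σ • sextSet l := Finset.smul_mem_smul_finset (by
          simp only [sextSet, List.mem_toFinset, List.mem_map]; exact ⟨a, ha, rfl⟩)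
        rw [hσT l hl] at hm
        simp only [sextSet, List.mem_toFinset, List.mem_map] at hm
        obtain ⟨b, hb, e⟩ := hm
        rcases hrest b hb with rfl | hb1
        · exact e.symm
        · exfalso
          have hp : pt 1 ∈ σ • mset a := by
            have h' : σ • pt 1 ∈ σ • mset a := Finset.smul_mem_smul_finset (by
              rw [mem_mset, idx_pt (by norm_num)]
              exact (by decide +kernel : ∀ m ∈ fifX.drop 2, m.testBit 1 = true) a hA)
            rwa [Equiv.Perm.smul_def, hσ1] at h'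
          rw [← e, mem_mset, idx_pt (by norm_num), hb1] at hp
          exact absurd hp (by simp)
    have h1 : σ = 1 := by
      have hbot := Subgroup.eq_bot_of_card_eq _ fifX_card
      rw [hbot] at hσX
      simpa using hσX
    intro p hp
    have e1 : permOf x ((g : Equiv.Perm GolayPt) p) = p := by
      rw [← Equiv.Perm.mul_apply, ← hσ, h1]; rfl
    exact (permOf x).injective (e1.trans ((mem_pts.1 hxp).2 p hp).symm)
  · intro hp T hT hoT
    have hg : (g : Equiv.Perm GolayPt) ∈ fixMasks (bitsList octMask) := mem_pts.2 ⟨g.2, hp⟩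
    obtain ⟨x, hx, ex⟩ := eq_transversal (lv := chainOctPtsLevels.headD noLevel) chainOctPts_ok hg
    have hk := octPts_keep
    simp only [List.all_eq_true, Bool.and_eq_true] at hk
    obtain ⟨hxM, hxk⟩ := hk x hx
    obtain ⟨l, hl, rfl⟩ := mem_fifList.1 ⟨hT, hoT⟩
    show (g : Equiv.Perm GolayPt) • sextSet l = sextSet l
    rw [ex]
    have hok := fif_ok
    simp only [Bool.and_eq_true, List.all_eq_true, decide_eq_true_eq] at hok
    exact (keeps_iff (inM24_valid hxM) (okFam_spec (hok.2 l hl)).1).2 (hxk l hl)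

end CfsgLib.Mathieu
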