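import Cfsg.Agent.Lib.Mathieu.Fifteen

/-! The fifteen trios through any octad. -/

set_option autoImplicit false

namespace CfsgLib.Mathieu

open Cfsg CfsgLib.Golay
open scoped Pointwise

theorem fifteen_trios (o : Finset GolayPt) (ho : o ∈ octads) :
    {T : Finset (Finset GolayPt) | T ∈ trios ∧ o ∈ T}.ncard = 15 ∧
    (∀ T₁ T₂ T₁' T₂' : Finset (Finset GolayPt), T₁ ∈ trios → T₂ ∈ trios → T₁' ∈ trios →
      T₂' ∈ trios → o ∈ T₁ → o ∈ T₂ → o ∈ T₁' → o ∈ T₂' → T₁ ≠ T₂ → T₁' ≠ T₂' →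
      ∃ g ∈ M24, g • o = o ∧ g • T₁ = T₁' ∧ g • T₂ = T₂') ∧
    ∀ g ∈ M24, g • o = o → ((∀ T ∈ trios, o ∈ T → g • T = T) ↔ ∀ p ∈ o, g p = p) := by
  obtain ⟨c, rfl⟩ := M24_trans_octads octMask_mem ho
  have hback : ∀ T : Finset (Finset GolayPt), T ∈ trios → c • mset octMask ∈ T →
      c⁻¹ • T ∈ trios ∧ mset octMask ∈ c⁻¹ • T := fun T hT h => by
    refine ⟨smul_trio (c⁻¹).2 hT, ?_⟩
    have := Finset.smul_mem_smul_finset (a := c⁻¹) h
    rwa [inv_smul_smul] at this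
  refine ⟨?_, ?_, ?_⟩
  · rw [show {T : Finset (Finset GolayPt) | T ∈ trios ∧ c • mset octMask ∈ T} =
        (c • ·) '' {T | T ∈ trios ∧ mset octMask ∈ T} from ?_,
      Set.ncard_image_of_injective _ (MulAction.injective c), fif_count]
    ext T
    simp only [Set.mem_image, Set.mem_ofPred_eq]
    constructor
    · rintro ⟨hT, h⟩
      exact ⟨c⁻¹ • T, hback T hT h, smul_inv_smul c T⟩
    · rintro ⟨U, ⟨hU, h⟩, rfl⟩
      exact ⟨smul_trio c.2 hU, Finset.smul_mem_smul_finset h⟩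
  · intro T₁ T₂ T₁' T₂' a1 a2 a1' a2' b1 b2 b1' b2' ne ne'
    obtain ⟨x1, y1⟩ := hback T₁ a1 b1
    obtain ⟨x2, y2⟩ := hback T₂ a2 b2
    obtain ⟨x1', y1'⟩ := hback T₁' a1' b1'
    obtain ⟨x2', y2'⟩ := hback T₂' a2' b2'
    obtain ⟨g, g0, g1, g2⟩ := fif_two_trans x1 x2 y1 y2 fun e => ne (smul_left_cancel c⁻¹ e)
    obtain ⟨k, k0, k1, k2⟩ := fif_two_trans x1' x2' y1' y2' fun e => ne' (smul_left_cancel c⁻¹ e)
    refine ⟨(c * k * g⁻¹ * c⁻¹ : M24), SetLike.coe_mem _, ?_, ?_, ?_⟩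
    · show (c * k * g⁻¹ * c⁻¹) • c • mset octMask = c • mset octMask
      rw [mul_smul, inv_smul_smul, mul_smul, inv_smul_eq_iff.2 g0.symm, mul_smul, k0]
    · show (c * k * g⁻¹ * c⁻¹) • T₁ = T₁'
      rw [mul_smul, ← g1, mul_smul, inv_smul_smul, mul_smul, k1, smul_inv_smul]
    · show (c * k * g⁻¹ * c⁻¹) • T₂ = T₂'
      rw [mul_smul, ← g2, mul_smul, inv_smul_smul, mul_smul, k2, smul_inv_smul]
  · intro g hg hgo
    let h : M24 := c⁻¹ * ⟨g, hg⟩ * c
    have hh : h • mset octMask = mset octMask := by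
      show (c⁻¹ * (⟨g, hg⟩ : M24) * c) • mset octMask = _
      rw [mul_smul, mul_smul, inv_smul_eq_iff]; exact hgo
    have key := fif_kernel hh
    constructor
    · intro hT p hp
      obtain ⟨q, hq, rfl⟩ := Finset.mem_smul_finset.1 hp
      have := key.1 (fun U hU hoU => by
        show (c⁻¹ * (⟨g, hg⟩ : M24) * c) • U = U
        rw [mul_smul, mul_smul, inv_smul_eq_iff]
        exact hT _ (smul_trio c.2 hU) (Finset.smul_mem_smul_finset hoU)) q hq
      change (c⁻¹ * (⟨g, hg⟩ : M24) * c) • q = q at this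
      rw [mul_smul, mul_smul, inv_smul_eq_iff] at this
      exact this
    · intro hp T hT hoT
      obtain ⟨x, y⟩ := hback T hT hoT
      have := key.2 (fun q hq => by
        show (c⁻¹ * (⟨g, hg⟩ : M24) * c) • q = q
        rw [mul_smul, mul_smul, inv_smul_eq_iff]
        exact hp _ (Finset.smul_mem_smul_finset hq)) _ x y
      change (c⁻¹ * (⟨g, hg⟩ : M24) * c) • c⁻¹ • T = c⁻¹ • T at this
      rw [mul_smul, smul_inv_smul, mul_smul, smul_left_cancel_iff] at this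
      exact this

end CfsgLib.Mathieu
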