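import Cfsg.Agent.Lib.Mathieu.Action
import Cfsg.Agent.Lib.Mathieu.CommElts

/-! The centraliser of a fixed-point-free involution of `M24`. -/

set_option autoImplicit false
set_option maxRecDepth 100000

namespace CfsgLib.Mathieu

open Cfsg CfsgLib.Golay
open scoped Pointwise

theorem tFree_chain : cChainOK [] tFreePows tFreeLevels tFreeFin = true := by decide +kernel

theorem tFreePows_eq : tFreePows = [tFree] := by decide +kernel

/-- The sextet preserved by the centraliser of `tFree`. -/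
def tFreeSextet : List ℕ := [12591105, 50208, 65558, 530496, 1180168, 2359680]

theorem tFreeSextet_mem : tFreeSextet ∈ sextList := by decide +kernel

theorem tFree_keep : keepsB tFree tFreeSextet &&
    tFreeLevels.all (fun lv => lv.2.1.all fun g => keepsB g tFreeSextet) = true := by
  decide +kernel

theorem mem_cWords : ∀ {L : List CLevel} {w : List ℕ}, w ∈ cWords L →
    ∀ g ∈ w, ∃ lv ∈ L, g ∈ lv.2.1
  | [], w, h, g, hg => by rw [cWords, List.mem_singleton] at h; simp [h] at hg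
  | lv :: L, w, h, g, hg => by
    rw [cWords, List.mem_flatMap] at h
    obtain ⟨a, ha, h⟩ := h
    rw [List.mem_map] at h
    obtain ⟨v, hv, rfl⟩ := h
    rcases List.mem_cons.1 hg with rfl | hg
    · exact ⟨lv, List.mem_cons_self, ha⟩
    · obtain ⟨l', h', hgl⟩ := mem_cWords hv g hg
      exact ⟨l', List.mem_cons_of_mem _ h', hgl⟩

theorem mem_commFree {σ : Equiv.Perm GolayPt} :
    σ ∈ commFix [] tFreePows ↔ σ ∈ M24 ∧ σ * permOf tFree = permOf tFree * σ := by
  rw [tFreePows_eq]; exact mem_commFix_one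

theorem keep_tFreeSextet {σ : Equiv.Perm GolayPt} (h : σ ∈ commFix [] tFreePows) :
    σ • sextSet tFreeSextet = sextSet tFreeSextet := by
  obtain ⟨w, hw, hwv, rfl⟩ := cChain_words tFree_chain σ h
  have hlt : ∀ m ∈ tFreeSextet, m < 16777216 := fun m hm =>
    ((sext_props tFreeSextet_mem).2.1 m hm).2
  have hk := tFree_keep
  simp only [Bool.and_eq_true, List.all_eq_true, decide_eq_true_iff] at hk
  have hmem : ∀ g ∈ w, permOf g • sextSet tFreeSextet = sextSet tFreeSextet := by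
    intro g hg
    obtain ⟨lv, hlv, hgl⟩ := mem_cWords hw g hg
    exact (keeps_iff (hwv g hg) hlt).2 (hk.2 lv hlv g hgl)
  clear hw hwv h
  induction w with
  | nil => simp
  | cons g w ih =>
    rw [List.map_cons, List.prod_cons, mul_smul,
      ih fun a ha => hmem a (List.mem_cons_of_mem _ ha), hmem g List.mem_cons_self]

theorem free_centraliser {t : Equiv.Perm GolayPt} (ht : t ∈ M24) (h₂ : orderOf t = 2)
    (h₀ : ∀ p, t p ≠ p) :
    Nat.card {c : Equiv.Perm GolayPt // c ∈ M24 ∧ c * t = t * c} = 7680 ∧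
    (∀ p q : GolayPt, ∃ c ∈ M24, c * t = t * c ∧ c p = q) ∧
    ∃ S ∈ sextets, t • S = S ∧ ∀ c ∈ M24, c * t = t * c → c • S = S := by
  rcases invol_cases ht h₂ with ⟨d, -, -, hf⟩ | ⟨d, hd, rfl, -⟩
  · rw [fixS_eq_empty_iff.2 h₀, Finset.card_empty] at hf; omega
  set r := permOf tFree with hr
  have conj_mem : ∀ c, c ∈ M24 → c * (d * r * d⁻¹) = d * r * d⁻¹ * c →
      d⁻¹ * c * d ∈ commFix [] tFreePows := by
    intro c hc h
    refine mem_commFree.2 ⟨Subgroup.mul_mem _ (Subgroup.mul_mem _ (Subgroup.inv_mem _ hd) hc) hd, ?_⟩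
    calc d⁻¹ * c * d * r = d⁻¹ * (c * (d * r * d⁻¹)) * d := by group
      _ = r * (d⁻¹ * c * d) := by rw [h]; group
  have back : ∀ σ, σ ∈ commFix [] tFreePows →
      d * σ * d⁻¹ ∈ M24 ∧ d * σ * d⁻¹ * (d * r * d⁻¹) = d * r * d⁻¹ * (d * σ * d⁻¹) := by
    intro σ hσ
    obtain ⟨h1, h2⟩ := mem_commFree.1 hσ
    refine ⟨Subgroup.mul_mem _ (Subgroup.mul_mem _ hd h1) (Subgroup.inv_mem _ hd), ?_⟩
    calc d * σ * d⁻¹ * (d * r * d⁻¹) = d * (σ * r) * d⁻¹ := by group
      _ = _ := by rw [hr, h2]; group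
  refine ⟨?_, ?_, ?_⟩
  · rw [← card_comm_tFree]
    refine Nat.card_congr
      { toFun := fun c => ⟨d⁻¹ * c.1 * d, conj_mem c.1 c.2.1 c.2.2⟩
        invFun := fun σ => ⟨d * σ.1 * d⁻¹, back σ.1 σ.2⟩
        left_inv := fun c => Subtype.ext (by dsimp; group)
        right_inv := fun σ => Subtype.ext (by dsimp; group) }
  · intro p q
    have h0 := tFree_chain
    obtain ⟨lv, L, hL⟩ : ∃ lv L, tFreeLevels = lv :: L := ⟨_, _, rfl⟩
    rw [hL] at h0
    simp only [cChainOK, Bool.and_eq_true] at h0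
    have hfull : orbMask lv.1 lv.2.1 = 16777215 := by
      have : orbMask (tFreeLevels.headD (0, [], [])).1 (tFreeLevels.headD (0, [], [])).2.1 =
          16777215 := by decide +kernel
      rw [hL] at this; exact this
    obtain ⟨-, -, -, -, horb⟩ := cLevelOK_unpack h0.1
    have get : ∀ x : GolayPt, ∃ σ ∈ commFix [] tFreePows, σ (pt lv.1) = x := fun x =>
      (horb x).2 (by rw [hfull, mset_full]; exact Finset.mem_univ x)
    obtain ⟨a, ha, ea⟩ := get (d⁻¹ p)
    obtain ⟨b, hb, eb⟩ := get (d⁻¹ q)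
    obtain ⟨h1, h2⟩ := back _ (Subgroup.mul_mem _ hb (Subgroup.inv_mem _ ha))
    refine ⟨_, h1, h2, ?_⟩
    show d (b (a⁻¹ (d⁻¹ p))) = q
    rw [← ea]
    simp [eb]
  · refine ⟨d • sextSet tFreeSextet, smul_sextet hd (sextSet_mem tFreeSextet_mem).1, ?_, ?_⟩
    · have := keep_tFreeSextet (mem_commFree.2 ⟨tFree_mem, rfl⟩)
      rw [mul_smul, mul_smul, inv_smul_smul, this]
    · intro c hc h
      have := keep_tFreeSextet (conj_mem c hc h)
      rw [mul_smul, mul_smul, inv_smul_eq_iff] at this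
      exact this

end CfsgLib.Mathieu
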