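import Cfsg.Agent.Lib.Mathieu.Comm

/-! Generated: triviality of pointwise stabilisers. -/

set_option autoImplicit false
set_option maxRecDepth 100000

namespace CfsgLib.Mathieu

open Cfsg CfsgLib.Golay

/-- The masks. -/
def pairSixX : List ℕ := [16384, 65536, 131072, 262144, 4194304, 8388608, 5279, 13062145]

theorem pairSix_card : Nat.card (commFix pairSixX []) = 1 := by
  rw [card_commFix (L := [
  (1,
    [984818244535754528103549039458486304],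
    [(0, (24, [[(1, 8, 7), (1, 0, 1)]])),
     (2, (24, [[(2, 9, 8), (2, 9, 8), (1, 1, 9), (2, 2, 10), (2, 2, 10), (2, 0, 10), (2, 3, 6), (0, 13, 11), (0, 0, 10), (0, 0, 10), (0, 0, 10), (3, 10305542, 10305542), (2, 5, 0), (1, 9, 1), (0, 8, 14), (3, 2605066, 475812), (2, 3, 0), (0, 23, 22), (0, 24, 21), (0, 0, 21), (0, 0, 6), (3, 10170384, 10170384), (1, 5, 0), (0, 5, 26), (0, 0, 25), (0, 0, 25), (0, 0, 3), (3, 13811730, 4343317), (2, 34, 0)]])),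
     (3, (24, [[(2, 9, 8), (2, 9, 8), (1, 1, 9), (2, 2, 10), (2, 2, 10), (2, 0, 10), (2, 3, 6), (0, 13, 11), (0, 0, 10), (0, 0, 10), (0, 0, 10), (3, 10305542, 8733800), (2, 5, 0), (1, 9, 1), (0, 8, 14), (3, 2605066, 2605066), (2, 3, 0), (0, 23, 22), (0, 24, 21), (0, 0, 21), (0, 0, 6), (3, 10170384, 8593633), (1, 5, 0), (0, 5, 26), (0, 0, 25), (0, 0, 25), (0, 0, 3), (3, 13811730, 4346506), (2, 34, 0)]])),
     (4, (24, [[(2, 9, 8), (2, 0, 8), (0, 8, 6), (0, 0, 5), (0, 0, 5), (0, 0, 5), (3, 10305542, 8773776), (1, 5, 0), (0, 14, 11), (0, 0, 11), (0, 0, 2), (3, 10170384, 14919680), (1, 17, 0)]])),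
     (5, (24, [[(2, 9, 8), (1, 0, 8), (1, 0, 2)]])),
     (6, (24, [[(2, 9, 8), (1, 0, 8), (1, 0, 2)]])),
     (7, (24, [[(2, 9, 8), (2, 0, 8), (0, 8, 6), (0, 0, 5), (0, 0, 5), (0, 0, 5), (3, 10305542, 8773776), (1, 5, 0), (0, 14, 11), (0, 0, 11), (0, 0, 2), (3, 10170384, 14919680), (1, 17, 0)]])),
     (8, (24, [[(2, 9, 8), (1, 0, 8), (1, 0, 2)]])),
     (9, (24, [[(2, 9, 8), (1, 0, 8), (1, 0, 2)]])),
     (10, (24, [[(2, 9, 8), (2, 9, 8), (1, 1, 9), (2, 2, 10), (2, 2, 10), (2, 0, 10), (2, 3, 6), (0, 13, 11), (0, 0, 10), (0, 0, 10), (0, 0, 10), (3, 10305542, 8733800), (2, 5, 0), (1, 9, 1), (0, 8, 14), (3, 2605066, 1525008), (2, 3, 0), (0, 23, 22), (0, 24, 21), (0, 0, 21), (0, 0, 6), (3, 10170384, 8593633), (1, 5, 0), (0, 5, 26), (0, 0, 25), (0, 0, 25), (0, 0, 3), (3, 13811730, 4441280), (2, 34, 0)]])),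
     (11, (24, [[(2, 9, 8), (1, 0, 8), (1, 0, 2)]])),
     (12, (24, [[(1, 8, 7), (1, 0, 1)]])),
     (13, (24, [[(2, 9, 8), (1, 0, 8), (1, 0, 2)]])),
     (14, (24, [[(1, 1, 0)]])),
     (15, (24, [[(2, 9, 8), (1, 0, 8), (1, 0, 2)]])),
     (16, (24, [[(1, 2, 0)]])),
     (17, (24, [[(1, 3, 0)]])),
     (18, (24, [[(1, 4, 0)]])),
     (19, (24, [[(2, 9, 8), (1, 0, 8), (1, 0, 2)]])),
     (20, (24, [[(2, 9, 8), (1, 0, 8), (1, 0, 2)]])),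
     (21, (24, [[(2, 9, 8), (1, 0, 8), (1, 0, 2)]])),
     (22, (24, [[(1, 5, 0)]])),
     (23, (24, [[(1, 6, 0)]]))])]) (fin := [(2, 9, 8), (1, 9, 8), (2, 10, 9), (1, 2, 10), (2, 3, 11), (2, 2, 11), (2, 0, 11), (2, 3, 7), (0, 14, 12), (0, 0, 11), (0, 0, 11), (0, 0, 11), (3, 10305542, 10305542), (1, 5, 0), (2, 6, 1), (1, 10, 2), (2, 11, 3), (0, 22, 20), (0, 22, 21), (0, 12, 19), (3, 2605066, 2605066), (1, 6, 0), (2, 7, 1), (1, 6, 2), (2, 7, 3), (0, 31, 30), (0, 32, 29), (0, 0, 29), (0, 0, 12), (3, 10170384, 10170384), (1, 28, 0), (2, 29, 1), (1, 9, 2), (2, 10, 3), (1, 9, 4), (2, 10, 5), (0, 10, 39), (0, 0, 38), (0, 0, 38), (0, 0, 6), (3, 13811730, 13811730), (1, 25, 0), (2, 26, 1), (1, 19, 2), (2, 20, 3), (0, 49, 47), (0, 27, 47), (0, 21, 51), (0, 39, 51), (0, 0, 50), (0, 0, 8), (0, 0, 6), (0, 0, 17), (3, 11952160, 11952160), (1, 18, 0), (2,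 19, 1), (0, 38, 58), (0, 0, 58), (0, 10, 59), (0, 0, 16), (0, 0, 16), (0, 0, 16), (3, 15515712, 15515712), (1, 7, 0), (2, 8, 1), (0, 18, 34), (0, 0, 24), (0, 0, 24), (0, 0, 24), (3, 2019456, 2019456), (1, 36, 0), (2, 37, 1), (0, 26, 30), (0, 0, 30), (0, 0, 30), (0, 0, 30), (0, 0, 41), (3, 4038912, 4038912), (1, 13, 0), (2, 14, 1), (0, 22, 38), (0, 0, 38), (0, 0, 37), (3, 8077824, 8077824), (1, 4, 0), (2, 5, 1)]) (by decide +kernel)]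
  decide +kernel

/-- The masks. -/
def hexInX : List ℕ := [1, 2, 4, 8, 8192, 262144, 270351, 340831]

theorem hexIn_card : Nat.card (commFix hexInX []) = 1 := by
  rw [card_commFix (L := [
  (4,
    [984818244535754528103549039458486304],
    [(0, (24, [[(1, 1, 0)]])),
     (1, (24, [[(1, 2, 0)]])),
     (2, (24, [[(1, 3, 0)]])),
     (3, (24, [[(1, 4, 0)]])),
     (5, (24, [[(2, 8, 7), (1, 0, 1)]])),
     (6, (24, [[(2, 8, 7), (2, 0, 1), (0, 8, 7), (0, 0, 6), (0, 0, 6), (0, 0, 5), (3, 421910, 4989254), (1, 5, 0), (2, 6, 1), (0, 14, 12), (0, 0, 12), (0, 0, 12), (0, 0, 12), (3, 12656663, 45159), (1, 5, 0), (0, 20, 19), (0, 0, 19), (0, 0, 17), (0, 0, 10), (0, 0, 4), (3, 2207772, 2232654), (2, 26, 0)]])),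
     (7, (24, [[(2, 8, 7), (1, 0, 1)]])),
     (8, (24, [[(2, 9, 8), (2, 9, 8), (2, 0, 2), (0, 9, 8), (14, 3416079, 3416079), (1, 4, 0), (2, 5, 1), (0, 3, 10), (0, 0, 10), (0, 0, 9), (3, 421910, 4989254), (1, 8, 0), (2, 9, 1), (1, 6, 2), (2, 7, 3), (0, 20, 18), (0, 0, 18), (0, 0, 18), (0, 0, 18), (3, 12656663, 140167), (1, 7, 0), (1, 6, 1), (0, 27, 26), (0, 0, 26), (0, 0, 24), (0, 0, 13), (0, 0, 5), (3, 2207772, 1090380), (1, 22, 0), (2, 23, 1), (0, 34, 33), (0, 0, 33), (0, 0, 32), (0, 0, 4), (3, 6832158, 13631886), (1, 21, 0), (2, 22, 1), (2, 15, 2), (0, 34, 9), (0, 0, 9), (0, 0, 4), (0, 0, 4), (0, 0, 4), (3, 11952160, 1975812), (1, 47, 0)]])),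
     (9, (24, [[(2, 8, 7), (2, 0, 1), (0, 8, 7), (0, 0, 6), (0, 0, 6), (0, 0, 5), (3, 421910, 371206), (1, 5, 0), (2, 6, 1), (0, 14, 12), (0, 0, 12), (0, 0, 12), (0, 0, 12), (3, 12656663, 140167), (1, 5, 0), (0, 20, 19), (0, 0, 19), (0, 0, 17), (0, 0, 10), (0, 0, 4), (3, 2207772, 1090380), (2, 13, 0)]])),
     (10, (24, [[(2, 8, 7), (1, 0, 1)]])),
     (11, (24, [[(2, 8, 7), (1, 0, 1)]])),
     (12, (24, [[(2, 8, 7), (2, 0, 1), (0, 8, 7), (0, 0, 6), (0, 0, 6), (0, 0, 5), (3, 421910, 421910), (1, 5, 0), (2, 6, 1), (0, 14, 12), (0, 0, 12), (0, 0, 12), (0, 0, 12), (3, 12656663, 45159), (1, 5, 0), (0, 20, 19), (0, 0, 19), (0, 0, 17), (0, 0, 10), (0, 0, 4), (3, 2207772, 21116), (2, 26, 0)]])),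
     (13, (24, [[(1, 5, 0)]])),
     (14, (24, [[(2, 8, 7), (1, 0, 1)]])),
     (15, (24, [[(2, 8, 7), (1, 0, 1)]])),
     (16, (24, [[(2, 8, 7), (2, 0, 1), (0, 8, 7), (0, 0, 6), (0, 0, 6), (0, 0, 5), (3, 421910, 371206), (1, 5, 0), (2, 6, 1), (0, 14, 12), (0, 0, 12), (0, 0, 12), (0, 0, 12), (3, 12656663, 12656663), (1, 5, 0), (0, 20, 19), (0, 0, 19), (0, 0, 17), (0, 0, 10), (0, 0, 4), (3, 2207772, 4465308), (1, 27, 0)]])),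
     (17, (24, [[(2, 8, 7), (1, 0, 1)]])),
     (18, (24, [[(1, 6, 0)]])),
     (19, (24, [[(2, 8, 7), (1, 0, 1)]])),
     (20, (24, [[(2, 8, 7), (1, 0, 1)]])),
     (21, (24, [[(2, 8, 7), (1, 0, 1)]])),
     (22, (24, [[(2, 8, 7), (1, 0, 1)]])),
     (23, (24, [[(2, 8, 7), (1, 0, 1)]]))])]) (fin := [(2, 9, 8), (2, 9, 8), (2, 0, 2), (0, 9, 8), (14, 3416079, 3416079), (1, 4, 0), (2, 5, 1), (0, 3, 10), (0, 0, 10), (0, 0, 9), (3, 421910, 421910), (1, 8, 0), (2, 9, 1), (1, 6, 2), (2, 7, 3), (0, 20, 18), (0, 0, 18), (0, 0, 18), (0, 0, 18), (3, 12656663, 12656663), (1, 7, 0), (2, 8, 1), (1, 7, 2), (2, 8, 3), (0, 29, 28), (0, 0, 28), (0, 0, 26), (0, 0, 15), (0, 0, 7), (3, 2207772, 2207772), (1, 24, 0), (2, 25, 1), (1, 8, 2), (2, 9, 3), (0, 38, 37), (0, 0, 37), (0, 0, 36), (0, 0, 6), (3, 6832158, 6832158), (1, 25, 0), (2, 26, 1), (1, 18, 2), (2, 19,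 3), (1, 9, 4), (2, 10, 5), (0, 41, 14), (0, 0, 14), (0, 0, 7), (0, 0, 7), (0, 0, 6), (3, 11952160, 11952160), (1, 6, 0), (2, 7, 1), (0, 59, 22), (0, 0, 14), (0, 0, 13), (0, 0, 13), (0, 0, 24), (0, 0, 14), (3, 15515712, 15515712), (1, 38, 0), (2, 39, 1), (0, 68, 50), (0, 0, 31), (0, 0, 24), (0, 0, 24), (0, 0, 33), (0, 0, 23), (3, 2019456, 2019456), (1, 16, 0), (2, 17, 1), (0, 67, 50), (0, 0, 41), (0, 0, 41), (0, 0, 41), (0, 0, 31), (3, 4038912, 4038912), (1, 15, 0), (2, 16, 1), (0, 67, 58), (0, 0, 49), (0, 0, 49), (0, 0, 42), (0, 0, 40), (0, 0, 51), (3, 11654144, 11654144), (1, 15, 0), (2, 16, 1)]) (by decide +kernel)]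
  decide +kernel

/-- The masks. -/
def hexOutX : List ℕ := [16, 64, 256, 512, 4096, 65536, 270351, 340831]

theorem hexOut_card : Nat.card (commFix hexOutX []) = 1 := by
  rw [card_commFix (L := [
  (0,
    [984818244535754528103549039458486304],
    [(1, (24, [[(2, 9, 8), (2, 8, 1), (12, 3416079, 3416079), (1, 2, 0), (2, 3, 1), (0, 5, 10), (0, 0, 7), (0, 0, 3), (3, 3297305, 11538486), (2, 7, 0), (1, 5, 1), (2, 6, 2), (0, 12, 18), (0, 0, 18), (0, 0, 10), (3, 7417889, 3739786), (1, 6, 0), (2, 7, 1), (1, 6, 2), (2, 7, 3), (0, 25, 9), (0, 0, 2), (3, 6475812, 11055264), (1, 5, 0), (2, 6, 1), (1, 21, 2), (1, 6, 3), (2, 7, 4), (0, 15, 4), (0, 0, 3), (0, 0, 3), (3, 10846245, 2204803), (1, 7, 0), (2, 8, 1), (1, 15, 2), (2, 16, 3), (1, 8, 4), (2, 9, 5), (0, 44, 21), (0, 0, 15), (0, 0, 6), (0, 0, 15), (0, 0, 7), (3, 2826278, 2435240), (2, 33, 0), (1,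 7, 1), (0, 48, 13), (0, 0, 21), (0, 0, 3), (0, 0, 13), (0, 0, 23), (0, 0, 14), (0, 0, 6)]])),
     (2, (24, [[(2, 9, 8), (2, 8, 1), (12, 3416079, 3416079), (1, 2, 0), (2, 3, 1), (0, 5, 10), (0, 0, 7), (0, 0, 3), (3, 3297305, 11538486), (2, 7, 0), (1, 5, 1), (2, 6, 2), (0, 12, 18), (0, 0, 18), (0, 0, 10), (3, 7417889, 3610628), (1, 6, 0), (2, 7, 1), (1, 6, 2), (2, 7, 3), (0, 25, 9), (0, 0, 2), (3, 6475812, 9607201), (1, 5, 0), (2, 6, 1), (1, 21, 2), (1, 6, 3), (2, 7, 4), (0, 15, 4), (0, 0, 3), (0, 0, 3), (3, 10846245, 1302533), (1, 7, 0), (2, 8, 1), (1, 15, 2), (2, 16, 3), (1, 8, 4), (2, 9, 5), (0, 44, 21), (0, 0, 15), (0, 0, 6), (0, 0, 15), (0, 0, 7), (3, 2826278, 2031657), (2, 33, 0), (1, 7, 1), (0, 48, 13), (0, 0, 21), (0, 0, 3), (0, 0, 13), (0, 0, 23), (0, 0, 14), (0, 0, 6)]])),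
     (3, (24, [[(2, 9, 8), (2, 8, 1), (12, 3416079, 3416079), (1, 2, 0), (2, 3, 1), (0, 5, 10), (0, 0, 7), (0, 0, 3), (3, 3297305, 3297305), (2, 7, 0), (1, 5, 1), (2, 6, 2), (0, 12, 18), (0, 0, 18), (0, 0, 10), (3, 7417889, 3739786), (1, 6, 0), (2, 7, 1), (1, 6, 2), (2, 7, 3), (0, 25, 9), (0, 0, 2), (3, 6475812, 2019456), (1, 5, 0), (2, 6, 1), (1, 21, 2), (1, 6, 3), (2, 7, 4), (0, 15, 4), (0, 0, 3), (0, 0, 3), (3, 10846245, 1410188), (1, 7, 0), (2, 8, 1), (1, 15, 2), (2, 16, 3), (1, 8, 4), (2, 9, 5), (0, 44, 21), (0, 0, 15), (0, 0, 6), (0, 0, 15), (0, 0, 7), (3, 2826278, 5709954), (2, 33, 0), (1, 7, 1), (0, 48, 13), (0, 0, 21), (0, 0, 3), (0, 0, 13), (0, 0, 23), (0, 0, 14), (0, 0, 6)]])),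
     (4, (24, [[(1, 7, 0)]])),
     (5, (24, [[(1, 7, 0)]])),
     (6, (24, [[(1, 7, 0)]])),
     (7, (24, [[(1, 7, 0)]])),
     (8, (24, [[(1, 7, 0)]])),
     (9, (24, [[(1, 7, 0)]])),
     (10, (24, [[(1, 7, 0)]])),
     (11, (24, [[(1, 7, 0)]])),
     (12, (24, [[(1, 7, 0)]])),
     (13, (24, [[(2, 9, 8), (2, 8, 1), (12, 3416079, 3416079), (1, 2, 0), (2, 3, 1), (0, 5, 10), (0, 0, 7), (0, 0, 3), (3, 3297305, 3421328), (2, 7, 0), (1, 5, 1), (2, 6, 2), (0, 12, 18), (0, 0, 18), (0, 0, 10), (3, 7417889, 7417889), (1, 6, 0), (2, 7, 1), (1, 6, 2), (2, 7, 3), (0, 25, 9), (0, 0, 2), (3, 6475812, 5280930), (1, 5, 0), (2, 6, 1), (1, 21, 2), (2, 22, 3), (1, 7, 4), (2, 8, 5), (0, 16, 5), (0, 0, 4), (0, 0, 3), (3, 10846245, 9543722), (1, 8, 0), (2, 9, 1), (1, 16, 2), (2, 7, 3), (0, 43, 20), (0, 0, 14), (0, 0, 4), (0, 0, 14), (0, 0, 5), (3, 2826278, 1116327),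 (1, 6, 0), (0, 50, 47), (0, 0, 28), (0, 0, 12), (0, 0, 21), (0, 0, 21), (0, 0, 21), (0, 0, 6)]])),
     (14, (24, [[(1, 7, 0)]])),
     (15, (24, [[(1, 7, 0)]])),
     (16, (24, [[(1, 7, 0)]])),
     (17, (24, [[(1, 7, 0)]])),
     (18, (24, [[(2, 9, 8), (2, 8, 1), (12, 3416079, 3416079), (1, 2, 0), (2, 3, 1), (0, 5, 10), (0, 0, 7), (0, 0, 3), (3, 3297305, 3421328), (2, 7, 0), (1, 5, 1), (2, 6, 2), (0, 12, 18), (0, 0, 18), (0, 0, 10), (3, 7417889, 3610628), (1, 6, 0), (2, 7, 1), (1, 6, 2), (2, 7, 3), (0, 25, 9), (0, 0, 2), (3, 6475812, 2268296), (1, 5, 0), (2, 6, 1), (1, 21, 2), (1, 6, 3), (2, 7, 4), (0, 15, 4), (0, 0, 3), (0, 0, 3), (3, 10846245, 2605066), (1, 7, 0), (2, 8, 1), (1, 15, 2), (2, 16, 3), (1, 8, 4), (2, 9, 5), (0, 44, 21), (0, 0, 15), (0, 0, 6), (0, 0, 15), (0, 0, 7), (3, 2826278, 6488205), (2, 33, 0), (1, 7, 1), (0, 48, 13),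 (0, 0, 21), (0, 0, 3), (0, 0, 13), (0, 0, 23), (0, 0, 14), (0, 0, 6)]])),
     (19, (24, [[(1, 7, 0)]])),
     (20, (24, [[(1, 7, 0)]])),
     (21, (24, [[(1, 7, 0)]])),
     (22, (24, [[(1, 7, 0)]])),
     (23, (24, [[(1, 7, 0)]]))])]) (fin := [(2, 9, 8), (2, 8, 1), (12, 3416079, 3416079), (1, 2, 0), (2, 3, 1), (0, 5, 10), (0, 0, 7), (0, 0, 3), (3, 3297305, 3297305), (1, 7, 0), (2, 8, 1), (1, 6, 2), (2, 7, 3), (0, 13, 19), (0, 0, 19), (0, 0, 11), (3, 7417889, 7417889), (1, 6, 0), (2, 7, 1), (1, 6, 2), (2, 7, 3), (0, 26, 9), (0, 0, 2), (3, 6475812, 6475812), (1, 5, 0), (2, 6, 1), (1, 22, 2), (2, 23, 3), (1, 7, 4), (2, 8, 5), (0, 16, 5), (0, 0, 4), (0, 0, 3), (3, 10846245, 10846245), (1, 8, 0), (2, 9, 1), (1, 16, 2), (2, 17, 3), (1, 8, 4), (2, 9, 5), (0, 46, 22), (0, 0, 16), (0, 0, 6), (0, 0, 16), (0, 0, 7), (3, 2826278, 2826278), (1, 34, 0),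 (2, 35, 1), (1, 8, 2), (2, 9, 3), (0, 56, 55), (0, 56, 16), (0, 0, 24), (0, 0, 6), (0, 0, 6), (0, 0, 26), (0, 0, 7), (3, 2019456, 2019456), (1, 8, 0), (2, 9, 1), (0, 9, 33), (0, 0, 33), (0, 0, 14), (0, 0, 34), (0, 0, 25), (3, 11654144, 11654144), (1, 6, 0), (2, 7, 1)]) (by decide +kernel)]
  decide +kernel

/-- The masks. -/
def baseSevenX : List ℕ := [32, 16, 8, 4, 2, 1, 8388608]

theorem baseSeven_card : Nat.card (commFix baseSevenX []) = 1 := by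
  rw [card_commFix (L := [
]) (fin := [(2, 7, 6), (2, 0, 6), (2, 0, 6), (2, 0, 6), (2, 0, 6), (2, 0, 6), (2, 0, 6), (0, 13, 12), (0, 0, 12), (0, 0, 12), (0, 0, 11), (3, 12656663, 12656663), (1, 5, 0), (2, 6, 1), (0, 19, 14), (0, 0, 2), (3, 7417889, 7417889), (1, 3, 0), (2, 4, 1), (0, 9, 21), (0, 0, 20), (3, 8536111, 8536111), (1, 3, 0), (2, 4, 1), (0, 16, 26), (0, 0, 26), (0, 0, 26), (3, 8663097, 8663097), (1, 15, 0), (2, 16, 1), (1, 12, 2), (2, 13, 3), (1, 8, 4), (2, 9, 5), (0, 38, 36), (0, 0, 36), (0, 0, 36), (0, 0, 6), (3, 692282, 692282), (1, 16, 0), (2, 17, 1), (1, 7, 2), (2, 8, 3), (0, 48, 46), (0, 0, 46), (0, 0, 46), (0, 0, 46), (3, 5275709, 5275709), (1, 18, 0), (2, 19, 1), (1, 18, 2), (2, 19, 3), (1, 10, 4), (2, 11, 5), (0, 60, 5), (0, 0, 3), (0, 0, 15), (0, 0, 24), (0, 0, 5), (0, 0, 5), (3, 15515712, 15515712), (1, 18, 0), (2, 19,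 1), (0, 32, 12), (0, 0, 24), (0, 0, 24), (0, 0, 33), (0, 0, 14), (0, 0, 14), (3, 2019456, 2019456), (1, 7, 0), (2, 8, 1), (0, 43, 22), (0, 0, 22), (0, 0, 22), (0, 0, 42), (0, 0, 23), (0, 0, 23), (3, 4038912, 4038912), (1, 7, 0), (2, 8, 1), (0, 51, 30), (0, 0, 30), (0, 0, 43), (0, 0, 43), (0, 0, 31), (3, 8077824, 8077824), (1, 6, 0), (2, 7, 1), (0, 95, 39), (0, 0, 59), (0, 0, 40), (0, 0, 40), (0, 0, 52), (0, 0, 41), (3, 11654144, 11654144), (1, 7, 0), (2, 8, 1)]) (by decide +kernel)]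
  decide +kernel

theorem commFix_nil (X : List ℕ) : commFix X [] = fixMasks X := by
  ext σ; simp [mem_commFix]

end CfsgLib.Mathieu
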