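import Cfsg.Agent.Lib.Mathieu.CommElts
import Cfsg.Agent.Lib.Mathieu.PtStabs

/-! Generated: chains for some stabilisers. -/

set_option autoImplicit false
set_option maxRecDepth 100000

namespace CfsgLib.Mathieu

open Cfsg CfsgLib.Golay

/-- Levels. -/
def hexGrpLevels : List CLevel := [
  (5,
    [313674380516085836957177657543472160,
     226703507179142572473888707394504096,
     226742803912947017543402782644602432,
     233232792425204084257822938511802945,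
     217617199158940686300653144474946624,
     217656496098062587146441610787589696,
     228040621104547906519190828822396993,
     221510992443372744787693727449648544,
     226743041442243618385137040917365153,
     233233386906768391987032901617288256],
    [(0, (24, [[(1, 1, 0)]])),
     (1, (24, [[(1, 1, 0)]])),
     (2, (24, [[(1, 1, 0)]])),
     (3, (24, [[(1, 1, 0)]])),
     (4, (24, [[(2, 2, 1), (1, 0, 1)]])),
     (6, (24, [[(2, 2, 1), (1, 0, 1)]])),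
     (8, (24, [[(2, 2, 1), (1, 0, 1)]])),
     (9, (24, [[(2, 2, 1), (1, 0, 1)]])),
     (12, (24, [[(2, 2, 1), (1, 0, 1)]])),
     (13, (24, [[(1, 1, 0)]])),
     (16, (24, [[(2, 2, 1), (1, 0, 1)]])),
     (18, (24, [[(1, 1, 0)]])),
     (20, (24, [[(4, 3416079, 3416079), (1, 1, 0)]])),
     (21, (24, [[(4, 3416079, 3416079), (1, 1, 0)]]))]),
  (7,
    [444780054035498696916454447640594464,
     305925252197849483994303772707894304,
     438289803499666895000750635144873538,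
     645981729373491178067948170089908320,
     434434755470840267427184313474909762,
     487616318626848019737397744751462401,
     309780175250331671572915238017238434,
     313713540312023478625329361124394402,
     313674380516085836957177657543472160],
    [(0, (24, [[(1, 2, 0)]])),
     (1, (24, [[(1, 2, 0)]])),
     (2, (24, [[(1, 2, 0)]])),
     (3, (24, [[(1, 2, 0)]])),
     (4, (24, [[(2, 3, 2), (1, 0, 1)]])),
     (5, (24, [[(1, 1, 0)]])),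
     (6, (24, [[(2, 3, 2), (1, 0, 1)]])),
     (8, (24, [[(2, 3, 2), (1, 0, 1)]])),
     (9, (24, [[(2, 3, 2), (1, 0, 1)]])),
     (12, (24, [[(2, 3, 2), (1, 0, 1)]])),
     (13, (24, [[(1, 2, 0)]])),
     (16, (24, [[(2, 3, 2), (1, 0, 1)]])),
     (18, (24, [[(1, 2, 0)]])),
     (20, (24, [[(5, 3416079, 3416079), (1, 1, 0)]])),
     (21, (24, [[(5, 3416079, 3416079), (1, 1, 0)]]))]),
  (0,
    [444780054035498696916454447640594464,
     819962440346578760758745502014049698,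
     440925247547628127307617614868531235,
     803048693414536666626749225330871730],
    [(1, (24, [[(2, 5, 4), (2, 5, 4), (2, 1, 4), (2, 0, 4), (10, 3416079, 3416079), (1, 1, 0), (0, 6, 8), (0, 0, 8), (0, 0, 2), (3, 11535529, 3154402), (1, 8, 0)]])),
     (4, (24, [[(1, 3, 0)]])),
     (5, (24, [[(1, 3, 0)]])),
     (6, (24, [[(1, 3, 0)]])),
     (7, (24, [[(1, 3, 0)]])),
     (8, (24, [[(1, 3, 0)]])),
     (9, (24, [[(1, 3, 0)]])),
     (10, (24, [[(1, 3, 0)]])),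
     (11, (24, [[(1, 3, 0)]])),
     (12, (24, [[(1, 3, 0)]])),
     (13, (24, [[(2, 5, 4), (2, 5, 4), (2, 1, 4), (2, 0, 4), (10, 3416079, 3416079), (1, 1, 0), (0, 6, 8), (0, 0, 8), (0, 0, 2), (3, 11535529, 3154402), (1, 8, 0)]])),
     (14, (24, [[(1, 3, 0)]])),
     (15, (24, [[(1, 3, 0)]])),
     (16, (24, [[(1, 3, 0)]])),
     (17, (24, [[(1, 3, 0)]])),
     (19, (24, [[(1, 3, 0)]])),
     (20, (24, [[(1, 3, 0)]])),
     (21, (24, [[(1, 3, 0)]])),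
     (22, (24, [[(1, 3, 0)]])),
     (23, (24, [[(1, 3, 0)]]))]),
  (2,
    [984818244535754528103549039458486304,
     444780054035498696916454447640594464],
    [(0, (24, [[(1, 1, 0)]])),
     (1, (24, [[(2, 6, 5), (2, 6, 5), (2, 1, 5), (2, 0, 5), (11, 3416079, 3416079), (1, 1, 0), (0, 6, 9), (0, 0, 9), (0, 0, 2), (3, 8126628, 3154402), (1, 8, 0)]])),
     (3, (24, [[(2, 6, 5), (2, 0, 4), (2, 0, 4), (10, 3416079, 3416079), (1, 1, 0), (0, 5, 8), (0, 0, 8), (0, 0, 2), (3, 8126628, 11535529), (1, 10, 0)]])),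
     (4, (24, [[(2, 4, 1), (1, 0, 1)]])),
     (5, (24, [[(2, 4, 1), (1, 0, 1)]])),
     (6, (24, [[(2, 4, 1), (1, 0, 1)]])),
     (7, (24, [[(2, 4, 1), (1, 0, 1)]])),
     (8, (24, [[(2, 4, 1), (1, 0, 1)]])),
     (9, (24, [[(2, 4, 1), (1, 0, 1)]])),
     (10, (24, [[(2, 4, 1), (1, 0, 1)]])),
     (11, (24, [[(2, 4, 1), (1, 0, 1)]])),
     (12, (24, [[(2, 4, 1), (1, 0, 1)]])),
     (13, (24, [[(2, 6, 5), (2, 6, 5), (2, 1, 5), (2, 0, 5), (11, 3416079, 3416079), (1, 1, 0), (0, 6, 9), (0, 0, 9), (0, 0, 2), (3, 8126628, 3154402), (1, 8, 0)]])),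
     (14, (24, [[(2, 4, 1), (1, 0, 1)]])),
     (15, (24, [[(2, 4, 1), (1, 0, 1)]])),
     (16, (24, [[(2, 4, 1), (1, 0, 1)]])),
     (17, (24, [[(2, 4, 1), (1, 0, 1)]])),
     (19, (24, [[(2, 4, 1), (1, 0, 1)]])),
     (20, (24, [[(2, 4, 1), (1, 0, 1)]])),
     (21, (24, [[(2, 4, 1), (1, 0, 1)]])),
     (22, (24, [[(2, 4, 1), (1, 0, 1)]])),
     (23, (24, [[(2, 4, 1), (1, 0, 1)]]))])]

/-- Final derivation. -/
def hexGrpFin : List (ℕ × ℕ × ℕ) := [(2, 6, 5), (2, 6, 5), (2, 1, 5), (2, 0, 5), (2, 8, 5), (2, 0, 5), (13, 3416079, 3416079), (1, 3, 0), (2, 4, 1), (0, 9, 12), (0, 0, 12), (0, 0, 3), (3, 8126628, 8126628), (1, 7, 0), (2, 8, 1), (1, 6, 2), (2, 7, 3), (0, 18, 19), (0, 0, 4), (0, 0, 11), (3, 3489985, 3489985), (1, 19, 0), (2, 20, 1), (1, 6, 2), (2, 7, 3), (0, 27, 3), (0, 0, 10), (3, 6889680, 6889680), (1, 13, 0), (2, 14, 1), (1, 7, 2), (2, 8, 3), (1, 24, 4), (2, 25, 5), (0, 36, 20), (0, 0, 13),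 (0, 0, 5), (3, 463064, 463064), (1, 8, 0), (2, 9, 1), (1, 8, 2), (2, 9, 3), (1, 17, 4), (2, 18, 5), (0, 26, 5), (0, 0, 14), (0, 0, 22), (3, 12599513, 12599513), (1, 26, 0), (2, 27, 1), (1, 34, 2), (2, 35, 3), (1, 8, 4), (2, 9, 5), (0, 57, 56), (0, 0, 41), (0, 0, 16), (0, 0, 8), (0, 0, 8), (0, 0, 7), (3, 884962, 884962), (1, 7, 0), (2, 8, 1), (0, 49, 34), (0, 0, 14), (0, 0, 32), (0, 0, 32), (0, 0, 15), (0, 0, 6), (3, 4038912, 4038912), (1, 28, 0), (2, 29, 1), (0, 22, 31), (0, 0, 40), (0, 0, 40), (0, 0, 51), (0, 0, 23), (0, 0, 15), (3, 11654144, 11654144), (1, 16, 0), (2, 17, 1)]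

theorem hexGrp_ok : cChainOK [270351, 340831] [] hexGrpLevels hexGrpFin = true := by decide +kernel

theorem hexGrp_card : Nat.card (fixMasks [270351, 340831]) = 720 := by
  rw [← commFix_nil, card_commFix hexGrp_ok]
  decide +kernel

/-- Levels. -/
def mNineLevels : List CLevel := [
  (5,
    [487373122709212905255923294881187872,
     609744425604512129277147896769742880,
     608460305594945736333983948957190176,
     232783362388564428185213343297439776,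
     313063593285160742836699179059316768,
     486073779993727295785104656607348768,
     608405391266436187982588441666881568,
     487655643029606470073469406179395616,
     313626468097149398198142802389895200,
     303972014349329906305369256209090592,
     233054687951835244750033064009402400,
     227578386318009578406903204956702752],
    [(0, (24, [[(1, 3, 0)]])),
     (1, (24, [[(1, 2, 0)]])),
     (2, (24, [[(1, 1, 0)]])),
     (3, (24, [[(2, 4, 3), (2, 0, 3), (2, 0, 3), (1, 0, 3)]])),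
     (4, (24, [[(2, 4, 3), (2, 0, 3), (2, 0, 3), (1, 0, 3)]])),
     (6, (24, [[(2, 4, 3), (2, 0, 3), (2, 0, 3), (1, 0, 3)]])),
     (8, (24, [[(2, 4, 3), (2, 0, 3), (2, 0, 3), (1, 0, 3)]])),
     (9, (24, [[(2, 4, 3), (2, 0, 3), (2, 0, 3), (1, 0, 3)]])),
     (12, (24, [[(2, 4, 3), (2, 0, 3), (2, 0, 3), (1, 0, 3)]])),
     (13, (24, [[(2, 4, 3), (2, 0, 3), (2, 0, 3), (1, 0, 3)]])),
     (16, (24, [[(2, 4, 3), (2, 0, 3), (2, 0, 3), (1, 0, 3)]])),
     (18, (24, [[(2, 4, 3), (2, 0, 3), (2, 0, 3), (1, 0, 3)]]))]),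
  (4,
    [984818244535754528103549039458486304,
     486349973926430203268823274221996064,
     928952864966028496604741530750814240,
     970499966350631336865513127433832480,
     944293816565412651426207388111472672,
     487373122709212905255923294881187872],
    [(0, (24, [[(1, 4, 0)]])),
     (1, (24, [[(1, 3, 0)]])),
     (2, (24, [[(1, 2, 0)]])),
     (3, (24, [[(2, 5, 4), (2, 0, 4), (2, 0, 4), (2, 0, 3), (0, 8, 7), (0, 0, 7), (0, 0, 6), (0, 0, 8), (3, 786999, 8536111), (1, 5, 0)]])),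
     (5, (24, [[(2, 5, 4), (2, 0, 4), (2, 0, 4), (1, 0, 3)]])),
     (7, (24, [[(2, 5, 4), (2, 0, 4), (2, 0, 4), (1, 0, 3)]])),
     (8, (24, [[(2, 5, 4), (2, 0, 4), (2, 0, 4), (2, 0, 3), (0, 8, 7), (0, 0, 7), (0, 0, 6), (0, 0, 8), (3, 786999, 6292775), (1, 5, 0)]])),
     (10, (24, [[(2, 5, 4), (2, 0, 4), (2, 0, 4), (1, 0, 3)]])),
     (11, (24, [[(2, 5, 4), (2, 0, 4), (2, 0, 4), (1, 0, 3)]])),
     (14, (24, [[(2, 5, 4), (2, 0, 4), (2, 0, 4), (1, 0, 3)]])),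
     (15, (24, [[(2, 5, 4), (2, 0, 4), (2, 0, 4), (1, 0, 3)]])),
     (16, (24, [[(2, 5, 4), (2, 0, 4), (2, 0, 4), (2, 0, 3), (0, 8, 7), (0, 0, 7), (0, 0, 6), (0, 0, 8), (3, 786999, 1116327), (1, 5, 0)]])),
     (17, (24, [[(2, 5, 4), (2, 0, 4), (2, 0, 4), (1, 0, 3)]])),
     (19, (24, [[(2, 5, 4), (2, 0, 4), (2, 0, 4), (1, 0, 3)]])),
     (20, (24, [[(2, 5, 4), (2, 0, 4), (2, 0, 4), (1, 0, 3)]])),
     (21, (24, [[(2, 5, 4), (2, 0, 4), (2, 0, 4), (1, 0, 3)]])),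
     (22, (24, [[(2, 5, 4), (2, 0, 4), (2, 0, 4), (1, 0, 3)]])),
     (23, (24, [[(2, 5, 4), (2, 0, 4), (2, 0, 4), (1, 0, 3)]]))]),
  (3,
    [984818244535754528103549039458486304],
    [(0, (24, [[(1, 5, 0)]])),
     (1, (24, [[(1, 4, 0)]])),
     (2, (24, [[(1, 3, 0)]])),
     (4, (24, [[(1, 1, 0)]])),
     (5, (24, [[(2, 6, 5), (2, 0, 5), (2, 0, 5), (2, 0, 4), (1, 0, 4)]])),
     (6, (24, [[(2, 6, 5), (2, 0, 5), (2, 0, 5), (2, 0, 4), (2, 0, 4), (0, 10, 9), (0, 0, 9), (0, 0, 7), (0, 0, 10), (3, 8536111, 45159), (1, 5, 0)]])),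
     (7, (24, [[(2, 6, 5), (2, 0, 5), (2, 0, 5), (2, 0, 4), (1, 0, 4)]])),
     (8, (24, [[(2, 6, 5), (2, 0, 5), (2, 0, 5), (2, 0, 4), (2, 0, 4), (0, 10, 8), (0, 0, 7), (0, 0, 7), (0, 0, 10), (3, 5275709, 201013), (1, 5, 0)]])),
     (9, (24, [[(0, 5, 4), (0, 0, 4), (0, 0, 2), (0, 0, 5), (3, 8536111, 786999), (1, 6, 0)]])),
     (10, (24, [[(2, 6, 5), (2, 0, 5), (2, 0, 5), (2, 0, 4), (1, 0, 4)]])),
     (11, (24, [[(2, 6, 5), (2, 0, 5), (2, 0, 5), (2, 0, 4), (1, 0, 4)]])),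
     (12, (24, [[(2, 6, 5), (2, 0, 5), (2, 0, 5), (2, 0, 4), (2, 0, 4), (0, 10, 9), (0, 0, 9), (0, 0, 7), (0, 0, 10), (3, 8536111, 45159), (1, 5, 0)]])),
     (13, (24, [[(2, 6, 5), (2, 0, 5), (2, 0, 5), (2, 0, 4), (2, 0, 4), (0, 10, 9), (0, 0, 9), (0, 0, 7), (0, 0, 10), (3, 8536111, 45159), (1, 5, 0)]])),
     (14, (24, [[(2, 6, 5), (2, 0, 5), (2, 0, 5), (2, 0, 4), (1, 0, 4)]])),
     (15, (24, [[(2, 6, 5), (2, 0, 5), (2, 0, 5), (2, 0, 4), (1, 0, 4)]])),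
     (16, (24, [[(2, 6, 5), (2, 0, 5), (2, 0, 5), (2, 0, 4), (2, 0, 4), (0, 10, 8), (0, 0, 7), (0, 0, 7), (0, 0, 10), (3, 5275709, 201013), (1, 5, 0)]])),
     (17, (24, [[(2, 6, 5), (2, 0, 5), (2, 0, 5), (2, 0, 4), (1, 0, 4)]])),
     (18, (24, [[(0, 5, 4), (0, 0, 4), (0, 0, 2), (0, 0, 5), (3, 8536111, 786999), (1, 6, 0)]])),
     (19, (24, [[(2, 6, 5), (2, 0, 5), (2, 0, 5), (2, 0, 4), (1, 0, 4)]])),
     (20, (24, [[(2, 6, 5), (2, 0, 5), (2, 0, 5), (2, 0, 4), (1, 0, 4)]])),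
     (21, (24, [[(2, 6, 5), (2, 0, 5), (2, 0, 5), (2, 0, 4), (1, 0, 4)]])),
     (22, (24, [[(2, 6, 5), (2, 0, 5), (2, 0, 5), (2, 0, 4), (1, 0, 4)]])),
     (23, (24, [[(2, 6, 5), (2, 0, 5), (2, 0, 5), (2, 0, 4), (1, 0, 4)]]))])]

/-- Final derivation. -/
def mNineFin : List (ℕ × ℕ × ℕ) := [(2, 7, 6), (2, 7, 6), (2, 0, 6), (2, 0, 6), (2, 3, 6), (2, 1, 6), (2, 0, 6), (0, 12, 11), (0, 0, 11), (0, 0, 9), (0, 0, 12), (3, 8536111, 8536111), (1, 7, 0), (2, 8, 1), (0, 19, 17), (0, 0, 16), (0, 0, 16), (0, 0, 19), (3, 5275709, 5275709), (1, 5, 0), (2, 6, 1), (0, 25, 24), (0, 0, 2), (3, 7438406, 7438406), (1, 17, 0), (2, 18, 1), (1, 5, 2), (2, 6, 3), (0, 13, 28), (0, 0, 4), (3, 9506893, 9506893), (1, 5, 0), (2, 6, 1), (1, 20, 2), (2, 21, 3), (1, 15, 4), (2, 16, 5), (0, 42, 38), (0, 0, 4), (0, 0, 3), (0, 0, 13), (3, 11575377, 11575377), (1, 17, 0), (2, 18, 1), (1, 11, 2), (2, 12, 3), (1, 9, 4), (2, 10, 5), (0,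 52, 49), (0, 0, 6), (0, 0, 14), (0, 0, 24), (3, 4063314, 4063314), (1, 7, 0), (2, 8, 1), (1, 20, 2), (2, 21, 3), (1, 29, 4), (2, 30, 5), (0, 27, 5), (0, 0, 4), (0, 0, 4), (0, 0, 26), (0, 0, 16), (0, 0, 6), (3, 2019456, 2019456), (1, 7, 0), (2, 8, 1), (0, 24, 23), (0, 0, 15), (0, 0, 34), (0, 0, 24), (0, 0, 45), (0, 0, 15), (3, 4038912, 4038912), (1, 20, 0), (2, 21, 1), (0, 33, 45), (0, 0, 44), (0, 0, 22), (0, 0, 44), (0, 0, 34), (0, 0, 55), (3, 11654144, 11654144), (1, 16, 0), (2, 17, 1)]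

theorem mNine_ok : cChainOK [4, 2, 1, 340831] [] mNineLevels mNineFin = true := by decide +kernel

theorem mNine_card : Nat.card (fixMasks [4, 2, 1, 340831]) = 72 := by
  rw [← commFix_nil, card_commFix mNine_ok]
  decide +kernel

/-- Levels. -/
def mElevenOutLevels : List CLevel := [
  (0,
    [984818244535754528103549039458486304,
     984573615201180725592165913404213249,
     970294412485122689443441491470025730,
     965102580740407255376441135799010307,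
     978076397157419117647494996039926788,
     978065146755169943450311387097662470,
     969882303755368759052416540681438216,
     978227847817806864451161872029254665,
     970253716471000180270715569902289932,
     984817908961828780506505105862362125,
     984161245099511897830693355710055440,
     970295957430041730167260972511790098],
    [(5, (24, [[(1, 2, 0)]])),
     (7, (24, [[(1, 2, 0)]])),
     (10, (24, [[(1, 2, 0)]])),
     (11, (24, [[(1, 2, 0)]])),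
     (14, (24, [[(1, 2, 0)]])),
     (15, (24, [[(1, 2, 0)]])),
     (17, (24, [[(1, 2, 0)]])),
     (19, (24, [[(1, 2, 0)]])),
     (20, (24, [[(1, 2, 0)]])),
     (21, (24, [[(1, 2, 0)]])),
     (22, (24, [[(1, 2, 0)]])),
     (23, (24, [[(1, 2, 0)]]))]),
  (1,
    [984818244535754528103549039458486304,
     984355386066803413838770983050249280,
     969270339852425397140562826583147616,
     977864963184960973661438897150854272,
     978356456332680186531674236295120064,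
     970563300767287393104094707965232384,
     977924187313743004775033528710661408,
     970076718299557754323651929368003968,
     968819288114380904178311629202064800,
     984399710737868084300629629810771456,
     970364330986083930059007584876299840],
    [(0, (24, [[(1, 1, 0)]])),
     (5, (24, [[(2, 3, 1), (1, 0, 1)]])),
     (7, (24, [[(2, 3, 1), (1, 0, 1)]])),
     (10, (24, [[(2, 3, 1), (1, 0, 1)]])),
     (11, (24, [[(2, 3, 1), (1, 0, 1)]])),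
     (14, (24, [[(2, 3, 1), (1, 0, 1)]])),
     (15, (24, [[(2, 3, 1), (1, 0, 1)]])),
     (17, (24, [[(2, 3, 1), (1, 0, 1)]])),
     (19, (24, [[(2, 3, 1), (1, 0, 1)]])),
     (20, (24, [[(2, 3, 1), (1, 0, 1)]])),
     (21, (24, [[(2, 3, 1), (1, 0, 1)]])),
     (22, (24, [[(2, 3, 1), (1, 0, 1)]])),
     (23, (24, [[(2, 3, 1), (1, 0, 1)]]))]),
  (2,
    [984818244535754528103549039458486304,
     969202056781860934635753244362607648,
     984799016615329826603595760505294880,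
     969192610918565898168936684552525856,
     969240118097008726526406917528625184,
     965338963119640587914710321726563360,
     970479639580704471736199951706861600,
     984555825605089698432431076887901216,
     984776479905651688074335803026915360,
     965044229656035371736428196530669600],
    [(0, (24, [[(1, 2, 0)]])),
     (1, (24, [[(1, 1, 0)]])),
     (5, (24, [[(2, 4, 2), (2, 0, 2), (1, 0, 2)]])),
     (7, (24, [[(2, 4, 2), (2, 0, 2), (1, 0, 2)]])),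
     (10, (24, [[(2, 4, 2), (2, 0, 2), (1, 0, 2)]])),
     (11, (24, [[(2, 4, 2), (2, 0, 2), (1, 0, 2)]])),
     (14, (24, [[(2, 4, 2), (2, 0, 2), (1, 0, 2)]])),
     (15, (24, [[(2, 4, 2), (2, 0, 2), (1, 0, 2)]])),
     (17, (24, [[(2, 4, 2), (2, 0, 2), (1, 0, 2)]])),
     (19, (24, [[(2, 4, 2), (2, 0, 2), (1, 0, 2)]])),
     (20, (24, [[(2, 4, 2), (2, 0, 2), (1, 0, 2)]])),
     (21, (24, [[(2, 4, 2), (2, 0, 2), (1, 0, 2)]])),
     (22, (24, [[(2, 4, 2), (2, 0, 2), (1, 0, 2)]])),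
     (23, (24, [[(2, 4, 2), (2, 0, 2), (1, 0, 2)]]))]),
  (4,
    [984818244535754528103549039458486304,
     970531819526550031117983620406741024,
     970499966350631336865513127433832480,
     984534996141977609297800625156032544,
     984769902586367543974814854303385632,
     970254902120350598020240965873371168],
    [(0, (24, [[(1, 3, 0)]])),
     (1, (24, [[(1, 2, 0)]])),
     (2, (24, [[(1, 1, 0)]])),
     (3, (24, [[(2, 5, 3), (2, 0, 3), (2, 0, 3), (2, 0, 3), (0, 7, 6), (0, 0, 6), (0, 0, 6), (0, 0, 11), (3, 12656663, 8536111), (1, 5, 0)]])),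
     (5, (24, [[(2, 5, 3), (2, 0, 3), (2, 0, 3), (1, 0, 3)]])),
     (6, (24, [[(2, 5, 3), (2, 0, 3), (2, 0, 3), (2, 0, 3), (0, 7, 6), (0, 0, 6), (0, 0, 6), (0, 0, 11), (3, 12656663, 11010247), (1, 5, 0)]])),
     (7, (24, [[(2, 5, 3), (2, 0, 3), (2, 0, 3), (1, 0, 3)]])),
     (9, (24, [[(2, 5, 3), (2, 0, 3), (2, 0, 3), (2, 0, 3), (0, 7, 6), (0, 0, 6), (0, 0, 6), (0, 0, 11), (3, 12656663, 9471495), (1, 5, 0)]])),
     (10, (24, [[(2, 5, 3), (2, 0, 3), (2, 0, 3), (1, 0, 3)]])),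
     (11, (24, [[(2, 5, 3), (2, 0, 3), (2, 0, 3), (1, 0, 3)]])),
     (14, (24, [[(2, 5, 3), (2, 0, 3), (2, 0, 3), (1, 0, 3)]])),
     (15, (24, [[(2, 5, 3), (2, 0, 3), (2, 0, 3), (1, 0, 3)]])),
     (17, (24, [[(2, 5, 3), (2, 0, 3), (2, 0, 3), (1, 0, 3)]])),
     (19, (24, [[(2, 5, 3), (2, 0, 3), (2, 0, 3), (1, 0, 3)]])),
     (20, (24, [[(2, 5, 3), (2, 0, 3), (2, 0, 3), (1, 0, 3)]])),
     (21, (24, [[(2, 5, 3), (2, 0, 3), (2, 0, 3), (1, 0, 3)]])),
     (22, (24, [[(2, 5, 3), (2, 0, 3), (2, 0, 3), (1, 0, 3)]])),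
     (23, (24, [[(2, 5, 3), (2, 0, 3), (2, 0, 3), (1, 0, 3)]]))]),
  (3,
    [984818244535754528103549039458486304],
    [(0, (24, [[(1, 4, 0)]])),
     (1, (24, [[(1, 3, 0)]])),
     (2, (24, [[(1, 2, 0)]])),
     (4, (24, [[(1, 1, 0)]])),
     (5, (24, [[(2, 6, 4), (2, 0, 4), (2, 0, 4), (2, 0, 4), (1, 0, 4)]])),
     (6, (24, [[(2, 7, 6), (2, 0, 6), (2, 8, 6), (2, 0, 6), (2, 0, 6), (2, 0, 6), (2, 0, 6), (0, 11, 10), (0, 0, 10), (0, 0, 10), (0, 0, 15), (3, 12656663, 12656663), (1, 5, 0), (2, 6, 1), (1, 12, 2), (2, 13, 3), (0, 18, 17), (0, 0, 17), (0, 0, 5), (3, 2207772, 1384564), (1, 6, 0), (1, 5, 1), (0, 25, 24), (0, 0, 24), (0, 0, 24), (0, 0, 10), (3, 6832158, 4325622), (1, 5, 0), (0, 32, 15), (0, 0, 8), (0, 0, 15), (0, 0, 3), (3, 7417889, 352547), (1, 36, 0)]])),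
     (7, (24, [[(2, 6, 4), (2, 0, 4), (2, 0, 4), (2, 0, 4), (1, 0, 4)]])),
     (8, (24, [[(2, 7, 6), (2, 0, 6), (2, 8, 6), (2, 0, 6), (2, 0, 6), (2, 0, 6), (2, 0, 6), (0, 11, 10), (0, 0, 10), (0, 0, 10), (0, 0, 15), (3, 12656663, 12656663), (1, 5, 0), (2, 6, 1), (1, 12, 2), (0, 17, 16), (0, 0, 16), (0, 0, 4), (3, 2207772, 615188), (1, 5, 0), (0, 23, 22), (0, 0, 22), (0, 0, 22), (0, 0, 8), (3, 6832158, 4231958), (1, 5, 0)]])),
     (9, (24, [[(2, 7, 6), (2, 0, 6), (2, 8, 6), (2, 0, 6), (2, 0, 6), (2, 0, 6), (2, 0, 6), (0, 11, 10), (0, 0, 10), (0, 0, 10), (0, 0, 15), (3, 12656663, 12656663), (1, 5, 0), (2, 6, 1), (1, 12, 2), (0, 17, 16), (0, 0, 16), (0, 0, 4), (3, 2207772, 615188), (1, 5, 0), (0, 23, 22), (0, 0, 22), (0, 0, 22), (0, 0, 8), (3, 6832158, 4231958), (1, 5, 0)]])),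
     (10, (24, [[(2, 6, 4), (2, 0, 4), (2, 0, 4), (2, 0, 4), (1, 0, 4)]])),
     (11, (24, [[(2, 6, 4), (2, 0, 4), (2, 0, 4), (2, 0, 4), (1, 0, 4)]])),
     (12, (24, [[(2, 7, 6), (2, 0, 6), (2, 8, 6), (2, 0, 6), (2, 0, 6), (2, 0, 6), (2, 0, 6), (0, 11, 10), (0, 0, 10), (0, 0, 10), (0, 0, 15), (3, 12656663, 12656663), (1, 5, 0), (2, 6, 1), (1, 12, 2), (0, 17, 16), (0, 0, 16), (0, 0, 4), (3, 2207772, 2207772), (2, 5, 0), (0, 23, 22), (0, 0, 22), (0, 0, 22), (0, 0, 8), (3, 6832158, 4231958), (1, 5, 0)]])),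
     (13, (24, [[(0, 4, 3), (0, 0, 3), (0, 0, 3), (0, 0, 8), (3, 12656663, 12656663), (1, 5, 0)]])),
     (14, (24, [[(2, 6, 4), (2, 0, 4), (2, 0, 4), (2, 0, 4), (1, 0, 4)]])),
     (15, (24, [[(2, 6, 4), (2, 0, 4), (2, 0, 4), (2, 0, 4), (1, 0, 4)]])),
     (16, (24, [[(0, 4, 3), (0, 0, 3), (0, 0, 3), (0, 0, 8), (3, 12656663, 12656663), (1, 5, 0)]])),
     (17, (24, [[(2, 6, 4), (2, 0, 4), (2, 0, 4), (2, 0, 4), (1, 0, 4)]])),
     (18, (24, [[(2, 7, 6), (2, 0, 6), (2, 8, 6), (2, 0, 6), (2, 0, 6), (2, 0, 6), (2, 0, 6), (0, 11, 10), (0, 0, 10), (0, 0, 10), (0, 0, 15), (3, 12656663, 12656663), (1, 5, 0), (2, 6, 1), (1, 12, 2), (2, 13, 3), (0, 18, 17), (0, 0, 17), (0, 0, 5), (3, 2207772, 1384564), (1, 6, 0), (1, 5, 1), (0, 25, 24), (0, 0, 24), (0, 0, 24), (0, 0, 10), (3, 6832158, 5508118), (1, 5, 0), (0, 32, 15), (0, 0, 8), (0, 0, 15), (0, 0, 3), (3, 7417889, 1647171), (1, 36, 0)]])),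
     (19, (24, [[(2, 6, 4), (2, 0, 4), (2, 0, 4), (2, 0, 4), (1, 0, 4)]])),
     (20, (24, [[(2, 6, 4), (2, 0, 4), (2, 0, 4), (2, 0, 4), (1, 0, 4)]])),
     (21, (24, [[(2, 6, 4), (2, 0, 4), (2, 0, 4), (2, 0, 4), (1, 0, 4)]])),
     (22, (24, [[(2, 6, 4), (2, 0, 4), (2, 0, 4), (2, 0, 4), (1, 0, 4)]])),
     (23, (24, [[(2, 6, 4), (2, 0, 4), (2, 0, 4), (2, 0, 4), (1, 0, 4)]]))])]

/-- Final derivation. -/
def mElevenOutFin : List (ℕ × ℕ × ℕ) := [(2, 7, 6), (2, 0, 6), (2, 8, 6), (2, 0, 6), (2, 0, 6), (2, 0, 6), (2, 0, 6), (0, 11, 10), (0, 0, 10), (0, 0, 10), (0, 0, 15), (3, 12656663, 12656663), (1, 5, 0), (2, 6, 1), (1, 12, 2), (2, 13, 3), (0, 18, 17), (0, 0, 17), (0, 0, 5), (3, 2207772, 2207772), (1, 6, 0), (2, 7, 1), (1, 6, 2), (2, 7, 3), (0, 27, 26), (0, 0, 26), (0, 0, 26), (0, 0, 12), (3, 6832158, 6832158), (1, 6, 0), (2, 7, 1), (1, 7, 2), (2, 8, 3), (0, 37, 20), (0, 0, 13), (0, 0, 20), (0, 0, 6),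 (3, 7417889, 7417889), (1, 5, 0), (2, 6, 1), (0, 42, 19), (0, 0, 26), (0, 0, 12), (0, 0, 12), (3, 6475812, 6475812), (1, 13, 0), (2, 14, 1), (1, 8, 2), (2, 9, 3), (1, 9, 4), (2, 10, 5), (0, 55, 53), (0, 0, 57), (0, 0, 23), (0, 0, 23), (0, 0, 7), (3, 10846245, 10846245), (1, 44, 0), (2, 45, 1), (1, 37, 2), (2, 38, 3), (0, 66, 1), (0, 0, 47), (0, 0, 33), (0, 0, 33), (0, 0, 19), (0, 0, 19), (3, 15515712, 15515712), (1, 7, 0), (2, 8, 1), (0, 49, 10), (0, 0, 40), (0, 0, 26), (0, 0, 26), (0, 0, 25), (0, 0, 25), (3, 2019456, 2019456), (1, 26, 0), (2, 27, 1), (0, 66, 19), (0, 0, 50), (0, 0, 50), (0, 0, 35), (0, 0, 34), (3, 4038912, 4038912), (1, 15, 0), (2, 16, 1), (0, 92, 29), (0, 0, 67), (0, 0, 59), (0, 0, 59), (0, 0, 45), (0, 0, 43), (3, 11654144, 11654144), (1, 15, 0), (2, 16, 1)]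

theorem mElevenOut_ok : cChainOK [8388608, 340831] [] mElevenOutLevels mElevenOutFin = true := by decide +kernel

theorem mElevenOut_card : Nat.card (fixMasks [8388608, 340831]) = 7920 := by
  rw [← commFix_nil, card_commFix mElevenOut_ok]
  decide +kernel

end CfsgLib.Mathieu
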