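import Cfsg.Agent.Lib.Mathieu.OctInvol
import Mathlib.LinearAlgebra.Matrix.SpecialLinearGroup
import Mathlib.GroupTheory.PGroup

/-! The octad-involution centraliser: orders, the complement, the two-core, odd subgroups. -/

set_option autoImplicit false
set_option maxRecDepth 100000

namespace CfsgLib.Mathieu

open Cfsg CfsgLib.Golay
open scoped Pointwise

/-- The image lists. -/
def imgsOf (g : ℕ) : List ℕ := (List.range 24).map (img g)

theorem card_of_list {H : Subgroup (Equiv.Perm GolayPt)} {L : List ℕ}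
    (hm : ∀ g ∈ L, valid g = true ∧ permOf g ∈ H) (hs : ∀ σ ∈ H, ∃ g ∈ L, σ = permOf g)
    (hnd : (L.map imgsOf).Nodup) : Nat.card H = L.length := by
  classical
  have hinj : ∀ a ∈ L, ∀ b ∈ L, permOf a = permOf b → imgsOf a = imgsOf b := by
    intro a ha b hb e
    refine List.map_congr_left fun i hi => ?_
    have h := (sameW_iff (u := [a]) (v := [b]) (by simpa using (hm a ha).1)
      (by simpa using (hm b hb).1)).2 (by simpa using e)
    simp only [sameW, List.all_eq_true, Nat.beq_eq] at h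
    exact h i hi
  have hnd' : (L.map permOf).Nodup :=
    (List.Nodup.of_map _ hnd).map_on fun a ha b hb e =>
      List.inj_on_of_nodup_map hnd ha hb (hinj a ha b hb e)
  have e : (H : Set (Equiv.Perm GolayPt)) = ↑(L.map permOf).toFinset := by
    ext σ
    simp only [SetLike.mem_coe, List.coe_toFinset, List.mem_map, Set.mem_ofPred_eq]
    exact ⟨fun h => by obtain ⟨g, hg, rfl⟩ := hs σ h; exact ⟨g, hg, rfl⟩,
      by rintro ⟨g, hg, rfl⟩; exact (hm g hg).2⟩
  show Nat.card ↥(H : Set (Equiv.Perm GolayPt)) = _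
  rw [e, Nat.card_coe_set_eq, Set.ncard_coe_finset, List.toFinset_card_of_nodup hnd',
    List.length_map]

theorem oi_nodup : decide (oiQ.map imgsOf).Nodup && decide (oiK.map imgsOf).Nodup &&
    Nat.beq oiQ.length 128 && Nat.beq oiK.length 168 = true := by decide +kernel

theorem oiQ0_card : Nat.card oiQ0 = 128 := by
  have h := oi_nodup
  simp only [Bool.and_eq_true, decide_eq_true_eq, Nat.beq_eq] at h
  rw [card_of_list (L := oiQ) (fun g hg => ⟨oiQ_valid hg, oiQ_mem hg⟩) (fun _ => oiQ0_exists)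
    h.1.1.1, h.1.2]

theorem oiK0_card : Nat.card oiK0 = 168 := by
  have h := oi_nodup
  simp only [Bool.and_eq_true, decide_eq_true_eq, Nat.beq_eq] at h
  rw [card_of_list (L := oiK) (fun g hg => ⟨oiK_valid hg, oiK_mem hg⟩) (fun _ => oiK0_exists)
    h.1.1.2, h.2]

/-- Elements fixing the octad pointwise. -/
def oiE : List ℕ := oiQ.filter fun g => (List.range 24).all fun i =>
  !oiOct.testBit i || Nat.beq (img g i) i

theorem oiE_ok : Nat.beq oiE.length 16 && decide (oiE.map imgsOf).Nodup &&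
    oiE.all (fun g => sameW [g, g] [] && oiE.all (fun h => sameW [g, h] [h, g]) &&
      (sameW [g] [] || (List.range 24).all fun i => oiOct.testBit i == Nat.beq (img g i) i)) &&
    oiE.any (fun g => sameW [g] [tOct]) && oiE.any (fun g => !sameW [g] [] && !sameW [g] [tOct]) =
    true := by decide +kernel

theorem oiE_spec {g : ℕ} (hg : g ∈ oiE) :
    valid g = true ∧ permOf g ∈ oiQ0 ∧ permOf g ∈ fixMasks (bitsList oiOct) := by
  obtain ⟨hq, hf⟩ := List.mem_filter.1 hg
  have hv := oiQ_valid hq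
  refine ⟨hv, oiQ_mem hq, ?_⟩
  rw [← List.append_nil (bitsList oiOct), mem_fixMasks_bitsList, fixMasks_nil]
  refine ⟨(mem_oiC.1 (oiQ_mem hq).1).1, fun p hp => ?_⟩
  simp only [List.all_eq_true, Bool.or_eq_true, Bool.not_eq_true', Nat.beq_eq] at hf
  rcases hf (idx p) (List.mem_range.2 (idx_lt p)) with e | e
  · rw [mem_mset.1 hp] at e; exact Bool.noConfusion e
  · rw [permOf_apply hv, e, pt_idx]

/-- The pointwise stabiliser of the octad. -/
def oiE0 : Subgroup (Equiv.Perm GolayPt) := fixMasks (bitsList oiOct)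

theorem mem_oiE0 {σ : Equiv.Perm GolayPt} :
    σ ∈ oiE0 ↔ σ ∈ M24 ∧ ∀ p ∈ mset oiOct, σ p = p := by
  rw [oiE0, ← List.append_nil (bitsList oiOct), mem_fixMasks_bitsList, fixMasks_nil]

theorem oiE0_card : Nat.card oiE0 = 16 := by
  have ho : mset oiOct ∈ octads := by
    rw [← oi_fix]; exact fixS_tOct_octad
  obtain ⟨c, hc⟩ := M24_trans_octads octMask_mem ho
  have h16 := octPts_facts.1
  rw [← h16]
  have mem : ∀ {σ : Equiv.Perm GolayPt}, σ ∈ fixMasks (bitsList octMask) ↔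
      σ ∈ M24 ∧ ∀ p ∈ mset octMask, σ p = p := fun {σ} => by
    rw [← List.append_nil (bitsList octMask), mem_fixMasks_bitsList, fixMasks_nil]
  have h1 : ∀ σ ∈ fixMasks (bitsList octMask),
      (c : Equiv.Perm GolayPt) * σ * (c : Equiv.Perm GolayPt)⁻¹ ∈ oiE0 := by
    intro σ hσ
    refine mem_oiE0.2 ⟨Subgroup.mul_mem _ (Subgroup.mul_mem _ c.2 hσ.1) (Subgroup.inv_mem _ c.2),
      fun p hp => ?_⟩
    rw [← hc] at hp
    obtain ⟨q, hq, rfl⟩ := Finset.mem_smul_finset.1 hp
    show (c : Equiv.Perm GolayPt) (σ ((c : Equiv.Perm GolayPt)⁻¹ ((c : Equiv.Perm GolayPt) q))) = _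
    rw [Equiv.Perm.inv_def, Equiv.symm_apply_apply, (mem.1 hσ).2 q hq]; rfl
  have h2 : ∀ σ ∈ oiE0,
      (c : Equiv.Perm GolayPt)⁻¹ * σ * c ∈ fixMasks (bitsList octMask) := by
    intro σ hσ
    refine mem.2 ⟨Subgroup.mul_mem _ (Subgroup.mul_mem _ (Subgroup.inv_mem _ c.2)
      (mem_oiE0.1 hσ).1) c.2, fun p hp => ?_⟩
    have h' : (c : Equiv.Perm GolayPt) p ∈ mset oiOct := by
      rw [← hc]; exact Finset.smul_mem_smul_finset hp
    show (c : Equiv.Perm GolayPt)⁻¹ (σ ((c : Equiv.Perm GolayPt) p)) = p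
    rw [(mem_oiE0.1 hσ).2 _ h', Equiv.Perm.inv_def, Equiv.symm_apply_apply]
  exact Nat.card_congr
    { toFun := fun s => ⟨_, h2 s.1 s.2⟩
      invFun := fun s => ⟨_, h1 s.1 s.2⟩
      left_inv := fun s => Subtype.ext (by dsimp; group)
      right_inv := fun s => Subtype.ext (by dsimp; group) }

theorem oiE0_exists {σ : Equiv.Perm GolayPt} (h : σ ∈ oiE0) : ∃ g ∈ oiE, σ = permOf g := by
  classical
  have ho := oiE_ok
  simp only [Bool.and_eq_true, decide_eq_true_eq, Nat.beq_eq] at ho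
  let H : Finset (Equiv.Perm GolayPt) := (oiE.map permOf).toFinset
  have hsub : (H : Set (Equiv.Perm GolayPt)) ⊆ (oiE0 : Set (Equiv.Perm GolayPt)) := by
    intro τ hτ
    simp only [H, List.coe_toFinset, List.mem_map, Set.mem_ofPred_eq] at hτ
    obtain ⟨g, hg, rfl⟩ := hτ
    exact (oiE_spec hg).2.2
  have hnd : (oiE.map permOf).Nodup := by
    refine (List.Nodup.of_map _ ho.1.1.1.2).map_on fun a ha b hb e =>
      List.inj_on_of_nodup_map ho.1.1.1.2 ha hb ?_
    refine List.map_congr_left fun i hi => ?_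
    have h' := (sameW_iff (u := [a]) (v := [b]) (by simpa using (oiE_spec ha).1)
      (by simpa using (oiE_spec hb).1)).2 (by simpa using e)
    simp only [sameW, List.all_eq_true, Nat.beq_eq] at h'
    exact h' i hi
  have he : (H : Set (Equiv.Perm GolayPt)) = (oiE0 : Set (Equiv.Perm GolayPt)) := by
    refine Set.eq_of_subset_of_ncard_le hsub (le_of_eq ?_) (Set.toFinite _)
    rw [Set.ncard_coe_finset, List.toFinset_card_of_nodup hnd, List.length_map, ho.1.1.1.1,
      ← Nat.card_coe_set_eq]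
    exact oiE0_card
  have : σ ∈ (H : Set (Equiv.Perm GolayPt)) := he ▸ h
  simp only [H, List.coe_toFinset, List.mem_map, Set.mem_ofPred_eq] at this
  obtain ⟨g, hg, rfl⟩ := this
  exact ⟨g, hg, rfl⟩

theorem oiE0_props : oiE0 ≤ oiQ0 ∧ (∀ a ∈ oiE0, a * a = 1 ∧ ∀ b ∈ oiE0, a * b = b * a) ∧
    oiT ∈ oiE0 ∧ (∃ a ∈ oiE0, a ≠ 1 ∧ a ≠ oiT) ∧
    ∀ a ∈ oiE0, a ≠ 1 → fixS a = mset oiOct := by
  have ho := oiE_ok
  simp only [Bool.and_eq_true, decide_eq_true_eq, Nat.beq_eq, List.all_eq_true, List.any_eq_true,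
    Bool.or_eq_true, Bool.not_eq_true', beq_iff_eq] at ho
  obtain ⟨⟨⟨-, hall⟩, ⟨u, hu, hu'⟩⟩, ⟨w, hw, hw1, hw2⟩⟩ := ho
  refine ⟨fun a ha => ?_, fun a ha => ?_, ?_, ⟨_, (oiE_spec hw).2.2, ?_, ?_⟩, fun a ha hne => ?_⟩
  · obtain ⟨g, hg, rfl⟩ := oiE0_exists ha
    exact (oiE_spec hg).2.1
  · obtain ⟨g, hg, rfl⟩ := oiE0_exists ha
    have vg := (oiE_spec hg).1
    refine ⟨by simpa using (sameW_iff (by simp [vg]) (by simp)).1 (hall g hg).1.1, fun b hb => ?_⟩
    obtain ⟨h, hh, rfl⟩ := oiE0_exists hb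
    have vh := (oiE_spec hh).1
    simpa using (sameW_iff (by simp [vg, vh]) (by simp [vg, vh])).1 ((hall g hg).1.2 h hh)
  · have e : permOf u = oiT := by
      simpa [oiT] using (sameW_iff (by simp [(oiE_spec hu).1]) (by simp [tOct_valid])).1 hu'
    exact e ▸ (oiE_spec hu).2.2
  · intro e
    rw [(sameW_iff (by simp [(oiE_spec hw).1]) (by simp)).2 (by simpa using e)] at hw1
    exact Bool.noConfusion hw1
  · intro e
    rw [(sameW_iff (by simp [(oiE_spec hw).1]) (by simp [tOct_valid])).2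
      (by simpa [oiT] using e)] at hw2
    exact Bool.noConfusion hw2
  · obtain ⟨g, hg, rfl⟩ := oiE0_exists ha
    rcases (hall g hg).2 with e | e
    · exact absurd (by simpa using (sameW_iff (by simp [(oiE_spec hg).1]) (by simp)).1 e) hne
    · refine fixS_permOf (oiE_spec hg).1 ?_
      simp only [List.all_eq_true, beq_iff_eq]
      exact e

theorem oiK_core : oiK.all (fun k => sameW [k] [] ||
    !sameW (List.replicate 8 k) [] ||
    oiK.any fun l => oiK.any fun l' => sameW [l, l'] [] &&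
      !sameW (List.replicate 8 [k, l, k, l']).flatten []) = true := by decide +kernel

/-- A normal 2-subgroup of the centraliser above `oiQ0` is `oiQ0`. -/
theorem oi_core {N : Subgroup (Equiv.Perm GolayPt)} (hN : N ≤ oiC) (hQ : oiQ0 ≤ N)
    (hn : ∀ a ∈ N, ∀ c ∈ oiC, c * a * c⁻¹ ∈ N) (hp : IsPGroup 2 N) : N ≤ oiQ0 := by
  intro σ hσ
  obtain ⟨x, hx, k, hk, rfl⟩ := oi_decomp (hN hσ)
  have hkN : permOf k ∈ N := by
    have := Subgroup.mul_mem _ (Subgroup.inv_mem _ (hQ (oiQ_mem hx))) hσ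
    rwa [inv_mul_cancel_left] at this
  have pow8 : ∀ a, a ∈ N → a ∈ oiK0 → a ^ 8 = 1 := by
    intro a ha ha'
    obtain ⟨m, hm⟩ := hp ⟨a, ha⟩
    have h1 : orderOf a ∣ 2 ^ m :=
      orderOf_dvd_of_pow_eq_one (by simpa using congrArg Subtype.val hm)
    have h2 : orderOf a ∣ 168 := oiK0_card ▸ Subgroup.orderOf_dvd_natCard oiK0 ha'
    obtain ⟨j, -, hj⟩ := (Nat.dvd_prime_pow Nat.prime_two).1 h1
    rw [hj] at h2
    have : j ≤ 3 := by
      by_contra hc
      exact absurd (Dvd.dvd.trans (pow_dvd_pow 2 (show 4 ≤ j by omega)) h2) (by decide)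
    exact orderOf_dvd_iff_pow_eq_one.1 (hj ▸ (pow_dvd_pow 2 this))
  have h := List.all_eq_true.1 oiK_core k hk
  simp only [Bool.or_eq_true, List.any_eq_true, Bool.and_eq_true, Bool.not_eq_true'] at h
  have vk := oiK_valid hk
  rcases h with (e | e) | ⟨l, hl, l', hl', e1, e2⟩
  · rw [show permOf k = 1 by simpa using (sameW_iff (by simp [vk]) (by simp)).1 e, mul_one]
    exact oiQ_mem hx
  · exfalso
    rw [(sameW_iff (fun g hg => by rw [List.eq_of_mem_replicate hg]; exact vk) (by simp)).2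
      (by rw [List.map_replicate, List.prod_replicate, pow8 _ hkN (oiK_mem hk)]; simp)] at e
    exact Bool.noConfusion e
  · exfalso
    have vl := oiK_valid hl; have vl' := oiK_valid hl'
    have hinv : permOf l' = (permOf l)⁻¹ :=
      eq_inv_of_mul_eq_one_right
        (by simpa using (sameW_iff (by simp [vl, vl']) (by simp)).1 e1)
    have ha : permOf k * (permOf l * permOf k * (permOf l)⁻¹) ∈ N :=
      Subgroup.mul_mem _ hkN (hn _ hkN _ (oiK0_le (oiK_mem hl)))
    have ha' : permOf k * (permOf l * permOf k * (permOf l)⁻¹) ∈ oiK0 :=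
      Subgroup.mul_mem _ (oiK_mem hk) (Subgroup.mul_mem _ (Subgroup.mul_mem _ (oiK_mem hl)
        (oiK_mem hk)) (Subgroup.inv_mem _ (oiK_mem hl)))
    rw [(sameW_iff (fun g hg => by
        simp only [List.mem_flatten] at hg
        obtain ⟨w, hw, hgw⟩ := hg
        rw [List.eq_of_mem_replicate hw] at hgw
        simp only [List.mem_cons, List.not_mem_nil, or_false] at hgw
        rcases hgw with rfl | rfl | rfl | rfl
        exacts [vk, vl, vk, vl']) (by simp)).2
      (by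
        rw [List.map_flatten, List.prod_flatten, List.map_replicate, List.map_replicate,
          List.prod_replicate]
        simp only [List.map_cons, List.map_nil, List.prod_cons, List.prod_nil, mul_one, hinv]
        rw [← mul_assoc (permOf l), pow8 _ ha ha'])] at e2
    exact Bool.noConfusion e2

/-- An odd-order subgroup of `M24` normalised by `oiQ0` is trivial. -/
theorem oi_no_odd {W : Subgroup (Equiv.Perm GolayPt)} (hW : W ≤ M24) (hodd : Odd (Nat.card W))
    (hn : ∀ q ∈ oiQ0, ∀ w ∈ W, q * w * q⁻¹ ∈ W) : W = ⊥ := by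
  have h2 : ∀ w ∈ W, ∀ q ∈ oiQ0, w = q → w = 1 := by
    rintro w hw q hq rfl
    have d1 := Subgroup.orderOf_dvd_natCard W hw
    have d2 : orderOf w ∣ 2 ^ 7 := by
      have := Subgroup.orderOf_dvd_natCard oiQ0 hq
      rwa [oiQ0_card] at this
    exact orderOf_eq_one_iff.1 (Nat.eq_one_of_dvd_coprimes
      ((Nat.coprime_two_left.2 hodd).pow_left 7).symm d1 d2)
  have hfree : ∀ w ∈ W, w * oiT = oiT * w → w = 1 := by
    intro w hw hc
    have hwC : w ∈ oiC := mem_oiC.2 ⟨hW hw, hc⟩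
    have hcent : ∀ a ∈ oiQ0, w * a = a * w := by
      intro a ha
      have h1 : w * (a * w⁻¹ * a⁻¹) ∈ W :=
        Subgroup.mul_mem _ hw (hn a ha _ (Subgroup.inv_mem _ hw))
      have h3 : w * (a * w⁻¹ * a⁻¹) ∈ oiQ0 := by
        rw [show w * (a * w⁻¹ * a⁻¹) = w * a * w⁻¹ * a⁻¹ by group]
        exact Subgroup.mul_mem _ (oiQ0_normal ha hwC) (Subgroup.inv_mem _ ha)
      have := h2 _ h1 _ h3 rfl
      calc w * a = w * (a * w⁻¹ * a⁻¹) * (a * w) := by group
        _ = a * w := by rw [this, one_mul]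
    rcases central_one hwC hcent with h | h
    · exact h
    · exact h2 w hw oiT oiT_mem h
  have tt : oiT * oiT = 1 := (oiE0_props.2.1 _ oiE0_props.2.2.1).1
  have tinv : oiT⁻¹ = oiT := inv_eq_of_mul_eq_one_right tt
  -- the involution inverts `W`
  have hinv : ∀ u ∈ W, oiT * u * oiT = u⁻¹ := by
    intro u hu
    let f : W → W := fun w => ⟨(w : Equiv.Perm GolayPt)⁻¹ * (oiT * w * oiT),
      Subgroup.mul_mem _ (Subgroup.inv_mem _ w.2) (by
        have := hn oiT oiT_mem w.1 w.2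
        rwa [tinv] at this)⟩
    have hinj : Function.Injective f := by
      rintro ⟨a, ha⟩ ⟨b, hb⟩ e
      have e' : a⁻¹ * (oiT * a * oiT) = b⁻¹ * (oiT * b * oiT) := congrArg Subtype.val e
      have e2 : b * a⁻¹ * oiT = oiT * (b * a⁻¹) := by
        calc b * a⁻¹ * oiT
            = b * (a⁻¹ * (oiT * a * oiT)) * oiT⁻¹ * a⁻¹ * oiT⁻¹ * oiT := by group
          _ = b * (b⁻¹ * (oiT * b * oiT)) * oiT⁻¹ * a⁻¹ * oiT⁻¹ * oiT := by rw [e']
          _ = oiT * (b * a⁻¹) := by group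
      have := hfree _ (Subgroup.mul_mem _ hb (Subgroup.inv_mem _ ha)) e2
      exact Subtype.ext (mul_inv_eq_one.1 this).symm
    obtain ⟨w, hw⟩ := Finite.surjective_of_injective hinj ⟨u, hu⟩
    have e : u = (w : Equiv.Perm GolayPt)⁻¹ * (oiT * w * oiT) := (congrArg Subtype.val hw).symm
    rw [e]
    calc oiT * ((w : Equiv.Perm GolayPt)⁻¹ * (oiT * w * oiT)) * oiT
        = oiT * (w : Equiv.Perm GolayPt)⁻¹ * oiT * w * (oiT * oiT) := by group
      _ = oiT⁻¹ * (w : Equiv.Perm GolayPt)⁻¹ * oiT⁻¹ * w := by rw [tt, tinv, mul_one]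
      _ = _ := by group
  have habel : ∀ u ∈ W, ∀ v ∈ W, u * v = v * u := by
    intro u hu v hv
    have h1 := hinv _ (Subgroup.mul_mem _ hu hv)
    rw [show oiT * (u * v) * oiT = oiT * u * (oiT * oiT) * v * oiT by rw [tt]; group,
      show oiT * u * (oiT * oiT) * v * oiT = (oiT * u * oiT) * (oiT * v * oiT) by group,
      hinv u hu, hinv v hv, ← mul_inv_rev, inv_inj] at h1
    exact h1.symm
  obtain ⟨a, ha, ha1, hat⟩ := oiE0_props.2.2.2.1
  obtain ⟨haa, hac⟩ := oiE0_props.2.1 a ha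
  have ainv : a⁻¹ = a := inv_eq_of_mul_eq_one_right haa
  have hfixcomm : ∀ u ∈ M24, ∀ b ∈ oiE0, b ≠ 1 → u * b = b * u →
      u • mset oiOct = mset oiOct := by
    intro u _ b hb hb1 hc
    rw [← oiE0_props.2.2.2.2 b hb hb1, ← fixS_conj,
      show u * b * u⁻¹ = b by rw [hc, mul_inv_cancel_right]]
  have hstab : ∀ w ∈ W, w • mset oiOct = mset oiOct := by
    intro w hw
    have haW : a * w * a ∈ W := by
      have := hn a (oiE0_props.1 ha) w hw
      rwa [ainv] at this
    have hx : w * (a * w * a) ∈ W := Subgroup.mul_mem _ hw haW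
    have hy : w * (a * w * a)⁻¹ ∈ W := Subgroup.mul_mem _ hw (Subgroup.inv_mem _ haW)
    have e1 : w * (a * w * a) * a = a * (w * (a * w * a)) := by
      calc w * (a * w * a) * a = w * a * w * (a * a) := by group
        _ = (a * a) * (w * a * w) := by rw [haa, one_mul, mul_one]
        _ = a * ((a * w * a) * w) := by group
        _ = _ := by rw [habel _ haW _ hw]
    have e2 : w * (a * w * a)⁻¹ * (oiT * a) = oiT * a * (w * (a * w * a)⁻¹) := by
      have ea : a * (w * (a * w * a)⁻¹) * a = (w * (a * w * a)⁻¹)⁻¹ := by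
        calc a * (w * (a * w * a)⁻¹) * a = a * w * a⁻¹ * w⁻¹ * a⁻¹ * a := by group
          _ = a * w * a * w⁻¹ := by
            rw [ainv, show a * w * a * w⁻¹ * a * a = a * w * a * w⁻¹ * (a * a) by group, haa,
              mul_one]
          _ = _ := by group
      calc w * (a * w * a)⁻¹ * (oiT * a)
          = oiT * (oiT * (w * (a * w * a)⁻¹) * oiT) * a := by
            rw [show oiT * (oiT * (w * (a * w * a)⁻¹) * oiT) * a =
              (oiT * oiT) * (w * (a * w * a)⁻¹) * (oiT * a) by group, tt, one_mul]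
        _ = oiT * (w * (a * w * a)⁻¹)⁻¹ * a := by rw [hinv _ hy]
        _ = oiT * (a * (w * (a * w * a)⁻¹) * a) * a := by rw [ea]
        _ = oiT * a * (w * (a * w * a)⁻¹) * (a * a) := by group
        _ = _ := by rw [haa, mul_one]
    have s1 := hfixcomm _ (hW hx) a ha ha1 e1
    have s2 := hfixcomm _ (hW hy) (oiT * a) (Subgroup.mul_mem _ oiE0_props.2.2.1 ha)
      (fun e => hat (by rw [← tinv]; exact eq_inv_of_mul_eq_one_right e)) e2
    have hsq : (w ^ 2) • mset oiOct = mset oiOct := by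
      rw [show w ^ 2 = w * (a * w * a) * (w * (a * w * a)⁻¹) by
        rw [habel w hw _ (Subgroup.inv_mem _ haW), pow_two]; group,
        mul_smul, s2, s1]
    obtain ⟨m, hm⟩ := hodd
    have hord : w ^ (2 * m + 1) = 1 := by
      rw [← hm]; exact orderOf_dvd_iff_pow_eq_one.1 (Subgroup.orderOf_dvd_natCard W hw)
    have hw' : w = (w ^ 2) ^ (m + 1) := by
      rw [← pow_mul, show 2 * (m + 1) = 2 * m + 1 + 1 by ring, pow_succ, hord, one_mul]
    have hmem : w ^ 2 ∈ MulAction.stabilizer (Equiv.Perm GolayPt) (mset oiOct) :=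
      MulAction.mem_stabilizer_iff.2 hsq
    exact MulAction.mem_stabilizer_iff.1 (hw' ▸ Subgroup.pow_mem _ hmem (m + 1))
  refine (Subgroup.eq_bot_iff_forall _).2 fun w hw => hfree w hw ?_
  have hE : w * oiT * w⁻¹ ∈ oiE0 := by
    refine mem_oiE0.2 ⟨Subgroup.mul_mem _ (Subgroup.mul_mem _ (hW hw)
      (mem_oiC.1 oiT_mem.1).1) (Subgroup.inv_mem _ (hW hw)), fun p hp => ?_⟩
    rw [← hstab w hw] at hp
    obtain ⟨q, hq, rfl⟩ := Finset.mem_smul_finset.1 hp
    show w (oiT (w⁻¹ (w q))) = w q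
    rw [Equiv.Perm.inv_def, Equiv.symm_apply_apply,
      (mem_oiE0.1 oiE0_props.2.2.1).2 q hq]
  have h1 : w * (oiT * w⁻¹ * oiT⁻¹) ∈ W :=
    Subgroup.mul_mem _ hw (hn oiT oiT_mem _ (Subgroup.inv_mem _ hw))
  have h3 : w * (oiT * w⁻¹ * oiT⁻¹) ∈ oiQ0 := by
    rw [show w * (oiT * w⁻¹ * oiT⁻¹) = w * oiT * w⁻¹ * oiT⁻¹ by group]
    exact Subgroup.mul_mem _ (oiE0_props.1 hE) (Subgroup.inv_mem _ oiT_mem)
  calc w * oiT = w * (oiT * w⁻¹ * oiT⁻¹) * (oiT * w) := by group
    _ = oiT * w := by rw [h2 _ h1 _ h3 rfl, one_mul]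

end CfsgLib.Mathieu
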