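import Cfsg.Agent.Lib.Mathieu.EOctData
import Cfsg.Agent.Lib.Mathieu.OddData
import Cfsg.Agent.Lib.Mathieu.OctInvolMore
import Cfsg.Agent.Lib.Mathieu.FreeInvol
import Cfsg.Agent.Lib.Amalgam.PCore
import Cfsg.Agent.Lib.Golay.Mathieu
import Cfsg.Prelude.Def_Solvable

/-!
# Centralisers of involutions in `M22` and `M24` are 2-constrained

Each contains a normal 2-subgroup containing its centraliser: the pointwise stabiliser of the fixed
octad, or the stabiliser of the six tetrads of the sextet of a free involution.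
-/

set_option autoImplicit false
set_option maxRecDepth 100000

namespace CfsgLib.Mathieu

open Cfsg CfsgLib.Golay
open scoped Pointwise

theorem eOct_ok : cChainOK [] oiE eOctLevels eOctFin = true := by decide +kernel
theorem freeK_ok : cChainOK tFreeSextet [tFree] freeKLevels freeKFin = true := by decide +kernel
theorem freeKC_ok : cChainOK [] (tFree :: freeKGens) freeKCLevels freeKCFin = true := by
  decide +kernel
theorem freeKB_ok : cChainOK tFreeSextet (tFree :: freeKGens) freeKBLevels freeKBFin = true := by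
  decide +kernel
theorem freeKGens_ok : freeKGens.all (fun g => inFix tFreeSextet g && commB tFree g) = true := by
  decide +kernel

/-- An element of `M24` centralising `oiE0` lies in it. -/
theorem oiE0_self_centralizing {σ : Equiv.Perm GolayPt} (hσ : σ ∈ M24)
    (h : ∀ a ∈ oiE0, σ * a = a * σ) : σ ∈ oiE0 := by
  have hle : oiE0 ≤ commFix [] oiE := fun a ha =>
    ⟨by rw [fixMasks_nil]; exact (mem_oiE0.1 ha).1, fun t ht =>
      (oiE0_props.2.1 a ha).2 _ (oiE_spec ht).2.2⟩
  have hcard : Nat.card (commFix [] oiE) ≤ Nat.card oiE0 := by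
    rw [card_commFix eOct_ok, oiE0_card]; decide +kernel
  have heq := Subgroup.eq_of_le_of_card_ge hle hcard
  rw [heq]
  exact ⟨by rw [fixMasks_nil]; exact hσ, fun t ht => h _ (oiE_spec ht).2.2⟩

/-- The tetrad-wise stabiliser inside the centraliser of `tFree` contains its centraliser there. -/
theorem freeK_self_centralizing {σ : Equiv.Perm GolayPt} (hσ : σ ∈ commFix [] [tFree])
    (h : ∀ a ∈ commFix tFreeSextet [tFree], σ * a = a * σ) :
    σ ∈ commFix tFreeSextet [tFree] := by
  have hle : commFix tFreeSextet (tFree :: freeKGens) ≤ commFix [] (tFree :: freeKGens) :=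
    fun a ha => ⟨by rw [fixMasks_nil]; exact ha.1.1, ha.2⟩
  have hcard : Nat.card (commFix [] (tFree :: freeKGens)) ≤
      Nat.card (commFix tFreeSextet (tFree :: freeKGens)) := by
    rw [card_commFix freeKC_ok, card_commFix freeKB_ok]; decide +kernel
  have heq := Subgroup.eq_of_le_of_card_ge hle hcard
  have hgens := freeKGens_ok
  simp only [List.all_eq_true, Bool.and_eq_true] at hgens
  have hmem : σ ∈ commFix tFreeSextet (tFree :: freeKGens) := by
    rw [heq]
    refine ⟨hσ.1, fun t ht => ?_⟩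
    rcases List.mem_cons.1 ht with rfl | ht
    · exact hσ.2 _ List.mem_cons_self
    · refine h _ ⟨inFix_mem (hgens t ht).1, fun u hu => ?_⟩
      rw [List.mem_singleton.1 hu]
      exact commB_sound (hgens t ht).2
  exact ⟨hmem.1, fun u hu => hmem.2 u (by rw [List.mem_singleton.1 hu]; exact List.mem_cons_self)⟩

/-- A normal 2-subgroup containing its centraliser makes the group 2-constrained. -/
theorem constrained_of_normal {G : Type*} [Group G] {C N : Subgroup G} (hN : IsPGroup 2 N)
    (hn : ∀ c ∈ C, ∀ a ∈ N, c * a * c⁻¹ ∈ N) (hle : N ≤ C)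
    (hc : ∀ c ∈ C, (∀ a ∈ N, c * a = a * c) → c ∈ N) :
    Subgroup.centralizer (pCore 2 C : Set C) ≤ pCore 2 C := by
  have hle' : N.subgroupOf C ≤ pCore 2 C := by
    refine CfsgLib.Amalgam.le_pCore ?_ (hN.comap_of_injective C.subtype C.subtype_injective)
    exact ⟨fun a ha b => by
      show (b : G) * a * (b : G)⁻¹ ∈ N
      exact hn b b.2 a ha⟩
  intro x hx
  refine hle' (hc x x.2 fun a ha => ?_)
  have := Subgroup.mem_centralizer_iff.1 hx ⟨a, hle ha⟩ (hle' ha)
  exact (congrArg Subtype.val this).symm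

theorem centralizer_constrained (H : Subgroup (Equiv.Perm GolayPt)) (hH : H ≤ M24)
    (hfix : ∀ z ∈ H, orderOf z = 2 → ∀ σ ∈ M24, (∀ p, z p = p → σ p = p) → σ ∈ H)
    (hfree : ∀ z ∈ H, orderOf z = 2 → (∀ p, z p ≠ p) → M24 ≤ H)
    (z : H) (hz : orderOf z = 2) :
    Subgroup.centralizer (pCore 2 (Subgroup.centralizer ({z} : Set H)) :
      Set (Subgroup.centralizer ({z} : Set H))) ≤ pCore 2 (Subgroup.centralizer ({z} : Set H)) := by
  have hz' : orderOf (z : Equiv.Perm GolayPt) = 2 := by rw [Subgroup.orderOf_coe]; exact hz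
  have hC : ∀ x : H, x ∈ Subgroup.centralizer ({z} : Set H) ↔
      (x : Equiv.Perm GolayPt) * z = z * x := fun x => by
    rw [Subgroup.mem_centralizer_singleton_iff]
    exact ⟨fun h => congrArg Subtype.val h, fun h => Subtype.ext h⟩
  rcases invol_cases (hH z.2) hz' with ⟨c, hc, hzc, -⟩ | ⟨c, hc, hzc, hf⟩
  · -- the octad of fixed points
    have hfc : fixS (z : Equiv.Perm GolayPt) = c • mset oiOct := by
      rw [hzc, fixS_conj, ← oi_fix, oiT]
    let N : Subgroup (Equiv.Perm GolayPt) := oiE0.map (MulAut.conj c).toMonoidHom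
    have hNmem : ∀ σ, σ ∈ N ↔ σ ∈ M24 ∧ ∀ p, (z : Equiv.Perm GolayPt) p = p → σ p = p := by
      intro σ
      have key : c⁻¹ * σ * c ∈ oiE0 ↔
          σ ∈ M24 ∧ ∀ p, (z : Equiv.Perm GolayPt) p = p → σ p = p := by
        rw [mem_oiE0]
        refine and_congr ⟨fun h => ?_, fun h =>
          Subgroup.mul_mem _ (Subgroup.mul_mem _ (Subgroup.inv_mem _ hc) h) hc⟩ ?_
        · have h' := Subgroup.mul_mem _ (Subgroup.mul_mem _ hc h) (Subgroup.inv_mem _ hc)
          rwa [show c * (c⁻¹ * σ * c) * c⁻¹ = σ by group] at h'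
        · have hiff : ∀ p, (z : Equiv.Perm GolayPt) p = p ↔ c⁻¹ • p ∈ mset oiOct := fun p => by
            rw [Finset.inv_smul_mem_iff, ← hfc]
            simp [fixS]
          constructor
          · intro h p hp
            have h' := h _ ((hiff p).1 hp)
            have := congrArg (fun q => c q) h'
            simpa [Equiv.Perm.smul_def, Equiv.Perm.mul_apply] using this
          · intro h p hp
            have h' := h (c p) ((hiff _).2 (by simpa [Equiv.Perm.smul_def] using hp))
            simp [Equiv.Perm.mul_apply, h']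
      rw [← key, Subgroup.mem_map]
      constructor
      · rintro ⟨a, ha, rfl⟩
        simpa [MulAut.conj_apply, mul_assoc] using ha
      · intro h
        exact ⟨_, h, by simp [MulAut.conj_apply, mul_assoc]⟩
    have hNH : N ≤ H := fun σ hσ => hfix z z.2 hz' σ ((hNmem σ).1 hσ).1 ((hNmem σ).1 hσ).2
    have hN2 : IsPGroup 2 N := (IsPGroup.of_card (n := 4) oiE0_card).map _
    refine constrained_of_normal (N := N.subgroupOf H)
      (hN2.comap_of_injective H.subtype H.subtype_injective) ?_ ?_ ?_
    · intro x hx a ha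
      refine (hNmem _).2 ⟨hH (x * a * x⁻¹).2, fun p hp => ?_⟩
      have hq : (z : Equiv.Perm GolayPt) ((x : Equiv.Perm GolayPt)⁻¹ p) =
          (x : Equiv.Perm GolayPt)⁻¹ p := by
        have e := congrArg (fun g : Equiv.Perm GolayPt => g ((x : Equiv.Perm GolayPt)⁻¹ p))
          ((hC x).1 hx)
        simp only [Equiv.Perm.mul_apply, Equiv.Perm.inv_def, Equiv.apply_symm_apply, hp] at e
        rw [Equiv.Perm.inv_def, Equiv.eq_symm_apply]
        exact e
      have := ((hNmem a).1 ha).2 _ hq
      show (x : Equiv.Perm GolayPt) ((a : Equiv.Perm GolayPt) ((x : Equiv.Perm GolayPt)⁻¹ p)) = p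
      rw [this, Equiv.Perm.inv_def, Equiv.apply_symm_apply]
    · intro a ha
      rw [hC]
      have hzN : (z : Equiv.Perm GolayPt) ∈ N := (hNmem _).2 ⟨hH z.2, fun p hp => hp⟩
      have haN : (a : Equiv.Perm GolayPt) ∈ N := ha
      obtain ⟨a', ha', ea⟩ := Subgroup.mem_map.1 haN
      obtain ⟨z', hz'', ez⟩ := Subgroup.mem_map.1 hzN
      rw [← ea, ← ez, ← map_mul, ← map_mul, (oiE0_props.2.1 a' ha').2 z' hz'']
    · intro x hx hcomm
      have hm := oiE0_self_centralizing (σ := c⁻¹ * x * c)
        (Subgroup.mul_mem _ (Subgroup.mul_mem _ (Subgroup.inv_mem _ hc) (hH x.2)) hc) fun a ha => by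
          have haN : c * a * c⁻¹ ∈ N := ⟨a, ha, rfl⟩
          have := congrArg Subtype.val (hcomm ⟨_, hNH haN⟩ haN)
          simp only [Subgroup.coe_mul] at this
          calc c⁻¹ * x * c * a = c⁻¹ * (x * (c * a * c⁻¹)) * c := by group
            _ = a * (c⁻¹ * x * c) := by rw [this]; group
      exact ⟨_, hm, by simp [MulAut.conj_apply, mul_assoc]⟩
  · -- the sextet of a free involution
    have hM : M24 ≤ H := hfree z z.2 hz' fun p hp => by
      have : p ∈ fixS (z : Equiv.Perm GolayPt) := by simp [fixS, hp]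
      rw [hf] at this
      simp at this
    let N : Subgroup (Equiv.Perm GolayPt) :=
      (commFix tFreeSextet [tFree]).map (MulAut.conj c).toMonoidHom
    have hK : ∀ a, a ∈ commFix tFreeSextet [tFree] → a ∈ M24 := fun a ha => fixMasks_le _ ha.1
    have hN2 : IsPGroup 2 N := (IsPGroup.of_card (n := 6) (by
      rw [card_commFix freeK_ok]; decide +kernel)).map _
    have hcc : ∀ x : H, x ∈ Subgroup.centralizer ({z} : Set H) →
        c⁻¹ * x * c ∈ commFix [] [tFree] := fun x hx => by
      refine mem_commFix_one.2 ⟨Subgroup.mul_mem _ (Subgroup.mul_mem _ (Subgroup.inv_mem _ hc)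
        (hH x.2)) hc, ?_⟩
      have := (hC x).1 hx
      rw [hzc] at this
      calc c⁻¹ * x * c * permOf tFree = c⁻¹ * (x * (c * permOf tFree * c⁻¹)) * c := by group
        _ = _ := by rw [this]; group
    refine constrained_of_normal (N := N.subgroupOf H)
      (hN2.comap_of_injective H.subtype H.subtype_injective) ?_ ?_ ?_
    · intro x hx a ha
      have haN : (a : Equiv.Perm GolayPt) ∈ N := ha
      obtain ⟨b, hb, eb⟩ := Subgroup.mem_map.1 haN
      set y := c⁻¹ * (x : Equiv.Perm GolayPt) * c with hy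
      have hyC := hcc x hx
      have hkeep := keep_tFreeSextet (σ := y) (by rw [tFreePows_eq]; exact hyC)
      have hy' := Subgroup.inv_mem _ hyC
      refine ⟨y * b * y⁻¹, ⟨mem_fixMasks.2 ⟨Subgroup.mul_mem _ (Subgroup.mul_mem _
        (mem_commFix_one.1 hyC).1 (hK b hb)) (Subgroup.inv_mem _ (mem_commFix_one.1 hyC).1),
        fun A hA => ?_⟩, fun t ht => ?_⟩, ?_⟩
      · have hA' : mset A ∈ sextSet tFreeSextet := by
          rw [sextSet, List.mem_toFinset]; exact List.mem_map.2 ⟨A, hA, rfl⟩
        rw [← hkeep, ← Finset.inv_smul_mem_iff, sextSet, List.mem_toFinset] at hA'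
        obtain ⟨B, hB, eB⟩ := List.mem_map.1 hA'
        rw [mul_smul, mul_smul, ← eB, (mem_fixMasks.1 hb.1).2 B hB, eB, smul_inv_smul]
      · exact (Subgroup.mul_mem (commFix [] [tFree]) (Subgroup.mul_mem _ hyC
          ⟨by rw [fixMasks_nil]; exact hK b hb, hb.2⟩) hy').2 t ht
      · show _ = ((x : Equiv.Perm GolayPt) * a * (x : Equiv.Perm GolayPt)⁻¹)
        rw [← eb, hy]
        simp [MulAut.conj_apply, mul_assoc]
    · intro a ha
      have haN : (a : Equiv.Perm GolayPt) ∈ N := ha
      obtain ⟨b, hb, eb⟩ := Subgroup.mem_map.1 haN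
      rw [hC, ← eb, hzc]
      have := hb.2 tFree List.mem_cons_self
      simp only [MulEquiv.coe_toMonoidHom, MulAut.conj_apply]
      calc c * b * c⁻¹ * (c * permOf tFree * c⁻¹) = c * (b * permOf tFree) * c⁻¹ := by group
        _ = _ := by rw [this]; group
    · intro x hx hcomm
      have hm := freeK_self_centralizing (hcc x hx) fun a ha => by
        have haN : c * a * c⁻¹ ∈ N := ⟨a, ha, rfl⟩
        have haH : c * a * c⁻¹ ∈ H := hM
          (Subgroup.mul_mem _ (Subgroup.mul_mem _ hc (hK a ha)) (Subgroup.inv_mem _ hc))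
        have := congrArg Subtype.val (hcomm ⟨_, haH⟩ haN)
        simp only [Subgroup.coe_mul] at this
        calc c⁻¹ * x * c * a = c⁻¹ * (x * (c * a * c⁻¹)) * c := by group
          _ = a * (c⁻¹ * x * c) := by rw [this]; group
      exact ⟨_, hm, by simp [MulAut.conj_apply, mul_assoc]⟩

theorem m24_centralizer_constrained (z : M24) (hz : orderOf z = 2) :
    Subgroup.centralizer (pCore 2 (Subgroup.centralizer ({z} : Set M24)) :
      Set (Subgroup.centralizer ({z} : Set M24))) ≤
      pCore 2 (Subgroup.centralizer ({z} : Set M24)) :=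
  centralizer_constrained M24 le_rfl (fun _ _ _ _ h _ => h) (fun _ _ _ _ => le_rfl) z hz

theorem m22_centralizer_constrained (z : Spor.M22) (hz : orderOf z = 2) :
    Subgroup.centralizer (pCore 2 (Subgroup.centralizer ({z} : Set Spor.M22)) :
      Set (Subgroup.centralizer ({z} : Set Spor.M22))) ≤
      pCore 2 (Subgroup.centralizer ({z} : Set Spor.M22)) := by
  have hle : Spor.M22 ≤ M24 := sporM22_eq ▸ fixMasks_le X22
  refine centralizer_constrained Spor.M22 hle (fun w hw _ σ hσ h => ?_)
    (fun w hw _ h => absurd (MulAction.mem_stabilizer_iff.1 hw.2) (h (some 0))) z hz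
  exact ⟨⟨hσ, MulAction.mem_stabilizer_iff.2 (h none (MulAction.mem_stabilizer_iff.1 hw.1.2))⟩,
    MulAction.mem_stabilizer_iff.2 (h (some 0) (MulAction.mem_stabilizer_iff.1 hw.2))⟩

end CfsgLib.Mathieu
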