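import Cfsg.Agent.Lib.Mathieu.Module
import Cfsg.Agent.Lib.Mathieu.ModOneData

/-! A linear map with the orbits of `M24` on the code modulo the all-ones word agrees with an
element of `M24`. -/

set_option autoImplicit false
set_option maxRecDepth 100000

namespace CfsgLib.Mathieu

open Cfsg CfsgLib.Golay
open scoped Pointwise

/-- Weight up to complement. -/
def wcls (w : Wd) : ℕ := min (support₂ w).card (24 - (support₂ w).card)

/-- `wcls` on masks. -/
def mcls (m : ℕ) : ℕ := bif Nat.ble (pop m) 12 then pop m else 24 - pop m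

theorem wcls_mword (m : ℕ) : wcls (mword m) = mcls m := by
  rw [wcls, support_mword, card_mset, mcls]
  rcases h : Nat.ble (pop m) 12 with _ | _
  · have : ¬ pop m ≤ 12 := fun hh => by
      rw [← Nat.ble_eq] at hh; rw [hh] at h; exact Bool.noConfusion h
    simp only [cond_false]; omega
  · have := Nat.le_of_ble_eq_true h
    simp only [cond_true]; omega

theorem wcls_act (σ : Equiv.Perm GolayPt) (w : Wd) : wcls (act σ w) = wcls w := by
  rw [wcls, support_act, Finset.card_smul_finset, wcls]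

theorem support_add_one (w : Wd) : support₂ (w + 1) = (support₂ w)ᶜ := by
  ext p
  simp only [support₂, Finset.mem_compl, Finset.mem_filter, Finset.mem_univ, true_and,
    Pi.add_apply, Pi.one_apply]
  generalize w p = a; revert a; decide

theorem wcls_add_one (w : Wd) : wcls (w + 1) = wcls w := by
  have : (support₂ w).card ≤ 24 := le_trans (Finset.card_le_univ _) (by simp)
  have h24 : Fintype.card GolayPt = 24 := by decide +kernel
  rw [wcls, support_add_one, Finset.card_compl, h24, wcls]; omega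

/-- Equal up to the all-ones word. -/
def Eq1 (v w : Wd) : Prop := v = w ∨ v = w + 1

theorem one_add_one_word : (1 : Wd) + 1 = 0 := by
  funext p; exact (by decide : (1 : ZMod 2) + 1 = 0)

theorem Eq1.symm {v w : Wd} (h : Eq1 v w) : Eq1 w v := by
  rcases h with rfl | rfl
  · exact Or.inl rfl
  · exact Or.inr (by rw [add_assoc, one_add_one_word, add_zero])

theorem Eq1.trans {u v w : Wd} (h : Eq1 u v) (h' : Eq1 v w) : Eq1 u w := by
  rcases h with rfl | rfl
  · exact h'
  · rcases h' with rfl | rfl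
    · exact Or.inr rfl
    · exact Or.inl (by rw [add_assoc, one_add_one_word, add_zero])

theorem Eq1.add {u v u' v' : Wd} (h : Eq1 u v) (h' : Eq1 u' v') : Eq1 (u + u') (v + v') := by
  rcases h with rfl | rfl <;> rcases h' with rfl | rfl
  · exact Or.inl rfl
  · exact Or.inr (by abel)
  · exact Or.inr (by abel)
  · exact Or.inl (by rw [show v + 1 + (v' + 1) = v + v' + (1 + 1) by abel, one_add_one_word,
      add_zero])

theorem Eq1.act {v w : Wd} (h : Eq1 v w) (σ : Equiv.Perm GolayPt) :
    Eq1 (CfsgLib.Mathieu.act σ v) (CfsgLib.Mathieu.act σ w) := by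
  rcases h with rfl | rfl
  exacts [Or.inl rfl, Or.inr rfl]

theorem Eq1.wcls_eq {v w : Wd} (h : Eq1 v w) : wcls v = wcls w := by
  rcases h with rfl | rfl
  exacts [rfl, wcls_add_one w]

/-- The maps under consideration. -/
structure GoodMap (T : golayCode → Wd) : Prop where
  add : ∀ c d, T (c + d) = T c + T d
  one : ∀ c : golayCode, (c : Wd) = 1 → T c = 1
  orb : ∀ c, ∃ σ ∈ M24, Eq1 (T c) (act σ (c : Wd))

theorem GoodMap.comp {T : golayCode → Wd} (hT : GoodMap T) {σ : Equiv.Perm GolayPt}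
    (hσ : σ ∈ M24) : GoodMap fun c => CfsgLib.Mathieu.act σ (T c) where
  add c d := by rw [hT.add]; rfl
  one c h := by rw [hT.one c h]; rfl
  orb c := by
    obtain ⟨τ, hτ, h⟩ := hT.orb c
    exact ⟨σ * τ, Subgroup.mul_mem _ hσ hτ, h.act σ⟩

/-- `T` fixes the class of the mask `a`. -/
def FixM (T : golayCode → Wd) (a : ℕ) : Prop :=
  isCode a = true ∧ ∀ h : mword a ∈ golayCode, Eq1 (T ⟨mword a, h⟩) (mword a)

/-- XOR of the members of `B` selected by the bits of `k`. -/
def combM : List ℕ → ℕ → ℕ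
  | [], _ => 0
  | a :: B, k => Nat.xor (bif Nat.beq (Nat.mod k 2) 1 then a else 0) (combM B (Nat.div k 2))

theorem mword_mem {m : ℕ} (h : isCode m = true) : mword m ∈ golayCode := by
  obtain ⟨v, hv, e⟩ := mem_supports_iff.2 ⟨m, h, rfl⟩
  rw [← support_mword] at e
  rwa [← support₂_injective e]

theorem FixM.zero {T : golayCode → Wd} (hT : GoodMap T) : FixM T 0 := by
  refine ⟨isCode_zero, fun h => Or.inl ?_⟩
  have e : (⟨mword 0, h⟩ : golayCode) = 0 := Subtype.ext mword_zero
  rw [e, mword_zero]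
  have := hT.add 0 0
  rw [add_zero] at this
  exact left_eq_add.1 this

theorem FixM.xor {T : golayCode → Wd} (hT : GoodMap T) {a b : ℕ} (ha : FixM T a) (hb : FixM T b) :
    FixM T (a ^^^ b) := by
  refine ⟨isCode_xor ha.1 hb.1, fun h => ?_⟩
  rw [show (⟨mword (a ^^^ b), h⟩ : golayCode) = ⟨mword a, mword_mem ha.1⟩ + ⟨mword b, mword_mem hb.1⟩
    from Subtype.ext (mword_xor a b), hT.add, mword_xor]
  exact (ha.2 _).add (hb.2 _)

theorem fixM_comb {T : golayCode → Wd} (hT : GoodMap T) : ∀ {B : List ℕ}, (∀ a ∈ B, FixM T a) →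
    ∀ k, FixM T (combM B k)
  | [], _, k => FixM.zero hT
  | a :: B, hB, k => by
    rw [combM]
    refine FixM.xor hT ?_ (fixM_comb hT (fun x hx => hB x (List.mem_cons_of_mem _ hx)) _)
    cases Nat.beq (Nat.mod k 2) 1
    exacts [FixM.zero hT, hB a List.mem_cons_self]

/-- Apply a coded word to a mask. -/
def wordM (G : List ℕ) : ℕ → ℕ → ℕ → ℕ
  | 0, _, m => m
  | f + 1, c, m => bif Nat.beq c 0 then m else
      wordM G f (Nat.div c 32) ((G[Nat.mod c 32 - 1]?).elim m fun g => mimg g m)

/-- Elements of `M24` keeping the classes of the members of `B`. -/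
def genKeepM (B : List ℕ) (g : ℕ) : Bool :=
  inM24 g && B.all fun a => Nat.beq (mimg g a) a || Nat.beq (mimg g a) (Nat.xor 16777215 a)

theorem eq1_of_check {x a : ℕ} (h : x = a ∨ x = Nat.xor 16777215 a) : Eq1 (mword x) (mword a) := by
  rcases h with rfl | rfl
  · exact Or.inl rfl
  · exact Or.inr (by
      rw [show Nat.xor 16777215 a = 16777215 ^^^ a from rfl, mword_xor, mword_full, add_comm])

theorem wordM_spec {B G : List ℕ} (hG : ∀ g ∈ G, genKeepM B g = true) : ∀ (f c m : ℕ),
    ∃ σ ∈ M24, (∀ a ∈ B, Eq1 (act σ (mword a)) (mword a)) ∧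
      act σ (mword m) = mword (wordM G f c m)
  | 0, _, m => ⟨1, Subgroup.one_mem _, fun _ _ => Or.inl rfl, rfl⟩
  | f + 1, c, m => by
    rw [wordM]
    cases Nat.beq c 0
    · simp only [cond_false]
      obtain ⟨σ, hσ, hB, e⟩ := wordM_spec hG f (Nat.div c 32)
        ((G[Nat.mod c 32 - 1]?).elim m fun g => mimg g m)
      rcases hi : G[Nat.mod c 32 - 1]? with _ | g
      · rw [hi] at e; exact ⟨σ, hσ, hB, e⟩
      · rw [hi] at e
        simp only [Option.elim_some] at e ⊢
        have h := hG g (List.mem_of_getElem? hi)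
        simp only [genKeepM, Bool.and_eq_true, List.all_eq_true, Bool.or_eq_true, Nat.beq_eq] at h
        have hv := inM24_valid h.1
        refine ⟨σ * permOf g, Subgroup.mul_mem _ hσ (inM24_mem h.1), fun a ha => ?_, ?_⟩
        · rw [act_mul, act_mword hv]
          exact ((eq1_of_check (h.2 a ha)).act σ).trans (hB a ha)
        · rw [act_mul, act_mword hv]; exact e
    · exact ⟨1, Subgroup.one_mem _, fun _ _ => Or.inl rfl, rfl⟩

/-- A level: the next mask, elements keeping the earlier classes, separating combinations, and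
the orbit of the next mask with words. -/
abbrev MLevel : Type := ℕ × List ℕ × List ℕ × List (ℕ × ℕ)

/-- Correctness of a level. -/
def mLevelOK (B : List ℕ) (lv : MLevel) : Bool :=
  isCode lv.1 && lv.2.1.all (genKeepM B) &&
  (lv.2.2.2.all fun p =>
    Nat.beq (wordM lv.2.1 12 p.2 lv.1) p.1 ||
      Nat.beq (wordM lv.2.1 12 p.2 lv.1) (Nat.xor 16777215 p.1)) &&
  allB 12 (fun k =>
    lv.2.2.1.any (fun w => !Nat.beq (mcls (Nat.xor (enc k) (combM B w)))
      (mcls (Nat.xor lv.1 (combM B w)))) ||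
    lv.2.2.2.any fun p => Nat.beq (enc k) p.1 || Nat.beq (enc k) (Nat.xor 16777215 p.1)) 0

/-- Correctness of all levels: in the end the classes span the code. -/
def mChainOK : List ℕ → List MLevel → Bool
  | B, [] => Nat.beq modCoef.length gens.length &&
      (gens.zip modCoef).all fun p => Nat.beq (combM (16777215 :: B) p.2) p.1
  | B, lv :: L => mLevelOK B lv && mChainOK (lv.1 :: B) L

theorem mLevel_move {B : List ℕ} {lv : MLevel} (h : mLevelOK B lv = true) {T : golayCode → Wd}
    (hT : GoodMap T) (hB : ∀ a ∈ B, FixM T a) :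
    ∃ σ ∈ M24, ∀ a ∈ lv.1 :: B, FixM (fun c => act σ⁻¹ (T c)) a := by
  simp only [mLevelOK, Bool.and_eq_true, List.all_eq_true, Bool.or_eq_true, Nat.beq_eq] at h
  obtain ⟨⟨⟨hb, hG⟩, hcert⟩, hcov⟩ := h
  set v := T ⟨mword lv.1, mword_mem hb⟩ with hv
  obtain ⟨τ, hτ, hτv⟩ := hT.orb ⟨mword lv.1, mword_mem hb⟩
  have hvC : v ∈ golayCode := by
    rcases hτv with e | e <;> rw [hv, e]
    · exact act_mem_code hτ (mword_mem hb)
    · exact Submodule.add_mem _ (act_mem_code hτ (mword_mem hb)) one_mem_code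
  obtain ⟨m, hm, e⟩ := eq_zero_or_mword v
  have hmC : isCode m = true := by
    rw [← mset_mem_supports_iff hm, ← support_mword, ← e]
    exact ⟨v, hvC, rfl⟩
  have hsig : ∀ w ∈ lv.2.2.1, mcls (Nat.xor m (combM B w)) = mcls (Nat.xor lv.1 (combM B w)) := by
    intro w _
    obtain ⟨hf, hfT⟩ := fixM_comb hT hB w
    obtain ⟨ρ, -, hρ⟩ := hT.orb (⟨mword lv.1, mword_mem hb⟩ + ⟨mword (combM B w), mword_mem hf⟩)
    rw [hT.add, ← hv] at hρ
    show mcls (m ^^^ combM B w) = mcls (lv.1 ^^^ combM B w)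
    rw [← wcls_mword, ← wcls_mword, mword_xor, mword_xor, ← e]
    have h2 : Eq1 (v + T ⟨mword (combM B w), mword_mem hf⟩) (v + mword (combM B w)) :=
      Eq1.add (Or.inl rfl) (hfT _)
    rw [← h2.wcls_eq, hρ.wcls_eq, wcls_act]
    rfl
  have := allB_range hcov (k := m % 4096) (Nat.mod_lt _ (by norm_num))
  rw [isCode_iff.1 hmC] at this
  simp only [Bool.or_eq_true, List.any_eq_true, Bool.not_eq_true', Nat.beq_eq] at this
  rcases this with ⟨w, hw, hne⟩ | ⟨p, hp, hmp⟩
  · rw [hsig w hw, Nat.beq_refl] at hne; exact absurd hne (by simp)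
  obtain ⟨σ, hσ, hσB, eσ⟩ := wordM_spec hG 12 p.2 lv.1
  have hσv : Eq1 (act σ (mword lv.1)) v := by
    rw [eσ, e]
    exact (eq1_of_check (hcert p hp)).trans (eq1_of_check hmp).symm
  refine ⟨σ, hσ, fun a ha => ?_⟩
  have hinv : ∀ {x y : Wd}, Eq1 (act σ x) y → Eq1 (act σ⁻¹ y) x := fun {x y} hxy => by
    have := (hxy.act σ⁻¹).symm
    rwa [← act_mul, inv_mul_cancel, act_one] at this
  rcases List.mem_cons.1 ha with rfl | ha
  · exact ⟨hb, fun h' => hinv hσv⟩
  · exact ⟨(hB a ha).1, fun h' =>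
      (((hB a ha).2 h').act σ⁻¹).trans (hinv (hσB a ha))⟩

theorem mChain_sound : ∀ {L : List MLevel} {B : List ℕ}, mChainOK B L = true →
    ∀ {T : golayCode → Wd}, GoodMap T → (∀ a ∈ B, FixM T a) →
    ∃ σ ∈ M24, ∀ c : golayCode, Eq1 (T c) (act σ (c : Wd))
  | [], B, h, T, hT, hB => by
    simp only [mChainOK, Bool.and_eq_true, List.all_eq_true, Nat.beq_eq] at h
    obtain ⟨hlen, hg⟩ := h
    have hB' : ∀ a ∈ 16777215 :: B, FixM T a := by
      intro a ha
      rcases List.mem_cons.1 ha with rfl | ha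
      · exact ⟨isCode_full, fun h' => Or.inl (by rw [hT.one _ mword_full, mword_full])⟩
      · exact hB a ha
    let P : Submodule (ZMod 2) Wd :=
      { carrier := {w | ∃ h : w ∈ golayCode, Eq1 (T ⟨w, h⟩) w}
        zero_mem' := ⟨Submodule.zero_mem _, by
          have := (FixM.zero hT).2 (mword_mem isCode_zero)
          simp only [mword_zero] at this
          exact this⟩
        add_mem' := by
          rintro a b ⟨ha, ea⟩ ⟨hb, eb⟩
          refine ⟨Submodule.add_mem _ ha hb, ?_⟩
          show Eq1 (T (⟨a, ha⟩ + ⟨b, hb⟩)) (a + b)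
          rw [hT.add]; exact ea.add eb
        smul_mem' := by
          rintro r a ⟨ha, ea⟩
          rcases zmod2 r with rfl | rfl
          · simp only [zero_smul]
            exact ⟨Submodule.zero_mem _, by
              have := (FixM.zero hT).2 (mword_mem isCode_zero)
              simp only [mword_zero] at this
              exact this⟩
          · simp only [one_smul]; exact ⟨ha, ea⟩ }
    have hP : ∀ x ∈ gens, mword x ∈ P := by
      intro x hx
      obtain ⟨i, hi, rfl⟩ := List.getElem_of_mem hx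
      have hi' : i < modCoef.length := hlen ▸ hi
      have := hg (gens[i]'hi, modCoef[i]'hi')
        (List.mem_iff_getElem.2 ⟨i, by simp; exact ⟨hi, hi'⟩, by rw [List.getElem_zip]⟩)
      obtain ⟨h1, h2⟩ := fixM_comb hT hB' (modCoef[i]'hi')
      dsimp only at this
      rw [this] at h1 h2
      exact ⟨mword_mem h1, h2 _⟩
    refine ⟨1, Subgroup.one_mem _, fun c => ?_⟩
    obtain ⟨m, hm, e⟩ := eq_zero_or_mword (c : Wd)
    have hmC : isCode m = true := by
      rw [← mset_mem_supports_iff hm, ← support_mword, ← e]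
      exact ⟨_, c.2, rfl⟩
    obtain ⟨h', he⟩ := mword_enc_mem_submodule P hP (m % 4096)
    rw [act_one]
    have e2 : mword (enc (m % 4096)) = (c : Wd) :=
      (congrArg mword (isCode_iff.1 hmC)).trans e.symm
    have ec : (⟨mword (enc (m % 4096)), h'⟩ : golayCode) = c := Subtype.ext e2
    rw [ec, e2] at he
    exact he
  | lv :: L, B, h, T, hT, hB => by
    simp only [mChainOK, Bool.and_eq_true] at h
    obtain ⟨σ, hσ, hfix⟩ := mLevel_move h.1 hT hB
    obtain ⟨τ, hτ, hc⟩ := mChain_sound h.2 (hT.comp (Subgroup.inv_mem _ hσ)) hfix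
    refine ⟨σ * τ, Subgroup.mul_mem _ hσ hτ, fun c => ?_⟩
    have := (hc c).act σ
    rwa [act_inv_self, ← act_mul] at this

theorem modLevels_ok : mChainOK [] modLevels = true := by decide +kernel

theorem goodMap_agrees {T : golayCode → Wd} (hT : GoodMap T) :
    ∃ σ ∈ M24, ∀ c : golayCode, Eq1 (T c) (act σ (c : Wd)) :=
  mChain_sound modLevels_ok hT fun _ ha => absurd ha List.not_mem_nil

end CfsgLib.Mathieu
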