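import Cfsg.Agent.Lib.Mathieu.SpanData
import Cfsg.Agent.Lib.Golay.ChainOctPts
import Cfsg.Agent.Lib.Golay.Count

/-! Invariant subspaces of the binary permutation module of `M24`. -/

set_option autoImplicit false
set_option maxRecDepth 100000

namespace CfsgLib.Mathieu

open Cfsg CfsgLib.Golay
open scoped Pointwise

/-- The words. -/
abbrev Wd : Type := GolayPt → ZMod 2

/-- The action of a permutation on words. -/
def act (σ : Equiv.Perm GolayPt) (w : Wd) : Wd := fun p => w (σ.symm p)

theorem support_act (σ : Equiv.Perm GolayPt) (w : Wd) : support₂ (act σ w) = σ • support₂ w :=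
  (smul_support₂ σ w).symm

theorem act_mul (σ τ : Equiv.Perm GolayPt) (w : Wd) : act (σ * τ) w = act σ (act τ w) := rfl

theorem act_one_word (σ : Equiv.Perm GolayPt) : act σ (1 : Wd) = 1 := rfl

theorem act_one (w : Wd) : act 1 w = w := rfl

theorem act_sub (σ : Equiv.Perm GolayPt) (v w : Wd) : act σ (v - w) = act σ v - act σ w := rfl

theorem act_inv_self (σ : Equiv.Perm GolayPt) (w : Wd) : act σ (act σ⁻¹ w) = w := by
  rw [← act_mul, mul_inv_cancel, act_one]

theorem sum_act (σ : Equiv.Perm GolayPt) (w : Wd) : ∑ p, act σ w p = ∑ p, w p :=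
  Equiv.sum_comp σ.symm w

theorem dot_act (σ : Equiv.Perm GolayPt) (v w : Wd) :
    ∑ p, act σ v p * act σ w p = ∑ p, v p * w p :=
  Equiv.sum_comp σ.symm fun p => v p * w p

theorem act_mword {g : ℕ} (hg : valid g = true) (m : ℕ) :
    act (permOf g) (mword m) = mword (mimg g m) :=
  support₂_injective (by rw [support_act, support_mword, support_mword, smul_mset hg])

theorem act_mem_code {σ : Equiv.Perm GolayPt} (hσ : σ ∈ M24) {w : Wd} (hw : w ∈ golayCode) :
    act σ w ∈ golayCode := by
  obtain ⟨v, hv, e⟩ := mem_M24_iff.1 hσ (support₂ w) ⟨w, hw, rfl⟩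
  rw [← support_act] at e
  rwa [← support₂_injective e]

theorem zmod2 (a : ZMod 2) : a = 0 ∨ a = 1 := by revert a; decide

theorem mset_compl (m : ℕ) : mset (16777215 ^^^ m) = (mset m)ᶜ := by
  ext p
  rw [Finset.mem_compl, mem_mset, mem_mset, Nat.testBit_xor, testBit_full]
  simp [idx_lt]

theorem perp_check : allB 12 (fun k => Nat.beq k 0 ||
    gens.any fun x => Nat.beq (Nat.land (pop (Nat.land x (Nat.shiftLeft k 12))) 1) 1) 0 = true := by
  decide +kernel

theorem dot_mword (a b : ℕ) : ∑ p, mword a p * mword b p = (pop (Nat.land a b) : ZMod 2) := by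
  rw [← card_mset, show mset (Nat.land a b) = mset a ∩ mset b from mset_and a b,
    Finset.card_eq_sum_ones, Nat.cast_sum, Nat.cast_one]
  rw [← Finset.sum_filter_add_sum_filter_not Finset.univ (fun p => p ∈ mset a ∩ mset b)]
  rw [Finset.filter_mem_eq_inter, Finset.univ_inter]
  have h0 : ∑ p ∈ Finset.univ.filter (fun p => ¬ p ∈ mset a ∩ mset b),
      mword a p * mword b p = 0 := by
    refine Finset.sum_eq_zero fun p hp => ?_
    simp only [Finset.mem_filter, Finset.mem_univ, true_and, Finset.mem_inter, mem_mset, mword] at hp ⊢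
    cases h1 : a.testBit (idx p) <;> cases h2 : b.testBit (idx p) <;> simp_all
  rw [h0, add_zero]
  refine Finset.sum_congr rfl fun p hp => ?_
  simp only [Finset.mem_inter, mem_mset] at hp
  simp [mword, hp.1, hp.2]

theorem eq_zero_or_mword (w : Wd) : ∃ m < 16777216, w = mword m := by
  obtain ⟨m, hm, e⟩ := exists_mset (support₂ w)
  exact ⟨m, hm, support₂_injective (by rw [support_mword, e])⟩

/-- The code is its own orthogonal. -/
theorem mem_code_of_orth {z : Wd} (h : ∀ x ∈ gens, ∑ p, z p * mword x p = 0) : z ∈ golayCode := by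
  obtain ⟨m, hm, rfl⟩ := eq_zero_or_mword z
  obtain ⟨e1, e2⟩ := enc_facts (m % 4096) (Nat.mod_lt _ (by norm_num))
  set c := enc (m % 4096) with hc
  have hlow : (m ^^^ c) % 2 ^ 12 = 0 := by
    rw [Nat.xor_mod_two_pow, show (2 : ℕ) ^ 12 = 4096 by norm_num, e1, Nat.xor_self]
  have hlt : m ^^^ c < 16777216 := Nat.xor_lt_two_pow (n := 24) hm e2
  set k := (m ^^^ c) / 2 ^ 12 with hk
  have hkeq : Nat.shiftLeft k 12 = m ^^^ c := by
    show k <<< 12 = _
    rw [Nat.shiftLeft_eq, hk]
    have := Nat.div_add_mod (m ^^^ c) (2 ^ 12)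
    rw [hlow, add_zero] at this
    rw [mul_comm]; exact this
  have hk12 : k < 2 ^ 12 := by
    rw [hk, Nat.div_lt_iff_lt_mul (Nat.two_pow_pos 12), ← pow_add]
    exact lt_of_lt_of_eq hlt (by norm_num)
  have := allB_range perp_check hk12
  rw [Bool.or_eq_true] at this
  rcases this with h0 | h1
  · have : m ^^^ c = 0 := by
      rw [← hkeq, Nat.eq_of_beq_eq_true h0]; rfl
    have hmc : mword m = mword c := by
      have := congrArg mword this
      rw [mword_xor, mword_zero] at this
      funext p
      have := congrFun this p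
      simp only [Pi.add_apply, Pi.zero_apply] at this
      generalize mword m p = a at this ⊢; generalize mword c p = b at this ⊢
      revert this; revert a b; decide
    rw [hmc]; exact mword_enc_mem _
  · exfalso
    rw [List.any_eq_true] at h1
    obtain ⟨x, hx, hodd⟩ := h1
    rw [hkeq, Nat.beq_eq] at hodd
    have e : ∑ p, mword x p * mword (m ^^^ c) p = 0 := by
      simp only [mword_xor, Pi.add_apply, mul_add, Finset.sum_add_distrib]
      rw [golayCode_orth (gens_mem hx) (mword_enc_mem _), add_zero]
      simp only [mul_comm (mword x _)]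
      exact h x hx
    rw [dot_mword, ZMod.natCast_eq_zero_iff_even] at e
    rw [Nat.even_iff] at e
    rw [show Nat.land (pop (Nat.land x (m ^^^ c))) 1 = pop (Nat.land x (m ^^^ c)) % 2 from
      Nat.and_one_is_mod _] at hodd
    omega

/-- Every difference list reproduces a generator, inside the stabiliser of `u`. -/
def spanOK (u : ℕ) (S : List (List (ℕ × ℕ))) : Bool :=
  Nat.beq S.length gens.length && (gens.zip S).all fun e =>
    e.2.all (fun p => inM24 p.1 && isCode p.2 && Nat.beq (mimg p.1 u) u) &&
    Nat.beq (e.2.foldr (fun p a => Nat.xor (Nat.xor (mimg p.1 p.2) p.2) a) 0) e.1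

theorem spanAll_ok : spanOK 0 spanAll = true := by decide +kernel
theorem spanFull_ok : spanOK 16777215 spanAll = true := by decide +kernel
theorem spanOct_ok : spanOK octMask spanOct = true := by decide +kernel
theorem spanOctC_ok : spanOK (Nat.xor 16777215 octMask) spanOct = true := by decide +kernel
theorem spanDod_ok : spanOK sqMask spanDod = true := by decide +kernel

theorem span_sound {u : ℕ} {S : List (List (ℕ × ℕ))} (h : spanOK u S = true) {w : Wd}
    (hw : ∀ σ ∈ M24, act σ (mword u) = mword u → act σ w - w ∈ golayCode) : w ∈ golayCode := by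
  simp only [spanOK, Bool.and_eq_true, List.all_eq_true] at h
  obtain ⟨hlen, hall⟩ := h
  have hlen := Nat.eq_of_beq_eq_true hlen
  refine mem_code_of_orth fun x hx => ?_
  obtain ⟨i, hi, rfl⟩ := List.getElem_of_mem hx
  have hz : (gens[i], S[i]'(by omega)) ∈ gens.zip S :=
    List.mem_iff_getElem.2 ⟨i, by simp [hlen, hi], by simp⟩
  obtain ⟨hel, hx'⟩ := hall _ hz
  have hx'' := Nat.eq_of_beq_eq_true hx'
  dsimp only at hx'' hel
  rw [← hx'']
  clear hx''
  clear hx'
  generalize (S[i]'(by omega)) = l at hel ⊢
  induction l with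
  | nil => simp [mword_zero]
  | cons p l ih =>
    have ihh := ih fun q hq => hel q (List.mem_cons_of_mem _ hq)
    obtain ⟨⟨h1, h2⟩, h3⟩ := hel p List.mem_cons_self
    have hv := inM24_valid h1
    have hc : mword p.2 ∈ golayCode := (mword_mem_iff (isCode_lt h2)).2 h2
    have hfix : act (permOf p.1) (mword u) = mword u := by
      rw [act_mword hv, Nat.eq_of_beq_eq_true h3]
    have hinv : act (permOf p.1)⁻¹ (mword u) = mword u := by
      conv_lhs => rw [← hfix]
      rw [← act_mul, inv_mul_cancel, act_one]
    have hd := golayCode_orth (hw _ (Subgroup.inv_mem _ (inM24_mem h1)) hinv) hc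
    have e : ∑ q, w q * mword (mimg p.1 p.2) q = ∑ q, act (permOf p.1)⁻¹ w q * mword p.2 q := by
      rw [← act_mword hv, ← dot_act (permOf p.1)⁻¹ w, ← act_mul, inv_mul_cancel, act_one]
    simp only [List.foldr_cons]
    rw [show Nat.xor (Nat.xor (mimg p.1 p.2) p.2) (l.foldr (fun p a => Nat.xor (Nat.xor (mimg p.1 p.2) p.2) a) 0)
      = (mimg p.1 p.2 ^^^ p.2) ^^^ (l.foldr (fun p a => Nat.xor (Nat.xor (mimg p.1 p.2) p.2) a) 0) from rfl]
    simp only [mword_xor, Pi.add_apply, mul_add, Finset.sum_add_distrib, ihh, add_zero, e]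
    rw [← hd, ← Finset.sum_add_distrib]
    refine Finset.sum_congr rfl fun q _ => ?_
    simp only [Pi.sub_apply]
    generalize act (permOf p.1)⁻¹ w q = a; generalize w q = b; generalize mword p.2 q = c
    revert a b c; decide

theorem no_fixed_coset {u : Wd} (hu : u ∈ golayCode) {w : Wd} (hw : w ∉ golayCode) :
    ∃ σ ∈ M24, act σ u = u ∧ act σ w - w ∉ golayCode := by
  by_contra hno
  push Not at hno
  apply hw
  obtain ⟨m, hm, rfl⟩ := eq_zero_or_mword u
  have hc := (mword_mem_iff hm).1 hu
  have move : ∀ (r : ℕ) (S : List (List (ℕ × ℕ))), spanOK r S = true →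
      (∃ g ∈ M24, g • mset r = mset m) → w ∈ golayCode := by
    rintro r S hS ⟨g, hg, e⟩
    have he : act g (mword r) = mword m :=
      support₂_injective (by rw [support_act, support_mword, support_mword, e])
    have key := span_sound hS (w := act g⁻¹ w) fun σ hσ hfix => by
      have := hno (g * σ * g⁻¹) (Subgroup.mul_mem _ (Subgroup.mul_mem _ hg hσ) (Subgroup.inv_mem _ hg))
        (by rw [← he, ← act_mul, inv_mul_cancel_right, act_mul, hfix])
      have := act_mem_code (Subgroup.inv_mem _ hg) this
      rwa [act_sub, ← act_mul, show g⁻¹ * (g * σ * g⁻¹) = σ * g⁻¹ by group, act_mul] at this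
    have := act_mem_code hg key
    rwa [act_inv_self] at this
  rcases isCode_weights hc with h | h | h | h | h
  · refine move 0 _ spanAll_ok ⟨1, Subgroup.one_mem _, ?_⟩
    rw [mset_zero, Finset.card_eq_zero.1 (show (mset m).card = 0 by rw [card_mset, h])]; simp
  · obtain ⟨g, hg⟩ := M24_trans_octads (o := mset octMask) (o' := mset m) octMask_mem
      (mem_octads_iff.2 ⟨m, mem_octList.2 ⟨hc, h⟩, rfl⟩)
    exact move octMask _ spanOct_ok ⟨g.1, g.2, hg⟩
  · obtain ⟨g, hg⟩ := M24_trans_dodecads sqMask_mem
      (d' := mset m) (mem_dodecads_iff.2 ⟨m, mem_dodList.2 ⟨hc, h⟩, rfl⟩)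
    exact move sqMask _ spanDod_ok ⟨g.1, g.2, hg⟩
  · have hc' := isCode_xor isCode_full hc
    have h8 : pop (16777215 ^^^ m) = 8 := by
      rw [← card_mset, mset_compl, Finset.card_compl, card_mset, h]; rfl
    obtain ⟨g, hg⟩ := M24_trans_octads (o := mset octMask) (o' := mset (16777215 ^^^ m)) octMask_mem
      (mem_octads_iff.2 ⟨_, mem_octList.2 ⟨hc', h8⟩, rfl⟩)
    refine move _ _ spanOctC_ok ⟨g.1, g.2, ?_⟩
    have hg' : (g : Equiv.Perm GolayPt) • mset octMask = mset (16777215 ^^^ m) := hg
    show (g : Equiv.Perm GolayPt) • mset (16777215 ^^^ octMask) = mset m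
    rw [mset_compl, Finset.compl_eq_univ_sdiff, Finset.smul_finset_sdiff, Finset.smul_finset_univ,
      hg', mset_compl, ← Finset.compl_eq_univ_sdiff, compl_compl]
  · refine move 16777215 _ spanFull_ok ⟨1, Subgroup.one_mem _, ?_⟩
    rw [mset_full, Finset.eq_univ_of_card _ (show (mset m).card = Fintype.card GolayPt by
      rw [card_mset, h]; simp)]; simp

/-- A subspace stable under `M24`. -/
def Stable (W : Submodule (ZMod 2) Wd) : Prop := ∀ σ ∈ M24, ∀ w ∈ W, act σ w ∈ W

theorem one_mem_code : (1 : Wd) ∈ golayCode := by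
  rw [← mword_full]; exact (mword_mem_iff (by norm_num)).2 isCode_full

theorem code_le_of_octad {W : Submodule (ZMod 2) Wd} (hW : Stable W) {a : ℕ}
    (ha : a ∈ octList) (hmem : mword a ∈ W) : golayCode ≤ W := by
  have hall : ∀ b ∈ octList, mword b ∈ W := fun b hb => by
    obtain ⟨g, hg⟩ := M24_trans_octads (mem_octads_iff.2 ⟨a, ha, rfl⟩) (mem_octads_iff.2 ⟨b, hb, rfl⟩)
    have := hW g.1 g.2 _ hmem
    rwa [show act g.1 (mword a) = mword b from
      support₂_injective (by rw [support_act, support_mword, support_mword]; exact hg)] at this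
  have hg8 : ∀ x ∈ gens, x ∈ octList := by
    intro x hx
    refine mem_octList.2 ?_
    have : gens.all (fun x => isCode x && Nat.beq (pop x) 8) = true := by decide +kernel
    have := List.all_eq_true.1 this x hx
    simpa using this
  intro z hz
  obtain ⟨m, hm, rfl⟩ := mem_golayCode_iff.1 hz
  have := mword_enc_mem_submodule W (fun x hx => hall x (hg8 x hx)) (m % 4096)
  rwa [isCode_iff.1 hm] at this

theorem le_code_cases {W : Submodule (ZMod 2) Wd} (hW : Stable W) (hle : W ≤ golayCode) :
    W = ⊥ ∨ W = Submodule.span (ZMod 2) {(1 : Wd)} ∨ W = golayCode := by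
  by_cases h1 : ∀ w ∈ W, w = 0 ∨ w = 1
  · by_cases h0 : ∀ w ∈ W, w = 0
    · exact Or.inl ((Submodule.eq_bot_iff W).2 h0)
    · push Not at h0
      obtain ⟨w, hw, hne⟩ := h0
      have hw1 : (1 : Wd) ∈ W := by
        rcases h1 w hw with rfl | rfl
        exacts [absurd rfl hne, hw]
      refine Or.inr (Or.inl (le_antisymm (fun v hv => ?_) ?_))
      · rcases h1 v hv with rfl | rfl
        exacts [Submodule.zero_mem _, Submodule.mem_span_singleton_self _]
      · rw [Submodule.span_singleton_le_iff_mem]; exact hw1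
  · push Not at h1
    obtain ⟨w, hw, hne0, hne1⟩ := h1
    refine Or.inr (Or.inr (le_antisymm hle ?_))
    obtain ⟨m, hm, rfl⟩ := mem_golayCode_iff.1 (hle hw)
    have move : ∀ a b : ℕ, (∃ g ∈ M24, g • mset a = mset b) → mword a ∈ W → mword b ∈ W := by
      rintro a b ⟨g, hg, e⟩ h
      have := hW g hg _ h
      rwa [show act g (mword a) = mword b from
        support₂_injective (by rw [support_act, support_mword, support_mword, e])] at this
    rcases isCode_weights hm with h | h | h | h | h
    · exfalso
      refine hne0 ?_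
      rw [← mword_zero]
      exact support₂_injective (by rw [support_mword, support_mword, mset_zero,
        Finset.card_eq_zero.1 (show (mset m).card = 0 by rw [card_mset, h])])
    · exact code_le_of_octad hW (mem_octList.2 ⟨hm, h⟩) hw
    · have hd : mset m ∈ dodecads := mem_dodecads_iff.2 ⟨m, mem_dodList.2 ⟨hm, h⟩, rfl⟩
      have two : ∀ b ∈ dodList, mword b ∈ W := fun b hb => by
        obtain ⟨g, hg⟩ := M24_trans_dodecads hd (mem_dodecads_iff.2 ⟨b, hb, rfl⟩)
        exact move m b ⟨g.1, g.2, hg⟩ hw
      have hab := Submodule.add_mem _ (two 8245261 (mem_dodList.2 (by decide +kernel)))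
        (two 15953934 (mem_dodList.2 (by decide +kernel)))
      rw [← mword_xor] at hab
      exact code_le_of_octad hW (mem_octList.2 (by decide +kernel)) hab
    · -- the complement of an octad: two such complements differ by the sum of the octads
      have hc' := isCode_xor isCode_full hm
      have h8 : pop (16777215 ^^^ m) = 8 := by
        rw [← card_mset, mset_compl, Finset.card_compl, card_mset, h]; rfl
      have two : ∀ b ∈ octList, mword (16777215 ^^^ b) ∈ W := fun b hb => by
        obtain ⟨g, hg⟩ := M24_trans_octads (mem_octads_iff.2 ⟨_, mem_octList.2 ⟨hc', h8⟩, rfl⟩)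
          (mem_octads_iff.2 ⟨b, hb, rfl⟩)
        have hg' : (g : Equiv.Perm GolayPt) • mset (16777215 ^^^ m) = mset b := hg
        refine move m _ ⟨g.1, g.2, ?_⟩ hw
        rw [mset_compl, ← hg', mset_compl, Finset.compl_eq_univ_sdiff (mset m),
          Finset.smul_finset_sdiff, Finset.smul_finset_univ, ← Finset.compl_eq_univ_sdiff,
          compl_compl]
      have hab := Submodule.add_mem _ (two 13062145 (mem_octList.2 (by decide +kernel)))
        (two 4845570 (mem_octList.2 (by decide +kernel)))
      rw [← mword_xor, show (16777215 ^^^ 13062145) ^^^ (16777215 ^^^ 4845570) = (9347075 : ℕ) by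
        decide +kernel] at hab
      exact code_le_of_octad hW (mem_octList.2 (by decide +kernel)) hab
    · exfalso
      refine hne1 ?_
      rw [← mword_full]
      exact support₂_injective (by rw [support_mword, support_mword, mset_full,
        Finset.eq_univ_of_card _ (show (mset m).card = Fintype.card GolayPt by
          rw [card_mset, h]; simp)])

/-- An even word outside the code forces the code. -/
theorem code_le_of_even {W : Submodule (ZMod 2) Wd} (hW : Stable W) {w : Wd} (hw : w ∈ W)
    (heven : ∑ p, w p = 0) (hout : w ∉ golayCode) : golayCode ≤ W := by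
  classical
  obtain ⟨x, hx, hodd⟩ : ∃ x ∈ gens, ∑ p, w p * mword x p ≠ 0 := by
    by_contra hh
    push Not at hh
    exact hout (mem_code_of_orth hh)
  have hxo : mset x ∈ octads := by
    have : gens.all (fun x => isCode x && Nat.beq (pop x) 8) = true := by decide +kernel
    have := List.all_eq_true.1 this x hx
    simp only [Bool.and_eq_true] at this
    exact mem_octads_iff.2 ⟨x, mem_octList.2 ⟨this.1, Nat.eq_of_beq_eq_true this.2⟩, rfl⟩
  obtain ⟨g, hg⟩ := M24_trans_octads hxo octMask_mem
  set v := act g.1 w with hv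
  have hvW : v ∈ W := hW g.1 g.2 w hw
  have hin : ∑ p ∈ mset octMask, v p = 1 := by
    have : ∑ p, w p * mword x p = ∑ p ∈ mset octMask, v p := by
      rw [← hg, ← dot_act g.1 w]
      have : act g.1 (mword x) = fun p => if p ∈ g • mset x then (1 : ZMod 2) else 0 := by
        funext p
        simp only [act, mword]
        have : p ∈ g • mset x ↔ x.testBit (idx ((g : Equiv.Perm GolayPt).symm p)) = true := by
          rw [← mem_mset, ← Finset.inv_smul_mem_iff]; rfl
        simp only [this]
      rw [this]
      simp [hv]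
    rw [← this]
    exact (zmod2 _).resolve_left hodd
  have hoff : ∑ p ∈ (mset octMask)ᶜ, v p = 1 := by
    have := Finset.sum_add_sum_compl (mset octMask) v
    rw [hin, hv, sum_act, heven, ← hv] at this
    generalize ∑ p ∈ (mset octMask)ᶜ, v p = a at this ⊢
    revert this; revert a; decide
  -- average over the pointwise stabiliser of the octad
  have : Fintype (fixMasks (bitsList octMask)) := Fintype.ofFinite _
  have hsum : ∑ σ : fixMasks (bitsList octMask), act σ.1 v ∈ W :=
    Submodule.sum_mem _ fun σ _ => hW σ.1 (fixMasks_le _ σ.2) v hvW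
  have hfixO : ∀ σ : fixMasks (bitsList octMask), ∀ q ∈ mset octMask, σ.1 q = q := fun σ q hq =>
    ((mem_fix_pointwise.1 σ.2).2 : σ.1 ∈ fixingSubgroup _ _) ⟨q, by simpa using hq⟩
  have hmapsC : ∀ σ : fixMasks (bitsList octMask), ∀ p ∈ (mset octMask)ᶜ,
      σ.1.symm p ∈ (mset octMask)ᶜ := fun σ p hp => by
    rw [Finset.mem_compl] at hp ⊢
    intro hmem
    have e := hfixO σ _ hmem
    rw [Equiv.apply_symm_apply] at e
    exact hp (e.symm ▸ hmem)
  have horb : ∀ p, ∀ hp : p ∈ (mset octMask)ᶜ, Function.Bijective
      (fun σ : fixMasks (bitsList octMask) =>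
        (⟨σ.1.symm p, hmapsC σ p hp⟩ : ((mset octMask)ᶜ : Finset GolayPt))) := by
    intro p hp
    have hlv : levelOK (bitsList octMask) (chainOctPtsLevels.headD noLevel) = true := by
      decide +kernel
    have hmask : mset (orbMask (chainOctPtsLevels.headD noLevel).1
        (chainOctPtsLevels.headD noLevel).2.1) = (mset octMask)ᶜ := by decide +kernel
    rw [Fintype.bijective_iff_surjective_and_card]
    constructor
    · rintro ⟨q, hq⟩
      obtain ⟨a, ha⟩ := (level_orbit hlv (q := p)).2 (by rw [hmask]; exact hp)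
      obtain ⟨b, hb⟩ := (level_orbit hlv (q := q)).2 (by rw [hmask]; exact hq)
      refine ⟨a * b⁻¹, Subtype.ext ?_⟩
      show ((a * b⁻¹ : fixMasks (bitsList octMask)).1).symm p = q
      rw [Equiv.symm_apply_eq, ← ha, ← hb]
      show (a • _ : GolayPt) = (a * b⁻¹) • b • _
      rw [mul_smul, inv_smul_smul]
    · rw [← Nat.card_eq_fintype_card, octPts_facts.1, Fintype.card_coe, Finset.card_compl,
        card_mset]
      decide +kernel
  have havg : ∑ σ : fixMasks (bitsList octMask), act σ.1 v = mword (16777215 ^^^ octMask) := by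
    funext p
    rw [Finset.sum_apply]
    by_cases hp : p ∈ mset octMask
    · have e : ∀ σ : fixMasks (bitsList octMask), act σ.1 v p = v p := fun σ => by
        have h2 := hfixO σ p hp
        show v (σ.1.symm p) = v p
        rw [show σ.1.symm p = p from (Equiv.symm_apply_eq _).2 h2.symm]
      rw [Finset.sum_congr rfl fun σ _ => e σ, Finset.sum_const, Finset.card_univ,
        ← Nat.card_eq_fintype_card, octPts_facts.1]
      have h' : (16777215 ^^^ octMask).testBit (idx p) = false := by
        rw [Nat.testBit_xor, mem_mset.1 hp, testBit_full]; simp [idx_lt]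
      simp only [mword, h']
      generalize v p = a; revert a; decide
    · have hp' : p ∈ (mset octMask)ᶜ := Finset.mem_compl.2 hp
      have e1 : ∑ σ : fixMasks (bitsList octMask), act σ.1 v p =
          ∑ q : ((mset octMask)ᶜ : Finset GolayPt), v q :=
        Fintype.sum_bijective _ (horb p hp') _ _ fun σ => rfl
      rw [e1, Finset.sum_coe_sort (mset octMask)ᶜ v, hoff]
      have h' : (16777215 ^^^ octMask).testBit (idx p) = true := by
        rw [mem_mset, Bool.not_eq_true] at hp
        rw [Nat.testBit_xor, hp, testBit_full]; simp [idx_lt]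
      simp [mword, h']
  rw [havg] at hsum
  have hcode : mword (16777215 ^^^ octMask) ∈ golayCode :=
    (mword_mem_iff (by decide +kernel)).2 (by decide +kernel)
  have hst : Stable (W ⊓ golayCode) := fun σ hσ z hz => ⟨hW σ hσ z hz.1, act_mem_code hσ hz.2⟩
  rcases le_code_cases hst inf_le_right with h | h | h
  · exfalso
    have := h ▸ (show mword (16777215 ^^^ octMask) ∈ W ⊓ golayCode from ⟨hsum, hcode⟩)
    rw [Submodule.mem_bot, ← mword_zero] at this
    exact absurd (mword_inj (by decide +kernel) (by norm_num) this) (by decide +kernel)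
  · exfalso
    have := h ▸ (show mword (16777215 ^^^ octMask) ∈ W ⊓ golayCode from ⟨hsum, hcode⟩)
    rw [Submodule.mem_span_singleton] at this
    obtain ⟨c, hc⟩ := this
    rcases zmod2 c with rfl | rfl
    · rw [zero_smul, ← mword_zero] at hc
      exact absurd (mword_inj (by norm_num) (by decide +kernel) hc) (by decide +kernel)
    · rw [one_smul, ← mword_full] at hc
      exact absurd (mword_inj (by norm_num) (by decide +kernel) hc) (by decide +kernel)
  · exact h ▸ inf_le_left

theorem stable_cases (W : Submodule (ZMod 2) Wd) (hW : Stable W) :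
    W = ⊥ ∨ W = Submodule.span (ZMod 2) {(1 : Wd)} ∨ W = golayCode ∨
      (W : Set Wd) = {w | ∑ p, w p = 0} ∨ W = ⊤ := by
  classical
  by_cases hle : W ≤ golayCode
  · rcases le_code_cases hW hle with h | h | h
    exacts [Or.inl h, Or.inr (Or.inl h), Or.inr (Or.inr (Or.inl h))]
  right; right; right
  obtain ⟨w, hw, hout⟩ := SetLike.not_le_iff_exists.1 hle
  have hcw : golayCode ≤ W := by
    by_cases he : ∑ p, w p = 0
    · exact code_le_of_even hW hw he hout
    obtain ⟨σ, hσ, -, hd⟩ := no_fixed_coset (Submodule.zero_mem golayCode) hout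
    exact code_le_of_even hW (Submodule.sub_mem _ (hW σ hσ w hw) hw)
      (by rw [show ∑ p, (act σ w - w) p = ∑ p, (act σ w p - w p) from rfl,
        Finset.sum_sub_distrib, sum_act, sub_self]) hd
  let Z : Submodule (ZMod 2) Wd :=
    { carrier := {z | ∀ v ∈ W, ∑ p, z p * v p = 0}
      zero_mem' := fun v _ => by simp
      add_mem' := fun {a b} ha hb v hv => by
        simp [add_mul, Finset.sum_add_distrib, ha v hv, hb v hv]
      smul_mem' := fun c a ha v hv => by
        simp [mul_assoc, ← Finset.mul_sum, ha v hv] }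
  have hZle : Z ≤ golayCode := fun z hz => mem_code_of_orth fun x hx => hz _ (hcw (gens_mem hx))
  have hZst : Stable Z := fun σ hσ z hz v hv => by
    have := hz (act σ⁻¹ v) (hW _ (Subgroup.inv_mem _ hσ) v hv)
    rw [← dot_act σ z (act σ⁻¹ v), act_inv_self] at this
    exact this
  have heven : ∀ e : Wd, ∑ p, e p = 0 → e ∈ W := by
    intro e he
    by_contra hne
    obtain ⟨f, hf, hfW⟩ := Submodule.exists_le_ker_of_notMem hne
    let z : Wd := fun p => f (Pi.single p 1)
    have hz : ∀ v : Wd, ∑ p, z p * v p = f v := fun v => by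
      conv_rhs => rw [pi_eq_sum_univ' v]
      rw [map_sum]
      refine Finset.sum_congr rfl fun p _ => ?_
      rw [map_smul, smul_eq_mul, mul_comm]
    have hzZ : z ∈ Z := fun v hv => (hz v).trans (LinearMap.mem_ker.1 (hfW hv))
    rcases le_code_cases hZst hZle with h | h | h
    · rw [h, Submodule.mem_bot] at hzZ
      exact hf (by rw [← hz e, hzZ]; simp)
    · rw [h, Submodule.mem_span_singleton] at hzZ
      obtain ⟨c, hc⟩ := hzZ
      exact hf (by rw [← hz e, ← hc]; simp [← Finset.mul_sum, he])
    · refine hout (mem_code_of_orth fun x hx => ?_)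
      have hxZ : mword x ∈ Z := h ▸ gens_mem hx
      rw [← hxZ w hw]
      exact Finset.sum_congr rfl fun p _ => mul_comm _ _
  by_cases hodd : ∃ v ∈ W, ∑ p, v p ≠ 0
  · right
    obtain ⟨v, hv, hvne⟩ := hodd
    have hv1 : ∑ p, v p = 1 := (zmod2 _).resolve_left hvne
    refine eq_top_iff.2 fun u _ => ?_
    rcases zmod2 (∑ p, u p) with h | h
    · exact heven u h
    · have := Submodule.add_mem _ (heven (u - v) (by simp [Finset.sum_sub_distrib, h, hv1])) hv
      simpa using this
  · left
    push Not at hodd
    ext u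
    exact ⟨fun hu => hodd u hu, fun hu => heven u hu⟩

end CfsgLib.Mathieu
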