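import Cfsg.Agent.Lib.Mathieu.OddElts
import Cfsg.Agent.Lib.Mathieu.DefectZeroCount

/-!
# `M22` and `M24` have no 2-defect-zero characters

The squared absolute values forced by congruences at elements of order 5, 7, 11 (and 23) exceed the
group order, except for degree 384 in `M22`, where they leave no room and contradict orthogonality
with the trivial character.
-/

set_option autoImplicit false

namespace CfsgLib.Mathieu

open Cfsg CfsgLib.Golay CfsgLib.Char
open scoped ComplexConjugate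

/-- An `OddElt` seen inside the group. -/
theorem oddElt_group {H : Subgroup (Equiv.Perm GolayPt)} {q c r : ℕ} {x : Equiv.Perm GolayPt}
    (h : OddElt H q c r x) :
    ∃ y : H, (y : Equiv.Perm GolayPt) = x ∧ orderOf y = q ∧ (∃ n : H, n * y * n⁻¹ = y ^ r) ∧
      (Subgroup.centralizer ({y} : Set H)).index * c = Nat.card H := by
  obtain ⟨mem, order, card, n, hn, e⟩ := h
  refine ⟨⟨x, mem⟩, rfl, by rw [← Subgroup.orderOf_coe]; exact order,
    ⟨⟨n, hn⟩, Subtype.ext (by simpa using e)⟩, ?_⟩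
  have hcard : Nat.card (Subgroup.centralizer ({(⟨x, mem⟩ : H)} : Set H)) = c := by
    rw [← card]
    exact Nat.card_congr
      { toFun := fun σ => ⟨σ.1.1, σ.1.2,
          congrArg Subtype.val (Subgroup.mem_centralizer_singleton_iff.1 σ.2)⟩
        invFun := fun σ => ⟨⟨σ.1, σ.2.1⟩,
          Subgroup.mem_centralizer_singleton_iff.2 (Subtype.ext σ.2.2)⟩
        left_inv := fun _ => rfl
        right_inv := fun _ => rfl }
  rw [← hcard]
  exact Subgroup.index_mul_card _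


theorem two_part_dvd {m a k o : ℕ} (e : ℕ) (ho : Odd o)
    (h : (2 ^ 10 * m) ^ 2 ∣ (2 ^ k * o) ^ 2 * a) (hek : 2 * k + e = 20) : 2 ^ e ∣ a := by
  have h1 : 2 ^ (2 * k) * 2 ^ e ∣ 2 ^ (2 * k) * (o ^ 2 * a) := by
    rw [← pow_add, hek]
    refine (Dvd.intro (m ^ 2) ?_).trans (h.trans ?_)
    · ring
    · exact dvd_of_eq (by ring)
  exact ((Nat.coprime_two_left.2 ho.pow).pow_left e).dvd_of_dvd_mul_left
    ((Nat.mul_dvd_mul_iff_left (by positivity)).1 h1)

theorem arith24 {m a23 a11 a5 a7 : ℕ} (hm : m ∣ 239085)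
    (h : 1048576 * m ^ 2 + 21288960 * a23 + 22256640 * a11 + 4080384 * a5 + 11658240 * a7 ≤
      244823040)
    (c23 : (23 : ℤ) ∣ (1024 * (m : ℤ)) ^ 2 - a23) (c11 : (11 : ℤ) ∣ (1024 * (m : ℤ)) ^ 2 - a11)
    (c5 : (5 : ℤ) ∣ (1024 * (m : ℤ)) ^ 2 - a5) (c7 : (7 : ℤ) ∣ (1024 * (m : ℤ)) ^ 2 - a7)
    (w5 : 16 ∣ a5) (w7 : 4 ∣ a7) : False := by
  have hm15 : m ≤ 15 := by nlinarith
  interval_cases m <;> norm_num at hm <;>
    · simp only [Nat.cast_ofNat, Nat.cast_one, one_pow, Nat.reducePow, Nat.reduceMul, mul_one,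
        Int.reducePow, Int.reduceMul] at c23 c11 c5 c7 h
      omega

theorem arith22 {m a5 a11 a7 : ℕ} (hm : m ∣ 3465)
    (h : 16384 * m ^ 2 + 88704 * a5 + 80640 * a11 + 126720 * a7 ≤ 443520)
    (c5 : (5 : ℤ) ∣ (128 * (m : ℤ)) ^ 2 - a5) (c11 : (11 : ℤ) ∣ (128 * (m : ℤ)) ^ 2 - a11)
    (c7 : (7 : ℤ) ∣ (128 * (m : ℤ)) ^ 2 - a7) : m = 3 ∧ a5 = 1 ∧ a11 = 1 ∧ a7 = 1 := by
  have hm5 : m ≤ 5 := by nlinarith
  interval_cases m <;> norm_num at hm <;>
    · simp only [Nat.cast_ofNat, Nat.cast_one, one_pow, Nat.reducePow, Nat.reduceMul, mul_one,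
        Int.reducePow, Int.reduceMul] at c5 c11 c7 h
      omega

section Sums

variable {α : Type*} [DecidableEq α]

theorem disjoint_foldr_union {A : Finset α} : ∀ {L : List (Finset α)},
    (∀ B ∈ L, Disjoint A B) → Disjoint A (L.foldr (· ∪ ·) ∅)
  | [], _ => by simp
  | B :: L, h => by
    simp only [List.foldr_cons, Finset.disjoint_union_right]
    exact ⟨h B List.mem_cons_self, disjoint_foldr_union fun C hC => h C (List.mem_cons_of_mem _ hC)⟩

theorem sum_foldr_union {M : Type*} [AddCommMonoid M] (f : α → M) : ∀ {L : List (Finset α)},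
    L.Pairwise Disjoint → ∑ g ∈ L.foldr (· ∪ ·) ∅, f g = (L.map fun A => ∑ g ∈ A, f g).sum
  | [], _ => by simp
  | A :: L, h => by
    rw [List.pairwise_cons] at h
    simp only [List.foldr_cons, List.map_cons, List.sum_cons]
    rw [Finset.sum_union (disjoint_foldr_union h.1), sum_foldr_union f h.2]

theorem sum_classes_le [Fintype α] {f : α → ℝ} (hf : ∀ a, 0 ≤ f a) {L : List (Finset α)}
    (hL : L.Pairwise Disjoint) : (L.map fun A => ∑ g ∈ A, f g).sum ≤ ∑ g, f g := by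
  rw [← sum_foldr_union f hL]
  exact Finset.sum_le_univ_sum_of_nonneg hf

end Sums

variable {G : Type} [Group G] [Fintype G]

theorem sum_cls {φ : G → ℂ} (hφ : IsClassFunction G φ) (x : G) :
    ∑ g ∈ cls x, ‖φ g‖ ^ 2 = ((Subgroup.centralizer ({x} : Set G)).index : ℝ) * ‖φ x‖ ^ 2 := by
  rw [Finset.sum_congr rfl fun g hg => by rw [cls_value hg hφ], Finset.sum_const, card_cls,
    nsmul_eq_mul]

theorem sum_cls_re {φ : G → ℂ} (hφ : IsClassFunction G φ) (x : G) :
    ∑ g ∈ cls x, (φ g).re = ((Subgroup.centralizer ({x} : Set G)).index : ℝ) * (φ x).re := by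
  rw [Finset.sum_congr rfl fun g hg => by rw [cls_value hg hφ], Finset.sum_const, card_cls,
    nsmul_eq_mul]

theorem centralizer_one_index : (Subgroup.centralizer ({(1 : G)} : Set G)).index = 1 := by
  rw [show Subgroup.centralizer ({(1 : G)} : Set G) = ⊤ from
    eq_top_iff.2 fun g _ => Subgroup.mem_centralizer_singleton_iff.2 (by simp), Subgroup.index_top]

theorem norm_value_inv (χ : IrrCharacter G) (x : G) :
    ‖(χ : G → ℂ) x⁻¹‖ = ‖(χ : G → ℂ) x‖ ∧ ((χ : G → ℂ) x⁻¹).re = ((χ : G → ℂ) x).re := by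
  rw [char_inv (irr_isCharacter χ.2)]
  simp

theorem norm_value_one (χ : IrrCharacter G) :
    ‖(χ : G → ℂ) 1‖ = (charDegree (χ : G → ℂ) : ℝ) ∧
      ((χ : G → ℂ) 1).re = (charDegree (χ : G → ℂ) : ℝ) := by
  rw [← (charDegree_facts χ).1]
  simp

omit [Fintype G] in
theorem degree_options {d a M : ℕ} (hd : 2 ^ a ∣ d) (hdM : d ∣ 2 ^ a * M) :
    ∃ m, d = 2 ^ a * m ∧ m ∣ M := by
  obtain ⟨m, rfl⟩ := hd
  exact ⟨m, rfl, (Nat.mul_dvd_mul_iff_left (by positivity)).1 hdM⟩

theorem m24_no_defect_zero (χ : IrrCharacter ↥M24) :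
    ¬ 2 ^ (Nat.card ↥M24).factorization 2 ∣ charDegree (χ : ↥M24 → ℂ) := by
  classical
  have := Fintype.ofFinite ↥M24
  intro h
  have hc : Nat.card ↥M24 = 2 ^ 10 * 239085 := by rw [card_M24]; norm_num
  have hfac : (Nat.card ↥M24).factorization 2 = 10 := by
    rw [hc, Nat.factorization_mul (by norm_num) (by norm_num), Nat.Prime.factorization_pow
      Nat.prime_two, Finsupp.add_apply, Finsupp.single_eq_same,
      Nat.factorization_eq_zero_of_not_dvd (by norm_num)]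
  rw [hfac] at h
  obtain ⟨m, hm, hmdvd⟩ := degree_options h (hc ▸ (charDegree_facts χ).2)
  have e23 := elt24_twentyThree; have e11 := elt24_eleven
  have e5 := elt24_five; have e7 := elt24_seven
  have n23 := noinv24_twentyThree; have n7 := noinv24_seven
  rw [fixMasks_nil] at e23 e11 e5 e7 n23 n7
  obtain ⟨x23, v23, o23, f23, i23⟩ := oddElt_group e23
  obtain ⟨x11, -, o11, f11, i11⟩ := oddElt_group e11
  obtain ⟨x5, -, o5, f5, i5⟩ := oddElt_group e5
  obtain ⟨x7, v7, o7, f7, i7⟩ := oddElt_group e7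
  rw [card_M24] at i23 i11 i5 i7
  have j23 : (Subgroup.centralizer ({x23} : Set ↥M24)).index = 10644480 := by omega
  have j11 : (Subgroup.centralizer ({x11} : Set ↥M24)).index = 22256640 := by omega
  have j5 : (Subgroup.centralizer ({x5} : Set ↥M24)).index = 4080384 := by omega
  have j7 : (Subgroup.centralizer ({x7} : Set ↥M24)).index = 5829120 := by omega
  obtain ⟨a23, ha23, c23, -⟩ :=
    norm_sq_int (by norm_num : Nat.Prime 23) (by decide +kernel) o23 f23 χ
  obtain ⟨a11, ha11, c11, -⟩ :=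
    norm_sq_int (by norm_num : Nat.Prime 11) (by decide +kernel) o11 f11 χ
  obtain ⟨a5, ha5, c5, w5⟩ :=
    norm_sq_int (by norm_num : Nat.Prime 5) (by decide +kernel) o5 f5 χ
  obtain ⟨a7, ha7, c7, w7⟩ :=
    norm_sq_int (by norm_num : Nat.Prime 7) (by decide +kernel) o7 f7 χ
  rw [j5] at w5
  rw [j7] at w7
  let L : List (Finset ↥M24) := [cls 1, cls x23, cls x23⁻¹, cls x11, cls x5, cls x7, cls x7⁻¹]
  have d23 : Disjoint (cls x23) (cls x23⁻¹) := cls_disjoint_inv fun g e =>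
    n23 g g.2 (by simpa [v23] using congrArg Subtype.val e)
  have d7 : Disjoint (cls x7) (cls x7⁻¹) := cls_disjoint_inv fun g e =>
    n7 g g.2 (by simpa [v7] using congrArg Subtype.val e)
  have hL : L.Pairwise Disjoint := by
    simp only [L, List.pairwise_cons, List.mem_cons, List.not_mem_nil, or_false, forall_eq_or_imp,
      forall_eq, List.Pairwise.nil, and_true]
    refine ⟨⟨?_, ?_, ?_, ?_, ?_, ?_⟩, ⟨d23, ?_, ?_, ?_, ?_⟩, ⟨?_, ?_, ?_, ?_⟩, ⟨?_, ?_, ?_⟩,
      ⟨?_, ?_⟩, d7, fun _ h => h.elim⟩ <;>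
    exact cls_disjoint (by simp [o23, o11, o5, o7, orderOf_inv])
  have hle := sum_classes_le (f := fun g => ‖(χ : ↥M24 → ℂ) g‖ ^ 2) (fun g => sq_nonneg _) hL
  rw [CfsgLib.Block.sum_norm_sq_irr χ.2, card_M24] at hle
  simp only [L, List.map_cons, List.map_nil, List.sum_cons, List.sum_nil,
    sum_cls (irr_isClassFunction χ.2), centralizer_one_index, centralizer_inv_index,
    (norm_value_inv χ _).1, (norm_value_one χ).1, j23, j11, j5, j7, ha23, ha11, ha5, ha7, hm] at hle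
  have hle' : 1048576 * m ^ 2 + 21288960 * a23 + 22256640 * a11 + 4080384 * a5 + 11658240 * a7 ≤
      244823040 := by
    have h1 : ((1048576 * m ^ 2 + 21288960 * a23 + 22256640 * a11 + 4080384 * a5 +
        11658240 * a7 : ℕ) : ℝ) ≤ ((244823040 : ℕ) : ℝ) := by
      push_cast
      push_cast at hle
      linarith
    exact_mod_cast h1
  have h16 : 2 ^ 4 ∣ a5 :=
    two_part_dvd (m := m) (k := 8) (o := 15939) 4 (by decide) (by
      rw [← hm, show (2 : ℕ) ^ 8 * 15939 = 4080384 by norm_num]; exact w5) (by norm_num)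
  have h4 : 2 ^ 2 ∣ a7 :=
    two_part_dvd (m := m) (k := 9) (o := 11385) 2 (by decide) (by
      rw [← hm, show (2 : ℕ) ^ 9 * 11385 = 5829120 by norm_num]; exact w7) (by norm_num)
  rw [show (2 : ℕ) ^ 10 = 1024 by norm_num] at hm
  rw [hm] at c23 c11 c5 c7
  push_cast at c23 c11 c5 c7
  exact arith24 hmdvd hle' c23 c11 c5 c7 h16 h4

theorem m22_no_defect_zero (χ : IrrCharacter ↥Spor.M22) :
    ¬ 2 ^ (Nat.card ↥Spor.M22).factorization 2 ∣ charDegree (χ : ↥Spor.M22 → ℂ) := by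
  classical
  have := Fintype.ofFinite ↥Spor.M22
  intro h
  have hc : Nat.card ↥Spor.M22 = 2 ^ 7 * 3465 := by rw [card_sporM22]; norm_num
  have hfac : (Nat.card ↥Spor.M22).factorization 2 = 7 := by
    rw [hc, Nat.factorization_mul (by norm_num) (by norm_num), Nat.Prime.factorization_pow
      Nat.prime_two, Finsupp.add_apply, Finsupp.single_eq_same,
      Nat.factorization_eq_zero_of_not_dvd (by norm_num)]
  rw [hfac] at h
  obtain ⟨m, hm, hmdvd⟩ := degree_options h (hc ▸ (charDegree_facts χ).2)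
  have e5 := elt22_five; have e11 := elt22_eleven; have e7 := elt22_seven
  have n11 := noinv22_eleven; have n7 := noinv22_seven
  rw [← sporM22_eq] at e5 e11 e7 n11 n7
  obtain ⟨x5, -, o5, f5, i5⟩ := oddElt_group e5
  obtain ⟨x11, v11, o11, f11, i11⟩ := oddElt_group e11
  obtain ⟨x7, v7, o7, f7, i7⟩ := oddElt_group e7
  rw [card_sporM22] at i5 i11 i7
  have j5 : (Subgroup.centralizer ({x5} : Set ↥Spor.M22)).index = 88704 := by omega
  have j11 : (Subgroup.centralizer ({x11} : Set ↥Spor.M22)).index = 40320 := by omega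
  have j7 : (Subgroup.centralizer ({x7} : Set ↥Spor.M22)).index = 63360 := by omega
  have g5 : Nat.Prime 5 := by norm_num
  have g11 : Nat.Prime 11 := by norm_num
  have g7 : Nat.Prime 7 := by norm_num
  have p5 : genPM 5 2 = true := by decide +kernel
  have p11 : genPM 11 4 = true := by decide +kernel
  have p7 : genPM 7 2 = true := by decide +kernel
  obtain ⟨a5, ha5, c5, -⟩ := norm_sq_int g5 p5 o5 f5 χ
  obtain ⟨a11, ha11, c11, -⟩ := norm_sq_int g11 p11 o11 f11 χ
  obtain ⟨a7, ha7, c7, -⟩ := norm_sq_int g7 p7 o7 f7 χ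
  obtain ⟨u5, hu5, t5, b5⟩ := trace_int g5 p5 o5 f5 χ
  obtain ⟨u11, hu11, t11, b11⟩ := trace_int g11 p11 o11 f11 χ
  obtain ⟨u7, hu7, t7, b7⟩ := trace_int g7 p7 o7 f7 χ
  let L : List (Finset ↥Spor.M22) := [cls 1, cls x5, cls x11, cls x11⁻¹, cls x7, cls x7⁻¹]
  have d11 : Disjoint (cls x11) (cls x11⁻¹) := cls_disjoint_inv fun g e =>
    n11 g g.2 (by simpa [v11] using congrArg Subtype.val e)
  have d7 : Disjoint (cls x7) (cls x7⁻¹) := cls_disjoint_inv fun g e =>
    n7 g g.2 (by simpa [v7] using congrArg Subtype.val e)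
  have hL : L.Pairwise Disjoint := by
    simp only [L, List.pairwise_cons, List.mem_cons, List.not_mem_nil, or_false, forall_eq_or_imp,
      forall_eq, List.Pairwise.nil, and_true]
    refine ⟨⟨?_, ?_, ?_, ?_, ?_⟩, ⟨?_, ?_, ?_, ?_⟩, ⟨d11, ?_, ?_⟩, ⟨?_, ?_⟩, d7, fun _ h => h.elim⟩ <;>
    exact cls_disjoint (by simp [o5, o11, o7, orderOf_inv])
  have hle := sum_classes_le (f := fun g => ‖(χ : ↥Spor.M22 → ℂ) g‖ ^ 2) (fun g => sq_nonneg _) hL
  have heq := sum_foldr_union (fun g => ‖(χ : ↥Spor.M22 → ℂ) g‖ ^ 2) hL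
  rw [CfsgLib.Block.sum_norm_sq_irr χ.2, card_sporM22] at hle
  simp only [L, List.map_cons, List.map_nil, List.sum_cons, List.sum_nil,
    sum_cls (irr_isClassFunction χ.2), centralizer_one_index, centralizer_inv_index,
    (norm_value_inv χ _).1, (norm_value_one χ).1, j5, j11, j7, ha5, ha11, ha7, hm] at hle heq
  have hle' : 16384 * m ^ 2 + 88704 * a5 + 80640 * a11 + 126720 * a7 ≤ 443520 := by
    have h1 : ((16384 * m ^ 2 + 88704 * a5 + 80640 * a11 + 126720 * a7 : ℕ) : ℝ) ≤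
        ((443520 : ℕ) : ℝ) := by
      push_cast
      push_cast at hle
      linarith
    exact_mod_cast h1
  rw [show (2 : ℕ) ^ 7 = 128 by norm_num] at hm
  rw [hm] at c5 c11 c7 t5 t11 t7
  push_cast at c5 c11 c7 t5 t11 t7
  have hm3 : m = 3 ∧ a5 = 1 ∧ a11 = 1 ∧ a7 = 1 := arith22 hmdvd hle' c5 c11 c7
  obtain ⟨rfl, rfl, rfl, rfl⟩ := hm3
  rw [ha5] at b5
  rw [ha11] at b11
  rw [ha7] at b7
  have bound : ∀ u : ℤ, (u : ℝ) ^ 2 ≤ 4 * ((1 : ℕ) : ℝ) → -2 ≤ u ∧ u ≤ 2 := fun u hu => by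
    have : u ^ 2 ≤ 4 := by push_cast at hu; exact_mod_cast (by linarith : (u : ℝ) ^ 2 ≤ 4)
    constructor <;> nlinarith
  obtain ⟨l5, r5⟩ := bound u5 b5
  obtain ⟨l11, r11⟩ := bound u11 b11
  obtain ⟨l7, r7⟩ := bound u7 b7
  norm_num at t5 t11 t7
  have e5' : u5 = -2 := by omega
  have e11' : u11 = -2 := by omega
  have e7' : u7 = -2 := by omega
  -- nothing is left outside the six classes
  set U := L.foldr (· ∪ ·) ∅ with hU
  have hzero : ∀ g ∉ U, (χ : ↥Spor.M22 → ℂ) g = 0 := by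
    intro g hg
    have hsub : ‖(χ : ↥Spor.M22 → ℂ) g‖ ^ 2 +
        ∑ b ∈ U, ‖(χ : ↥Spor.M22 → ℂ) b‖ ^ 2 ≤ ∑ b, ‖(χ : ↥Spor.M22 → ℂ) b‖ ^ 2 := by
      rw [← Finset.sum_insert (f := fun b => ‖(χ : ↥Spor.M22 → ℂ) b‖ ^ 2) hg]
      exact Finset.sum_le_univ_sum_of_nonneg fun b => sq_nonneg _
    rw [CfsgLib.Block.sum_norm_sq_irr χ.2, card_sporM22, hU, heq] at hsub
    norm_num at hsub
    simpa using hsub
  have hne : (χ : ↥Spor.M22 → ℂ) ≠ fun _ => 1 := fun e => by
    have h1 := (charDegree_facts χ).1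
    rw [hm, e] at h1
    norm_num at h1
  have horth := irr_classInner_ne χ.2 CfsgLib.Char.isIrrCharacter_one hne
  rw [classInner_def] at horth
  simp only [map_one, mul_one, mul_eq_zero, inv_eq_zero, Nat.cast_eq_zero] at horth
  have hsum : ∑ g, (χ : ↥Spor.M22 → ℂ) g = 0 := horth.resolve_left Nat.card_pos.ne'
  rw [← Finset.sum_subset (Finset.subset_univ U) fun g _ hg => hzero g hg] at hsum
  have hre := congrArg Complex.re hsum
  rw [Complex.re_sum, Complex.zero_re, hU, sum_foldr_union _ hL] at hre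
  simp only [L, List.map_cons, List.map_nil, List.sum_cons, List.sum_nil,
    sum_cls_re (irr_isClassFunction χ.2), centralizer_one_index, centralizer_inv_index,
    (norm_value_inv χ _).2, (norm_value_one χ).2, j5, j11, j7, hm] at hre
  rw [e5'] at hu5
  rw [e11'] at hu11
  rw [e7'] at hu7
  push_cast at hu5 hu11 hu7 hre
  linarith

end CfsgLib.Mathieu
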