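import Cfsg.Agent.Lib.Mathieu.CommElts
import Cfsg.Agent.Lib.Mathieu.Action
import Cfsg.Agent.Lib.Mathieu.Reps
import Cfsg.Agent.Lib.Mathieu.OctInvolData
import Cfsg.Agent.Lib.Golay.ChainOctPts
import Cfsg.Agent.Lib.Golay.Orbits

/-! The centraliser of the standard involution fixing an octad, element by element. -/

set_option autoImplicit false
set_option maxRecDepth 100000

namespace CfsgLib.Mathieu

open Cfsg CfsgLib.Golay
open scoped Pointwise

/-- The standard involution fixing an octad. -/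
noncomputable def oiT : Equiv.Perm GolayPt := permOf tOct

/-- Equal images of all point numbers. -/
def sameW (u v : List ℕ) : Bool := (List.range 24).all fun i => Nat.beq (wImg u i) (wImg v i)

theorem sameW_iff {u v : List ℕ} (hu : ∀ g ∈ u, valid g = true) (hv : ∀ g ∈ v, valid g = true) :
    sameW u v = true ↔ (u.map permOf).prod = (v.map permOf).prod := by
  simp only [sameW, List.all_eq_true, List.mem_range, Nat.beq_eq]
  constructor
  · intro h
    refine Equiv.ext fun p => ?_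
    rw [← pt_idx p, (wImg_spec hu (idx_lt p)).1, (wImg_spec hv (idx_lt p)).1, h _ (idx_lt p)]
  · intro h i hi
    have h1 := wImg_spec hu hi
    have h2 := wImg_spec hv hi
    rw [h, h2.1] at h1
    have := congrArg idx h1.1
    rw [idx_pt h2.2, idx_pt h1.2] at this
    exact this.symm

/-- The centraliser in `M24`. -/
def oiC : Subgroup (Equiv.Perm GolayPt) := commFix [] [tOct]

theorem mem_oiC {σ : Equiv.Perm GolayPt} : σ ∈ oiC ↔ σ ∈ M24 ∧ σ * oiT = oiT * σ :=
  mem_commFix_one

/-- The elements of the centraliser keeping the seven pairs of parallel planes. -/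
def oiQ0 : Subgroup (Equiv.Perm GolayPt) where
  carrier := {σ | σ ∈ oiC ∧ ∀ l ∈ oiFams, σ • sextSet l = sextSet l}
  one_mem' := ⟨Subgroup.one_mem _, fun _ _ => one_smul _ _⟩
  mul_mem' := fun {a b} ha hb => ⟨Subgroup.mul_mem _ ha.1 hb.1, fun l hl => by
    rw [mul_smul, hb.2 l hl, ha.2 l hl]⟩
  inv_mem' := fun {a} ha => ⟨Subgroup.inv_mem _ ha.1, fun l hl => by
    rw [inv_smul_eq_iff, ha.2 l hl]⟩

/-- The complement. -/
def oiK0 : Subgroup (Equiv.Perm GolayPt) :=
  commFix [Nat.shiftLeft 1 oiP, Nat.shiftLeft 1 oiR] [tOct]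

theorem tOct_valid' : valid tOct = true := tOct_valid

theorem fam_ok : oiFams.all (fun l => l.all fun m => Nat.ble m 16777215) = true := by
  decide +kernel

theorem fam_lt {l : List ℕ} (hl : l ∈ oiFams) : ∀ m ∈ l, m < 16777216 := fun m hm => by
  have h := List.all_eq_true.1 fam_ok l hl
  exact Nat.lt_succ_of_le (Nat.le_of_ble_eq_true (List.all_eq_true.1 h m hm))

theorem oiQ_ok : oiQ.all (fun g => inM24 g && commB tOct g && oiFams.all fun l => keepsB g l) =
    true := by decide +kernel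

theorem oiQ_valid {g : ℕ} (hg : g ∈ oiQ) : valid g = true := by
  have h := List.all_eq_true.1 oiQ_ok g hg
  simp only [Bool.and_eq_true] at h
  exact inM24_valid h.1.1

theorem oiQ_mem {g : ℕ} (hg : g ∈ oiQ) : permOf g ∈ oiQ0 := by
  have h := List.all_eq_true.1 oiQ_ok g hg
  simp only [Bool.and_eq_true, List.all_eq_true] at h
  refine ⟨mem_oiC.2 ⟨inM24_mem h.1.1, commB_sound h.1.2⟩, fun l hl => ?_⟩
  exact (keeps_iff (oiQ_valid hg) (fam_lt hl)).2 (h.2 l hl)

theorem oiK_chain : cChainOK [Nat.shiftLeft 1 oiP, Nat.shiftLeft 1 oiR] [tOct] oiKLevels oiKFin =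
    true := by decide +kernel

theorem oiK_words : Nat.beq (cWords oiKLevels).length oiK.length &&
    ((cWords oiKLevels).zip oiK).all (fun p => sameW p.1 [p.2]) = true := by decide +kernel

theorem oiK_ok : oiK.all (fun g => inFix [Nat.shiftLeft 1 oiP, Nat.shiftLeft 1 oiR] g &&
    commB tOct g) = true := by decide +kernel

theorem oiK_valid {g : ℕ} (hg : g ∈ oiK) : valid g = true := by
  have h := List.all_eq_true.1 oiK_ok g hg
  simp only [Bool.and_eq_true] at h
  exact inFix_valid h.1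

theorem oiK_mem {g : ℕ} (hg : g ∈ oiK) : permOf g ∈ oiK0 := by
  have h := List.all_eq_true.1 oiK_ok g hg
  simp only [Bool.and_eq_true] at h
  refine mem_commFix.2 ⟨inFix_mem h.1, fun t ht => ?_⟩
  rw [List.mem_singleton.1 ht]; exact commB_sound h.2

theorem oiK0_exists {σ : Equiv.Perm GolayPt} (h : σ ∈ oiK0) : ∃ g ∈ oiK, σ = permOf g := by
  obtain ⟨w, hw, hwv, rfl⟩ := cChain_words oiK_chain σ h
  have hh := oiK_words
  simp only [Bool.and_eq_true, Nat.beq_eq, List.all_eq_true, decide_eq_true_eq] at hh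
  obtain ⟨i, hi, rfl⟩ := List.getElem_of_mem hw
  have hi' : i < oiK.length := hh.1 ▸ hi
  have := hh.2 ((cWords oiKLevels)[i]'hi, oiK[i]'hi')
    (List.mem_iff_getElem.2 ⟨i, by simp only [List.length_zip]; omega, by rw [List.getElem_zip]⟩)
  refine ⟨oiK[i]'hi', List.getElem_mem _, ?_⟩
  rw [(sameW_iff hwv (by simpa using oiK_valid (List.getElem_mem hi'))).1 this]
  simp

theorem oiK0_le : oiK0 ≤ oiC := fun _ h => mem_oiC.2
  ⟨(mem_commFix.1 h).1.1, (mem_commFix.1 h).2 tOct (List.mem_singleton_self _)⟩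

theorem oi_fix : fixS oiT = mset oiOct := fixS_permOf tOct_valid (by decide +kernel)

theorem fix_stable {σ : Equiv.Perm GolayPt} (h : σ * oiT = oiT * σ) (p : GolayPt) :
    σ p ∈ mset oiOct ↔ p ∈ mset oiOct := by
  have e := congrArg (fun f : Equiv.Perm GolayPt => f p) h
  simp only [Equiv.Perm.mul_apply] at e
  simp only [← oi_fix, fixS, Finset.mem_filter, Finset.mem_univ, true_and]
  rw [← e]
  exact σ.injective.eq_iff

theorem pair_trans : oiOct.testBit oiP && !oiOct.testBit oiR && Nat.blt oiP 24 && Nat.blt oiR 24 &&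
    (List.range 24).all (fun i => (List.range 24).all fun j => !oiOct.testBit i || oiOct.testBit j ||
      oiQ.any fun x => Nat.beq (img x oiP) i && Nat.beq (img x oiR) j) = true := by decide +kernel

/-- Every element of the centraliser is a product of listed elements. -/
theorem oi_decomp {σ : Equiv.Perm GolayPt} (h : σ ∈ oiC) :
    ∃ x ∈ oiQ, ∃ k ∈ oiK, σ = permOf x * permOf k := by
  obtain ⟨hM, hc⟩ := mem_oiC.1 h
  have hp := pair_trans
  simp only [Bool.and_eq_true, List.all_eq_true, Bool.or_eq_true, Bool.not_eq_true',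
    List.any_eq_true, Nat.beq_eq, List.mem_range, decide_eq_true_eq] at hp
  obtain ⟨⟨⟨⟨hP, hR⟩, hP'⟩, hR'⟩, hall⟩ := hp
  have hP24 : oiP < 24 := Nat.le_of_ble_eq_true hP'
  have hR24 : oiR < 24 := Nat.le_of_ble_eq_true hR'
  have h1 : σ (pt oiP) ∈ mset oiOct :=
    (fix_stable hc _).2 (mem_mset.2 (by rw [idx_pt hP24]; exact hP))
  have h2 : σ (pt oiR) ∉ mset oiOct := fun hh => by
    have := mem_mset.1 ((fix_stable hc _).1 hh)
    rw [idx_pt hR24, hR] at this
    exact Bool.noConfusion this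
  rcases hall _ (idx_lt (σ (pt oiP))) _ (idx_lt (σ (pt oiR))) with (e | e) | ⟨x, hx, e1, e2⟩
  · rw [mem_mset.1 h1] at e; exact Bool.noConfusion e
  · exact absurd (mem_mset.2 e) h2
  have hxv := oiQ_valid hx
  have hx' : permOf x ∈ oiC := (oiQ_mem hx).1
  have hk : (permOf x)⁻¹ * σ ∈ oiK0 := by
    obtain ⟨ha, hb⟩ := mem_oiC.1 (Subgroup.mul_mem _ (Subgroup.inv_mem _ hx') h)
    refine mem_commFix.2 ⟨⟨ha, fun A hA => ?_⟩, fun t ht => by
      rw [List.mem_singleton.1 ht]; exact hb⟩
    simp only [List.mem_cons, List.not_mem_nil, or_false] at hA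
    rcases hA with rfl | rfl
    · have := (smul_mset_bit ((permOf x)⁻¹ * σ) hP24 (q := pt oiP)).2 (by
        rw [Equiv.Perm.mul_apply, Equiv.Perm.inv_eq_iff_eq, permOf_pt hxv hP24, e1, pt_idx])
      rwa [idx_pt hP24] at this
    · have := (smul_mset_bit ((permOf x)⁻¹ * σ) hR24 (q := pt oiR)).2 (by
        rw [Equiv.Perm.mul_apply, Equiv.Perm.inv_eq_iff_eq, permOf_pt hxv hR24, e2, pt_idx])
      rwa [idx_pt hR24] at this
  obtain ⟨k, hk', e⟩ := oiK0_exists hk
  exact ⟨x, hx, k, hk', by rw [← e, mul_inv_cancel_left]⟩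

theorem oiK_faithful : oiK.all (fun k => sameW [k] [] || oiFams.any fun l => !keepsB k l) =
    true := by decide +kernel

theorem oiQ0_inf_K0 {σ : Equiv.Perm GolayPt} (hq : σ ∈ oiQ0) (hk : σ ∈ oiK0) : σ = 1 := by
  obtain ⟨k, hk', rfl⟩ := oiK0_exists hk
  have h := List.all_eq_true.1 oiK_faithful k hk'
  simp only [Bool.or_eq_true, List.any_eq_true, Bool.not_eq_true'] at h
  rcases h with h | ⟨l, hl, h⟩
  · simpa using (sameW_iff (by simpa using oiK_valid hk') (by simp)).1 h
  · rw [(keeps_iff (oiK_valid hk') (fam_lt hl)).1 (hq.2 l hl)] at h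
    exact Bool.noConfusion h

theorem oiQ0_exists {σ : Equiv.Perm GolayPt} (h : σ ∈ oiQ0) : ∃ x ∈ oiQ, σ = permOf x := by
  obtain ⟨x, hx, k, hk, rfl⟩ := oi_decomp h.1
  have : permOf k ∈ oiQ0 := by
    have := Subgroup.mul_mem _ (Subgroup.inv_mem _ (oiQ_mem hx)) h
    rwa [inv_mul_cancel_left] at this
  exact ⟨x, hx, by rw [oiQ0_inf_K0 this (oiK_mem hk), mul_one]⟩

/-- The two lists have the same members. -/
def oiSameB (r l : List ℕ) : Bool :=
  (r.all fun x => l.any fun y => Nat.beq x y) && (l.all fun x => r.any fun y => Nat.beq x y)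

theorem fams_permuted : oiK.all (fun k => oiFams.all fun l => oiFams.any fun l' =>
    oiSameB (l.map (mimg k)) l') = true := by decide +kernel

theorem smul_fam {σ : Equiv.Perm GolayPt} (hσ : σ ∈ oiC) {l : List ℕ} (hl : l ∈ oiFams) :
    ∃ l' ∈ oiFams, σ • sextSet l = sextSet l' := by
  obtain ⟨x, hx, k, hk, rfl⟩ := oi_decomp hσ
  have h := List.all_eq_true.1 fams_permuted k hk
  simp only [List.all_eq_true, List.any_eq_true] at h
  obtain ⟨l', hl', e⟩ := h l hl
  simp only [oiSameB, Bool.and_eq_true, List.all_eq_true, List.any_eq_true,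
    Nat.beq_eq, exists_eq_right'] at e
  refine ⟨l', hl', ?_⟩
  rw [mul_smul]
  have : permOf k • sextSet l = sextSet l' := by
    ext p
    simp only [Finset.mem_smul_finset, sextSet, List.mem_toFinset, List.mem_map]
    constructor
    · rintro ⟨_, ⟨m, hm, rfl⟩, rfl⟩
      exact ⟨_, e.1 _ (List.mem_map.2 ⟨m, hm, rfl⟩), (smul_mset (oiK_valid hk) m).symm⟩
    · rintro ⟨m', hm', rfl⟩
      obtain ⟨m, hm, rfl⟩ := List.mem_map.1 (e.2 m' hm')
      exact ⟨_, ⟨m, hm, rfl⟩, smul_mset (oiK_valid hk) m⟩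
  rw [this, (oiQ_mem hx).2 l' hl']

theorem oiQ0_normal {σ c : Equiv.Perm GolayPt} (h : σ ∈ oiQ0) (hc : c ∈ oiC) :
    c * σ * c⁻¹ ∈ oiQ0 := by
  refine ⟨Subgroup.mul_mem _ (Subgroup.mul_mem _ hc h.1) (Subgroup.inv_mem _ hc), fun l hl => ?_⟩
  obtain ⟨l', hl', e⟩ := smul_fam (Subgroup.inv_mem _ hc) hl
  rw [mul_smul, mul_smul, e, h.2 l' hl', ← e, smul_inv_smul]

theorem oiQ_comm : oiQ.all (fun x => oiQ.all fun y =>
    sameW [x, y] [y, x] || sameW [x, y] [tOct, y, x]) = true := by decide +kernel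

theorem oiQ_sq : oiQ.all (fun x => sameW [x, x] [] || sameW [x, x] [tOct]) &&
    oiQ.any (fun x => sameW [x, x] [tOct]) &&
    oiQ.any (fun x => oiQ.any fun y => sameW [x, y] [tOct, y, x]) &&
    !sameW [tOct] [] && oiQ.any (fun x => sameW [x] [tOct]) = true := by decide +kernel

theorem oiQ_centre : oiQ.all (fun x => sameW [x] [] || sameW [x] [tOct] ||
    oiQ.any fun y => !sameW [x, y] [y, x]) = true := by decide +kernel

theorem oiK_centre : oiK.all (fun k => sameW [k] [] ||
    oiQ.any fun y => !sameW [k, y] [y, k] && !sameW [k, y] [tOct, y, k]) = true := by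
  decide +kernel

theorem oiT_ne : oiT ≠ 1 := by
  intro h
  have hs := oiQ_sq
  simp only [Bool.and_eq_true, Bool.not_eq_true'] at hs
  have := (sameW_iff (u := [tOct]) (v := []) (by simpa using tOct_valid) (by simp)).2
    (by simpa [oiT] using h)
  rw [this] at hs
  exact Bool.noConfusion hs.1.2

theorem oiT_mem : oiT ∈ oiQ0 := by
  have hs := oiQ_sq
  simp only [Bool.and_eq_true, List.any_eq_true, decide_eq_true_eq] at hs
  obtain ⟨x, hx, e⟩ := hs.2
  rw [oiT]
  have := (sameW_iff (by simpa using oiQ_valid hx) (by simpa using tOct_valid)).1 e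
  simp only [List.map_cons, List.map_nil, List.prod_cons, List.prod_nil, mul_one] at this
  exact this ▸ oiQ_mem hx

theorem q_comm {a b : Equiv.Perm GolayPt} (ha : a ∈ oiQ0) (hb : b ∈ oiQ0) :
    a * b = b * a ∨ a * b = oiT * (b * a) := by
  obtain ⟨x, hx, rfl⟩ := oiQ0_exists ha
  obtain ⟨y, hy, rfl⟩ := oiQ0_exists hb
  have h := List.all_eq_true.1 (List.all_eq_true.1 oiQ_comm x hx) y hy
  simp only [Bool.or_eq_true] at h
  have vx := oiQ_valid hx; have vy := oiQ_valid hy
  rcases h with h | h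
  · exact Or.inl (by simpa using (sameW_iff (by simp [vx, vy]) (by simp [vx, vy])).1 h)
  · refine Or.inr ?_
    simpa [oiT] using (sameW_iff (by simp [vx, vy]) (by simp [vx, vy, tOct_valid])).1 h

theorem q_sq {a : Equiv.Perm GolayPt} (ha : a ∈ oiQ0) : a * a = 1 ∨ a * a = oiT := by
  obtain ⟨x, hx, rfl⟩ := oiQ0_exists ha
  have hs := oiQ_sq
  simp only [Bool.and_eq_true, List.all_eq_true, Bool.or_eq_true, decide_eq_true_eq] at hs
  rcases hs.1.1.1.1 x hx with h | h
  · exact Or.inl (by simpa using (sameW_iff (by simp [oiQ_valid hx]) (by simp)).1 h)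
  · exact Or.inr (by
      simpa [oiT] using (sameW_iff (by simp [oiQ_valid hx]) (by simp [tOct_valid])).1 h)

theorem q_witness : (∃ a ∈ oiQ0, a * a = oiT) ∧
    ∃ a ∈ oiQ0, ∃ b ∈ oiQ0, a * b = oiT * (b * a) := by
  have hs := oiQ_sq
  simp only [Bool.and_eq_true, List.any_eq_true, decide_eq_true_eq] at hs
  obtain ⟨x, hx, e⟩ := hs.1.1.1.2
  obtain ⟨a, ha, b, hb, e'⟩ := hs.1.1.2
  refine ⟨⟨_, oiQ_mem hx, ?_⟩, _, oiQ_mem ha, _, oiQ_mem hb, ?_⟩
  · simpa [oiT] using (sameW_iff (by simp [oiQ_valid hx]) (by simp [tOct_valid])).1 e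
  · simpa [oiT] using (sameW_iff (by simp [oiQ_valid ha, oiQ_valid hb])
      (by simp [oiQ_valid ha, oiQ_valid hb, tOct_valid])).1 e'

theorem central_one {σ : Equiv.Perm GolayPt} (h : σ ∈ oiC)
    (hc : ∀ a ∈ oiQ0, σ * a = a * σ) : σ = 1 ∨ σ = oiT := by
  obtain ⟨x, hx, k, hk, rfl⟩ := oi_decomp h
  have hk1 : permOf k = 1 := by
    have hh := List.all_eq_true.1 oiK_centre k hk
    simp only [Bool.or_eq_true, List.any_eq_true, Bool.and_eq_true, Bool.not_eq_true'] at hh
    rcases hh with e | ⟨y, hy, n1, n2⟩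
    · simpa using (sameW_iff (by simp [oiK_valid hk]) (by simp)).1 e
    exfalso
    have e := hc _ (oiQ_mem hy)
    have vk := oiK_valid hk; have vy := oiQ_valid hy
    have e' : permOf k * permOf y = (permOf x)⁻¹ * permOf y * permOf x * permOf k := by
      rw [mul_assoc ((permOf x)⁻¹ * permOf y), mul_assoc _ (permOf y), ← e]; group
    have ht : oiT * permOf x = permOf x * oiT := ((mem_oiC.1 (oiQ_mem hx).1).2).symm
    rcases q_comm (oiQ_mem hy) (oiQ_mem hx) with q | q
    · rw [mul_assoc _ (permOf y), q, inv_mul_cancel_left] at e'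
      rw [(sameW_iff (by simp [vk, vy]) (by simp [vk, vy])).2 (by simpa using e')] at n1
      exact Bool.noConfusion n1
    · rw [mul_assoc _ (permOf y), q, ← mul_assoc oiT, ht, ← mul_assoc ((permOf x)⁻¹),
        ← mul_assoc ((permOf x)⁻¹), inv_mul_cancel, one_mul, mul_assoc] at e'
      rw [(sameW_iff (by simp [vk, vy]) (by simp [vk, vy, tOct_valid])).2
        (by simpa [oiT] using e')] at n2
      exact Bool.noConfusion n2
  rw [hk1, mul_one] at hc ⊢
  have hh := List.all_eq_true.1 oiQ_centre x hx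
  simp only [Bool.or_eq_true, List.any_eq_true, Bool.not_eq_true'] at hh
  rcases hh with (e | e) | ⟨y, hy, n⟩
  · exact Or.inl (by simpa using (sameW_iff (by simp [oiQ_valid hx]) (by simp)).1 e)
  · exact Or.inr (by
      simpa [oiT] using (sameW_iff (by simp [oiQ_valid hx]) (by simp [tOct_valid])).1 e)
  · exfalso
    rw [(sameW_iff (by simp [oiQ_valid hx, oiQ_valid hy])
      (by simp [oiQ_valid hx, oiQ_valid hy])).2 (by simpa using hc _ (oiQ_mem hy))] at n
    exact Bool.noConfusion n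

end CfsgLib.Mathieu
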