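import Cfsg.Agent.Lib.Mathieu.OctInvolLinear
import Cfsg.Agent.Lib.Transfer.PPrimeAut
import Cfsg.Agent.Lib.Trans3.Large
import Cfsg.Agent.Lib.Amalgam.PCore
import Cfsg.Agent.Lib.Comp.Subnormal
import Cfsg.Prelude.Def_MonsterType
import Cfsg.Prelude.Def_Solvable

/-! The centraliser of any involution fixing an octad. -/

set_option autoImplicit false
set_option maxRecDepth 100000

namespace CfsgLib.Mathieu

open Cfsg CfsgLib.Golay
open scoped Pointwise commutatorElement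

/-- Elements commuting with `oiQ0` up to the centre form the data for `IsExtraspecial`. -/
theorem oi_extraspecial {Q : Type*} [Group Q] [Finite Q] (f : Q →* Equiv.Perm GolayPt)
    (hf : Function.Injective f) (hr : ∀ σ, σ ∈ oiQ0 ↔ ∃ q, f q = σ) :
    IsExtraspecial 2 Q := by
  haveI : Fact (Nat.Prime 2) := ⟨Nat.prime_two⟩
  have hmem : ∀ q, f q ∈ oiQ0 := fun q => (hr _).2 ⟨q, rfl⟩
  obtain ⟨z, hz⟩ := (hr oiT).1 oiT_mem
  have tt : oiT * oiT = 1 := (oiE0_props.2.1 _ oiE0_props.2.2.1).1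
  have hzc : ∀ q, q * z = z * q := fun q => hf (by
    rw [map_mul, map_mul, hz]; exact (mem_oiC.1 (hmem q).1).2)
  have hP : IsPGroup 2 Q := by
    intro q
    refine ⟨2, hf ?_⟩
    rw [map_pow, map_one, show (2 : ℕ) ^ 2 = 2 + 2 from rfl, pow_add, pow_two]
    rcases q_sq (hmem q) with h | h <;> rw [h] <;> first | simp | exact tt
  have hcen : ∀ q, q ∈ Subgroup.center Q ↔ q = 1 ∨ q = z := by
    intro q
    constructor
    · intro hq
      rcases central_one (hmem q).1 (fun a ha => by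
        obtain ⟨b, rfl⟩ := (hr a).1 ha
        rw [← map_mul, ← map_mul, (Subgroup.mem_center_iff.1 hq b)]) with h | h
      · exact Or.inl (hf (by rw [h, map_one]))
      · exact Or.inr (hf (by rw [h, hz]))
    · rintro (rfl | rfl)
      · exact Subgroup.one_mem _
      · exact Subgroup.mem_center_iff.2 hzc
  have hne : z ≠ 1 := fun h => oiT_ne (by rw [← hz, h, map_one])
  have hcard : Nat.card (Subgroup.center Q) = 2 := by
    classical
    have e : (Subgroup.center Q : Set Q) = {1, z} := by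
      ext q; simp [hcen]
    show Nat.card ↥(Subgroup.center Q : Set Q) = 2
    rw [e, Nat.card_coe_set_eq, Set.ncard_pair (Ne.symm hne)]
  have hcomm : ∀ x y : Q, ⁅x, y⁆ ∈ Subgroup.center Q := by
    intro x y
    rw [hcen, commutatorElement_def]
    rcases q_comm (hmem x) (hmem y) with h | h
    · left; apply hf
      rw [map_mul, map_mul, map_mul, map_inv, map_inv, map_one, h]; group
    · right; apply hf
      rw [map_mul, map_mul, map_mul, map_inv, map_inv, hz, h]; group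
  have hsqz : ∀ x : Q, x ^ 2 ∈ Subgroup.center Q := by
    intro x
    rw [hcen, pow_two]
    rcases q_sq (hmem x) with h | h
    · exact Or.inl (hf (by rw [map_mul, h, map_one]))
    · exact Or.inr (hf (by rw [map_mul, h, hz]))
  have hcom_eq : _root_.commutator Q = Subgroup.center Q := by
    refine le_antisymm (Subgroup.commutator_le.2 fun x _ y _ => hcomm x y) fun q hq => ?_
    rcases (hcen q).1 hq with rfl | rfl
    · exact Subgroup.one_mem _
    · obtain ⟨a, ha, b, hb, h⟩ := q_witness.2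
      obtain ⟨a', rfl⟩ := (hr a).1 ha
      obtain ⟨b', rfl⟩ := (hr b).1 hb
      have : q = ⁅a', b'⁆ := hf (by
        rw [commutatorElement_def, map_mul, map_mul, map_mul, map_inv, map_inv, hz, h]; group)
      rw [this]
      exact Subgroup.commutator_mem_commutator (Subgroup.mem_top _) (Subgroup.mem_top _)
  refine ⟨⟨hP, le_antisymm ?_ ?_, hcom_eq⟩, hcard⟩
  · exact CfsgLib.Transfer.frattini_le_of_elementary_quotient _ hcomm hsqz
  · rw [← hcom_eq]; exact CfsgLib.Transfer.commutator_le_frattini_pgroup hP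

theorem octad_involution_facts (z : ↥M24) (hz : orderOf z = 2)
    (hfix : (Finset.univ.filter fun p : GolayPt => (z : Equiv.Perm GolayPt) p = p) ∈ octads)
    (Q : Subgroup ↥M24)
    (hQ : Q = (pCore 2 ↥(Subgroup.centralizer ({z} : Set ↥M24))).map
      (Subgroup.centralizer ({z} : Set ↥M24)).subtype) :
    IsExtraspecial 2 ↥Q ∧ Nat.card ↥Q = 2 ^ 7 ∧
      (∃ E : Subgroup ↥M24, E ≤ Q ∧ IsElementaryAbelian 2 E ∧ Nat.card ↥E = 2 ^ 4) ∧
      IsLargeExtraspecial Q ∧
      ∃ K : Subgroup ↥M24, K ≤ Subgroup.centralizer ({z} : Set ↥M24) ∧ Q ⊓ K = ⊥ ∧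
        Q ⊔ K = Subgroup.centralizer ({z} : Set ↥M24) ∧
        Nonempty (↥K ≃* Matrix.SpecialLinearGroup (Fin 3) (ZMod 2)) := by
  haveI : Fact (Nat.Prime 2) := ⟨Nat.prime_two⟩
  rcases invol_cases z.2 (by rw [Subgroup.orderOf_coe]; exact hz) with
    ⟨c, hc, hzc, -⟩ | ⟨c, hc, -, hf0⟩
  swap
  · exfalso
    have := hfix.2
    rw [show (Finset.univ.filter fun p : GolayPt => (z : Equiv.Perm GolayPt) p = p) = ∅ from hf0]
      at this
    simp at this
  -- coordinates: conjugation by `c`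
  let φ : ↥M24 →* Equiv.Perm GolayPt :=
    (MulAut.conj c⁻¹).toMonoidHom.comp M24.subtype
  have hφ : ∀ x : ↥M24, φ x = c⁻¹ * x * c := fun x => by
    simp [φ, MulAut.conj_apply]
  have hφi : Function.Injective φ := fun a b h => by
    apply Subtype.ext
    rw [hφ, hφ] at h
    exact mul_left_cancel (mul_right_cancel h)
  have hφM : ∀ x, φ x ∈ M24 := fun x => by
    rw [hφ]; exact Subgroup.mul_mem _ (Subgroup.mul_mem _ (Subgroup.inv_mem _ hc) x.2) hc
  have hsurj : ∀ σ ∈ M24, ∃ x, φ x = σ := fun σ hσ =>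
    ⟨⟨c * σ * c⁻¹, Subgroup.mul_mem _ (Subgroup.mul_mem _ hc hσ) (Subgroup.inv_mem _ hc)⟩,
      by rw [hφ]; group⟩
  have hφz : φ z = oiT := by rw [hφ, hzc, oiT]; group
  set C := Subgroup.centralizer ({z} : Set ↥M24) with hC
  have hmemC : ∀ x, x ∈ C ↔ φ x ∈ oiC := by
    intro x
    rw [hC, Subgroup.mem_centralizer_singleton_iff, mem_oiC, ← hφz, ← map_mul, ← map_mul,
      hφi.eq_iff]
    exact ⟨fun h => ⟨hφM x, h⟩, fun h => h.2⟩
  have hQ0le : oiQ0.comap φ ≤ C := fun x hx => (hmemC x).2 hx.1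
  have hQeq : Q = oiQ0.comap φ := by
    rw [hQ]
    refine le_antisymm ?_ ?_
    · have hn : (pCore 2 ↥C).Normal := CfsgLib.Amalgam.normal_pCore
      let N : Subgroup (Equiv.Perm GolayPt) :=
        ((pCore 2 ↥C).map C.subtype).map φ
      have hN : N ≤ oiQ0 := by
        refine oi_core ?_ ?_ ?_ ?_
        · rintro _ ⟨_, ⟨y, -, rfl⟩, rfl⟩; exact (hmemC y.1).1 y.2
        · intro σ hσ
          obtain ⟨x, rfl⟩ := hsurj σ (mem_oiC.1 hσ.1).1
          refine ⟨x, ⟨⟨x, hQ0le hσ⟩, ?_, rfl⟩, rfl⟩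
          refine CfsgLib.Amalgam.le_pCore (N := (oiQ0.comap φ).subgroupOf C) ?_ ?_ hσ
          · refine ⟨fun a ha b => ?_⟩
            show φ (b.1 * a.1 * b.1⁻¹) ∈ oiQ0
            rw [map_mul, map_mul, map_inv]
            exact oiQ0_normal ha ((hmemC b.1).1 b.2)
          · have hp0 : IsPGroup 2 oiQ0 := IsPGroup.of_card (n := 7) oiQ0_card
            exact ((hp0.comap_of_injective φ hφi).to_le le_rfl).comap_of_injective C.subtype
              C.subtype_injective
        · rintro _ ⟨_, ⟨y, hy, rfl⟩, rfl⟩ d hd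
          obtain ⟨x, rfl⟩ := hsurj d (mem_oiC.1 hd).1
          refine ⟨x * y.1 * x⁻¹, ⟨⟨x, (hmemC x).2 hd⟩ * y * ⟨x, (hmemC x).2 hd⟩⁻¹,
            hn.conj_mem y hy _, rfl⟩, by rw [map_mul, map_mul, map_inv]; rfl⟩
        · exact ((CfsgLib.Comp.isPGroup_pCore 2 ↥C).map C.subtype).map φ
      intro x hx
      exact hN ⟨x, hx, rfl⟩
    · intro x hx
      refine ⟨⟨x, hQ0le hx⟩, ?_, rfl⟩
      refine CfsgLib.Amalgam.le_pCore (N := (oiQ0.comap φ).subgroupOf C) ?_ ?_ hx
      · refine ⟨fun a ha b => ?_⟩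
        show φ (b.1 * a.1 * b.1⁻¹) ∈ oiQ0
        rw [map_mul, map_mul, map_inv]
        exact oiQ0_normal ha ((hmemC b.1).1 b.2)
      · have hp0 : IsPGroup 2 oiQ0 := IsPGroup.of_card (n := 7) oiQ0_card
        exact ((hp0.comap_of_injective φ hφi).to_le le_rfl).comap_of_injective C.subtype
          C.subtype_injective
  subst hQeq
  have hES : IsExtraspecial 2 ↥(oiQ0.comap φ) := by
    refine oi_extraspecial (φ.comp (oiQ0.comap φ).subtype)
      (hφi.comp (Subgroup.subtype_injective _)) fun σ => ⟨fun h => ?_, ?_⟩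
    · obtain ⟨x, rfl⟩ := hsurj σ (mem_oiC.1 h.1).1
      exact ⟨⟨x, h⟩, rfl⟩
    · rintro ⟨q, rfl⟩; exact q.2
  have hcardmap : ∀ H : Subgroup (Equiv.Perm GolayPt), H ≤ M24 →
      Nat.card ↥(H.comap φ) = Nat.card H := fun H hH => by
    refine Nat.card_congr (Equiv.ofBijective (fun x => (⟨φ x.1, x.2⟩ : H)) ⟨?_, ?_⟩)
    · intro a b h; exact Subtype.ext (hφi (congrArg Subtype.val h))
    · rintro ⟨σ, hσ⟩
      obtain ⟨x, rfl⟩ := hsurj σ (hH hσ)
      exact ⟨⟨x, hσ⟩, rfl⟩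
  obtain ⟨hEQ, hEab, hTE, -, -⟩ := oiE0_props
  have hzQ : z ∈ oiQ0.comap φ := by rw [Subgroup.mem_comap, hφz]; exact oiT_mem
  have hcz : (Subgroup.center ↥(oiQ0.comap φ)).map (oiQ0.comap φ).subtype =
      Subgroup.zpowers z := by
    obtain ⟨w, hw, hwQ, hwc, hwz⟩ := CfsgLib.Trans3.exists_centre_gen hES
    rw [hwz]
    have hw1 : w = z := by
      rcases central_one (σ := φ w) ((hmemC w).1 (hQ0le hwQ)) (fun a ha => by
        obtain ⟨x, rfl⟩ := hsurj a (mem_oiC.1 ha.1).1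
        rw [← map_mul, ← map_mul, hwc x ha]) with h | h
      · exfalso
        have : w = 1 := hφi (by rw [h, map_one])
        rw [this, orderOf_one] at hw; omega
      · exact hφi (by rw [h, hφz])
    rw [hw1]
  refine ⟨hES, (hcardmap oiQ0 fun σ (hσ : σ ∈ oiQ0) => (mem_oiC.1 hσ.1).1).trans oiQ0_card,
    ⟨oiE0.comap φ, fun x hx => hEQ hx, ⟨⟨⟨fun a b => Subtype.ext (hφi ?_)⟩⟩, fun a ha => hφi ?_⟩,
      (hcardmap oiE0 fun σ (hσ : σ ∈ oiE0) => (mem_oiE0.1 hσ).1).trans oiE0_card⟩,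
    ⟨hES, ?_, ?_, ?_⟩,
    ⟨oiK0.comap φ, fun x hx => (hmemC x).2 (oiK0_le hx), ?_, ?_, ?_⟩⟩
  · simp only [Subgroup.coe_mul, map_mul]; exact (hEab _ a.2).2 _ b.2
  · rw [map_pow, map_one, pow_two]; exact (hEab _ ha).1
  · rw [hcz]
    refine le_antisymm (fun x hx => ?_) ?_
    · have hxz : x * z = z * x := (hx z hzQ).symm
      have hxC : φ x ∈ oiC := by
        rw [← hmemC, hC, Subgroup.mem_centralizer_singleton_iff]; exact hxz
      rcases central_one hxC (fun a ha => by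
        obtain ⟨y, rfl⟩ := hsurj a (mem_oiC.1 ha.1).1
        rw [← map_mul, ← map_mul, (hx y ha)]) with h | h
      · rw [show x = 1 from hφi (by rw [h, map_one])]; exact Subgroup.one_mem _
      · rw [show x = z from hφi (by rw [h, hφz])]; exact Subgroup.mem_zpowers z
    · rw [Subgroup.zpowers_le]
      intro q hq
      have := Subgroup.mem_centralizer_singleton_iff.1 (hQ0le hq)
      exact this
  · rw [hcz, CfsgLib.Trans3.centralizer_zpowers]
    intro x hx q
    show φ q ∈ oiQ0 ↔ φ (x * q * x⁻¹) ∈ oiQ0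
    rw [map_mul, map_mul, map_inv]
    constructor
    · exact fun h => oiQ0_normal h ((hmemC x).1 hx)
    · intro h
      have := oiQ0_normal h (Subgroup.inv_mem _ ((hmemC x).1 hx))
      rwa [show (φ x)⁻¹ * (φ x * φ q * (φ x)⁻¹) * (φ x)⁻¹⁻¹ = φ q by group] at this
  · intro K hK hn
    have hb := oi_no_odd (W := K.map φ) (by rintro _ ⟨x, -, rfl⟩; exact hφM x)
      (by rw [← Nat.card_congr (Subgroup.equivMapOfInjective K φ hφi).toEquiv]; exact hK)
      (by
        rintro q hq _ ⟨w, hw, rfl⟩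
        obtain ⟨y, rfl⟩ := hsurj q (mem_oiC.1 hq.1).1
        exact ⟨y * w * y⁻¹, ((hn hq) w).1 hw, by rw [map_mul, map_mul, map_inv]⟩)
    exact (Subgroup.map_eq_bot_iff_of_injective K hφi).1 hb
  · rw [Subgroup.eq_bot_iff_forall]
    rintro x ⟨hq, hk⟩
    exact hφi (by rw [oiQ0_inf_K0 hq hk, map_one])
  · refine le_antisymm (sup_le hQ0le fun x hx => (hmemC x).2 (oiK0_le hx)) fun x hx => ?_
    obtain ⟨a, ha, k, hk, e⟩ := oi_decomp ((hmemC x).1 hx)
    obtain ⟨y, hy⟩ := hsurj _ (mem_oiC.1 (oiQ_mem ha).1).1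
    rw [show x = y * (y⁻¹ * x) by group]
    refine Subgroup.mul_mem_sup ?_ ?_
    · rw [Subgroup.mem_comap, hy]; exact oiQ_mem ha
    · rw [Subgroup.mem_comap, map_mul, map_inv, hy, e, inv_mul_cancel_left]; exact oiK_mem hk
  · refine ⟨(MulEquiv.ofBijective
      (MonoidHom.mk' (fun x : ↥(oiK0.comap φ) => (⟨φ x.1, x.2⟩ : oiK0))
        fun a b => Subtype.ext (map_mul φ a.1 b.1)) ⟨?_, ?_⟩).trans
        (MulEquiv.ofBijective oiHom oiHom_bij)⟩
    · intro a b h; exact Subtype.ext (hφi (congrArg Subtype.val h))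
    · rintro ⟨σ, hσ⟩
      obtain ⟨x, rfl⟩ := hsurj σ (mem_oiC.1 (oiK0_le hσ)).1
      exact ⟨⟨x, hσ⟩, rfl⟩

end CfsgLib.Mathieu
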