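import Cfsg.Agent.Lib.Mathieu.OctInvolMore
import Mathlib.LinearAlgebra.Matrix.Determinant.Basic

/-! The complement in the octad-involution centraliser is `SL(3,2)`. -/

set_option autoImplicit false
set_option maxRecDepth 100000

namespace CfsgLib.Mathieu

open Cfsg CfsgLib.Golay
open scoped Pointwise Matrix

/-- Coordinates of a point number of the octad. -/
def oiCoord (i : ℕ) : ℕ := oiPts.idxOf i

/-- Coordinate vector. -/
def oiVec (v : ℕ) : Fin 3 → ZMod 2 := fun i => if v.testBit i.val then 1 else 0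

/-- The matrix of a function on point numbers. -/
def oiMat (f : ℕ → ℕ) : Matrix (Fin 3) (Fin 3) (ZMod 2) :=
  Matrix.of fun i j => oiVec (oiCoord (f (oiPts.getD (2 ^ j.val) 0))) i

theorem oiLin : oiPts.all (fun i => Nat.blt i 24) && oiK.all (fun k =>
    (List.range 8).all (fun v => Nat.blt (oiCoord (img k (oiPts.getD v 0))) 8 &&
      decide (oiMat (img k) *ᵥ oiVec v = oiVec (oiCoord (img k (oiPts.getD v 0))))) &&
    decide ((oiMat (img k)).det = 1) &&
    (sameW [k] [] || !decide (oiMat (img k) = 1))) = true := by decide +kernel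

theorem sl_card : (Finset.univ.filter fun M : Matrix (Fin 3) (Fin 3) (ZMod 2) => M.det = 1).card =
    168 := by decide +kernel

theorem oiPts_getD {v : ℕ} (hv : v < 8) : oiPts.getD v 0 < 24 := by
  revert v; decide +kernel

theorem oiPts_coord {v : ℕ} (hv : v < 8) : oiCoord (oiPts.getD v 0) = v := by
  revert v; decide +kernel

theorem oiVec_single (j : Fin 3) : oiVec (2 ^ j.val) = Pi.single j 1 := by
  revert j; decide +kernel

/-- The matrix of a permutation of the points. -/
noncomputable def oiMatP (σ : Equiv.Perm GolayPt) : Matrix (Fin 3) (Fin 3) (ZMod 2) :=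
  oiMat fun i => idx (σ (pt i))

theorem oiMatP_eq {k : ℕ} (hk : k ∈ oiK) : oiMatP (permOf k) = oiMat (img k) := by
  ext i j
  have h : oiPts.getD (2 ^ j.val) 0 < 24 :=
    oiPts_getD (by fin_cases j <;> norm_num)
  simp only [oiMatP, oiMat, Matrix.of_apply]
  rw [permOf_pt (oiK_valid hk) h, idx_pt (valid_lt (oiK_valid hk) h)]

theorem oiMatP_spec {k : ℕ} (hk : k ∈ oiK) :
    (∀ v < 8, oiCoord (idx (permOf k (pt (oiPts.getD v 0)))) < 8 ∧
      oiPts.getD (oiCoord (idx (permOf k (pt (oiPts.getD v 0))))) 0 =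
        idx (permOf k (pt (oiPts.getD v 0))) ∧
      oiMatP (permOf k) *ᵥ oiVec v = oiVec (oiCoord (idx (permOf k (pt (oiPts.getD v 0)))))) ∧
    (oiMatP (permOf k)).det = 1 ∧ (oiMatP (permOf k) = 1 → permOf k = 1) := by
  have h := oiLin
  simp only [Bool.and_eq_true, List.all_eq_true, decide_eq_true_eq, Bool.or_eq_true,
    Bool.not_eq_true', decide_eq_false_iff_not, List.mem_range] at h
  obtain ⟨-, h⟩ := h
  obtain ⟨⟨h1, h2⟩, h3⟩ := h k hk
  rw [oiMatP_eq hk]
  refine ⟨fun v hv => ?_, h2, fun e => ?_⟩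
  · obtain ⟨a, b⟩ := h1 v hv
    have hlt := oiPts_getD hv
    rw [permOf_pt (oiK_valid hk) hlt, idx_pt (valid_lt (oiK_valid hk) hlt)]
    have a' := Nat.le_of_ble_eq_true a
    refine ⟨a', ?_, b⟩
    have : oiPts.idxOf (img k (oiPts.getD v 0)) < oiPts.length := by
      rw [show oiPts.length = 8 by decide +kernel]; exact a'
    rw [oiCoord, List.getD_eq_getElem _ _ this, List.getElem_idxOf this]
  · rcases h3 with h3 | h3
    · simpa using (sameW_iff (by simp [oiK_valid hk]) (by simp)).1 h3
    · exact absurd e h3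

/-- The homomorphism to `SL(3,2)`. -/
noncomputable def oiHom : oiK0 →* Matrix.SpecialLinearGroup (Fin 3) (ZMod 2) :=
  MonoidHom.mk' (fun s => ⟨oiMatP s.1, by
      obtain ⟨k, hk, e⟩ := oiK0_exists s.2
      rw [e]; exact (oiMatP_spec hk).2.1⟩) fun s u => by
    refine Subtype.ext ?_
    show oiMatP (s.1 * u.1) = oiMatP s.1 * oiMatP u.1
    obtain ⟨a, ha, ea⟩ := oiK0_exists s.2
    obtain ⟨b, hb, eb⟩ := oiK0_exists u.2
    rw [ea, eb]
    ext i j
    have hj : 2 ^ j.val < 8 := by fin_cases j <;> norm_num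
    obtain ⟨b1, b2, b3⟩ := (oiMatP_spec hb).1 _ hj
    obtain ⟨a1, -, a3⟩ := (oiMatP_spec ha).1 _ b1
    rw [b2, pt_idx] at a3
    rw [← b3, Matrix.mulVec_mulVec, oiVec_single] at a3
    have := congrFun a3 i
    rw [Matrix.mulVec_single_one] at this
    show oiVec (oiCoord (idx ((permOf a * permOf b) (pt (oiPts.getD (2 ^ j.val) 0))))) i = _
    rw [Equiv.Perm.mul_apply]
    exact this.symm

theorem oiHom_bij : Function.Bijective oiHom := by
  classical
  have hinj : Function.Injective oiHom := by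
    rw [injective_iff_map_eq_one]
    intro s hs
    obtain ⟨k, hk, e⟩ := oiK0_exists s.2
    have h := congrArg Subtype.val hs
    change oiMatP s.1 = 1 at h
    rw [e] at h
    exact Subtype.ext (e.trans ((oiMatP_spec hk).2.2 h))
  haveI : Fintype oiK0 := Fintype.ofFinite _
  rw [Fintype.bijective_iff_injective_and_card]
  refine ⟨hinj, ?_⟩
  rw [← Nat.card_eq_fintype_card, oiK0_card]
  exact (show Fintype.card {M : Matrix (Fin 3) (Fin 3) (ZMod 2) // M.det = 1} = 168 by
    rw [Fintype.card_subtype]; exact sl_card).symm.trans (by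
      rw [← Nat.card_eq_fintype_card, ← Nat.card_eq_fintype_card]; rfl)

end CfsgLib.Mathieu
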