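import Cfsg.Agent.Lib.Mathieu.Action
import Cfsg.Agent.Lib.Mathieu.OctadGraph

/-! Orbits of the stabiliser of a family of point sets on families of point sets, from word
certificates and intersection invariants. -/

set_option autoImplicit false
set_option maxRecDepth 100000

namespace CfsgLib.Mathieu

open Cfsg CfsgLib.Golay
open scoped Pointwise

/-- The point set family of two families: histogram of the intersection sizes. -/
def famInv (F X : Finset (Finset GolayPt)) : ℕ := ∑ t ∈ X, ∑ u ∈ F, 100 ^ (t ∩ u).card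

/-- `famInv` on masks. -/
def famInvB (FL l : List ℕ) : ℕ :=
  (l.map fun t => (FL.map fun u => 100 ^ pop (Nat.land t u)).sum).sum

theorem famInv_smul (σ : Equiv.Perm GolayPt) (F X : Finset (Finset GolayPt)) :
    famInv (σ • F) (σ • X) = famInv F X := by
  rw [famInv, famInv, Finset.smul_finset_def, Finset.smul_finset_def,
    Finset.sum_image (MulAction.injective σ).injOn]
  refine Finset.sum_congr rfl fun t _ => ?_
  rw [Finset.sum_image (MulAction.injective σ).injOn]
  refine Finset.sum_congr rfl fun u _ => ?_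
  rw [← Finset.smul_finset_inter, Finset.card_smul_finset]

/-- A list of distinct masks of the 24 points. -/
def okFam (l : List ℕ) : Bool := l.all (fun m => Nat.ble m 16777215) && decide l.Nodup

theorem okFam_spec {l : List ℕ} (h : okFam l = true) :
    (∀ m ∈ l, m < 16777216) ∧ (l.map mset).Nodup := by
  simp only [okFam, Bool.and_eq_true, List.all_eq_true, Nat.ble_eq, decide_eq_true_eq] at h
  have hb : ∀ m ∈ l, m < 16777216 := fun m hm => Nat.lt_succ_of_le (h.1 m hm)
  exact ⟨hb, h.2.map_on fun a ha b hb' e => mset_inj (hb a ha) (hb b hb') e⟩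

theorem famInv_sextSet {FL l : List ℕ} (hF : okFam FL = true) (hl : okFam l = true) :
    famInv (sextSet FL) (sextSet l) = famInvB FL l := by
  rw [famInv, sextSet, sextSet, List.sum_toFinset _ (okFam_spec hl).2, famInvB, List.map_map]
  congr 1
  refine List.map_congr_left fun t _ => ?_
  simp only [Function.comp]
  rw [List.sum_toFinset _ (okFam_spec hF).2, List.map_map]
  congr 1
  refine List.map_congr_left fun u _ => ?_
  rw [Function.comp_apply, inter_card_mset]

/-- Apply a coded word in `G` to a family. -/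
def applyW (G : List ℕ) : ℕ → ℕ → List ℕ → List ℕ
  | 0, _, l => l
  | f + 1, c, l => bif Nat.beq c 0 then l else
      applyW G f (Nat.div c 32) ((G[Nat.mod c 32 - 1]?).elim l fun g => l.map (mimg g))

/-- The elements of `G` encode elements of `M24` keeping the family `FL`. -/
def gensKeep (FL G : List ℕ) : Bool := G.all fun g => inM24 g && keepsB g FL

theorem sextSet_map {g : ℕ} (hg : valid g = true) (l : List ℕ) :
    sextSet (l.map (mimg g)) = permOf g • sextSet l := by
  ext x
  simp only [sextSet, List.mem_toFinset, Finset.mem_smul_finset, List.mem_map]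
  constructor
  · rintro ⟨_, ⟨m, hm, rfl⟩, rfl⟩
    exact ⟨mset m, ⟨m, hm, rfl⟩, smul_mset hg m⟩
  · rintro ⟨_, ⟨m, hm, rfl⟩, rfl⟩
    exact ⟨_, ⟨m, hm, rfl⟩, (smul_mset hg m).symm⟩

theorem applyW_spec {FL G : List ℕ} (hb : ∀ m ∈ FL, m < 16777216)
    (hG : gensKeep FL G = true) : ∀ (f c : ℕ) (l : List ℕ),
    ∃ g ∈ MulAction.stabilizer M24 (sextSet FL), g • sextSet l = sextSet (applyW G f c l)
  | 0, _, l => ⟨1, Subgroup.one_mem _, one_smul _ _⟩
  | f + 1, c, l => by
    rw [applyW]
    cases Nat.beq c 0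
    · simp only [cond_false]
      obtain ⟨h, hh, e⟩ := applyW_spec hb hG f (Nat.div c 32)
        ((G[Nat.mod c 32 - 1]?).elim l fun g => l.map (mimg g))
      rcases hi : G[Nat.mod c 32 - 1]? with _ | g
      · rw [hi] at e; exact ⟨h, hh, e⟩
      · rw [hi] at e
        simp only [Option.elim_some] at e ⊢
        have hm := List.mem_of_getElem? hi
        simp only [gensKeep, List.all_eq_true, Bool.and_eq_true] at hG
        obtain ⟨h1, h2⟩ := hG g hm
        have hv := inM24_valid h1
        refine ⟨h * ⟨permOf g, inM24_mem h1⟩, Subgroup.mul_mem _ hh ?_, ?_⟩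
        · exact MulAction.mem_stabilizer_iff.2 ((keeps_iff hv hb).2 h2)
        · rw [mul_smul, ← e]
          congr 1
          exact (sextSet_map hv l).symm
    · exact ⟨1, Subgroup.one_mem _, one_smul _ _⟩

/-- The lists have the same members. -/
def sameB (r l : List ℕ) : Bool :=
  (r.all fun x => l.any fun y => Nat.beq x y) && (l.all fun x => r.any fun y => Nat.beq x y)

theorem sameB_spec {r l : List ℕ} (h : sameB r l = true) : sextSet r = sextSet l := by
  simp only [sameB, Bool.and_eq_true, List.all_eq_true, List.any_eq_true, Nat.beq_eq] at h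
  have : ∀ x, x ∈ r ↔ x ∈ l := fun x =>
    ⟨fun hx => by obtain ⟨y, hy, rfl⟩ := h.1 x hx; exact hy,
     fun hx => by obtain ⟨y, hy, rfl⟩ := h.2 x hx; exact hy⟩
  ext x
  simp [sextSet, this]

/-- Each family of `L` is the image of one of the representatives under a coded word. -/
def covB (G : List ℕ) (reps : List (List ℕ)) : List (List ℕ) → List ℕ → Bool
  | [], _ => true
  | _ :: _, [] => false
  | l :: L, c :: C => Nat.blt (Nat.mod c 8) reps.length &&
      sameB (applyW G 12 (Nat.div c 8) (reps.getD (Nat.mod c 8) [])) l && covB G reps L C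

theorem covB_spec {FL G : List ℕ} (hb : ∀ m ∈ FL, m < 16777216) (hG : gensKeep FL G = true)
    {reps : List (List ℕ)} : ∀ {L : List (List ℕ)} {C : List ℕ}, covB G reps L C = true →
    ∀ l ∈ L, ∃ k < reps.length, ∃ g ∈ MulAction.stabilizer M24 (sextSet FL),
      g • sextSet (reps.getD k []) = sextSet l
  | [], _, _, l, hl => absurd hl List.not_mem_nil
  | _ :: _, [], h, _, _ => by simp [covB] at h
  | a :: L, c :: C, h, l, hl => by
    simp only [covB, Bool.and_eq_true] at h
    obtain ⟨⟨h1, h2⟩, h3⟩ := h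
    rcases List.mem_cons.1 hl with rfl | hl
    · obtain ⟨g, hg, e⟩ := applyW_spec hb hG 12 (Nat.div c 8) (reps.getD (Nat.mod c 8) [])
      exact ⟨_, Nat.le_of_ble_eq_true h1, g, hg, e.trans (sameB_spec h2)⟩
    · exact covB_spec hb hG h3 l hl

/-- A class of families, listed by masks and preserved by `M24`. -/
structure Listing (A : Set (Finset (Finset GolayPt))) (L : List (List ℕ)) : Prop where
  smul : ∀ g : M24, ∀ X ∈ A, g • X ∈ A
  mem : ∀ l ∈ L, sextSet l ∈ A
  ex : ∀ X ∈ A, ∃ l ∈ L, sextSet l = X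
  count : ∀ (P : Finset (Finset GolayPt) → Prop) (pb : List ℕ → Bool),
    (∀ l ∈ L, (P (sextSet l) ↔ pb l = true)) →
      {X | X ∈ A ∧ P X}.ncard = (L.filter pb).length

/-- The certificate: fixed family, generators, representatives, words, and class sizes. -/
def orbCertB (L : List (List ℕ)) (FL G : List ℕ) (reps : List (List ℕ)) (C sizes : List ℕ) :
    Bool :=
  okFam FL && gensKeep FL G && L.all okFam && covB G reps L C &&
  decide (reps.map (famInvB FL)).Nodup && reps.all (fun r => okFam r && L.any (sameB r)) &&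
  decide (reps.map (fun r => (L.filter fun l => Nat.beq (famInvB FL l) (famInvB FL r)).length) =
    sizes)

theorem orbit_facts {A : Set (Finset (Finset GolayPt))} {L : List (List ℕ)} (hA : Listing A L)
    {FL G : List ℕ} {reps : List (List ℕ)} {C sizes : List ℕ}
    (h : orbCertB L FL G reps C sizes = true) :
    (∀ i < reps.length, sextSet (reps.getD i []) ∈ A ∧
      (MulAction.orbit ↥(MulAction.stabilizer M24 (sextSet FL))
        (sextSet (reps.getD i []))).ncard = sizes.getD i 0) ∧
    A = {X | ∃ i < reps.length,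
      X ∈ MulAction.orbit ↥(MulAction.stabilizer M24 (sextSet FL))
        (sextSet (reps.getD i []))} := by
  simp only [orbCertB, Bool.and_eq_true, List.all_eq_true, List.any_eq_true,
    decide_eq_true_eq] at h
  obtain ⟨⟨⟨⟨⟨⟨hF, hG⟩, hL⟩, hC⟩, hD⟩, hR⟩, hS⟩ := h
  have hb := (okFam_spec hF).1
  set H := MulAction.stabilizer M24 (sextSet FL)
  have hinv : ∀ g ∈ H, ∀ X, famInv (sextSet FL) (g • X) = famInv (sextSet FL) X := by
    intro g hg X
    conv_rhs => rw [← famInv_smul (g : Equiv.Perm GolayPt)]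
    rw [show (g : Equiv.Perm GolayPt) • sextSet FL = sextSet FL from
      MulAction.mem_stabilizer_iff.1 hg]
    rfl
  have hmemA : ∀ i < reps.length, sextSet (reps.getD i []) ∈ A := fun i hi => by
    have hr := hR _ (show reps.getD i [] ∈ reps by
      rw [List.getD_eq_getElem _ _ hi]; exact List.getElem_mem _)
    obtain ⟨l, hl, e⟩ := hr.2
    rw [sameB_spec e]; exact hA.mem l hl
  have hcov : ∀ X ∈ A, ∃ i < reps.length,
      X ∈ MulAction.orbit ↥H (sextSet (reps.getD i [])) := by
    intro X hX
    obtain ⟨l, hl, rfl⟩ := hA.ex X hX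
    obtain ⟨k, hk, g, hg, e⟩ := covB_spec hb hG hC l hl
    exact ⟨k, hk, ⟨g, hg⟩, e⟩
  refine ⟨fun i hi => ⟨hmemA i hi, ?_⟩, ?_⟩
  · have hri : reps.getD i [] ∈ reps := by
      rw [List.getD_eq_getElem _ _ hi]; exact List.getElem_mem _
    have horb : MulAction.orbit ↥H (sextSet (reps.getD i [])) =
        {X | X ∈ A ∧ famInv (sextSet FL) X = famInvB FL (reps.getD i [])} := by
      ext X
      constructor
      · rintro ⟨⟨g, hg⟩, rfl⟩
        exact ⟨hA.smul g _ (hmemA i hi),
          (hinv g hg _).trans (famInv_sextSet hF (hR _ hri).1)⟩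
      · rintro ⟨hX, hv⟩
        obtain ⟨j, hj, ho⟩ := hcov X hX
        obtain ⟨⟨g, hg⟩, e⟩ := ho
        have hrj : reps.getD j [] ∈ reps := by
          rw [List.getD_eq_getElem _ _ hj]; exact List.getElem_mem _
        have e' : famInvB FL (reps.getD j []) = famInvB FL (reps.getD i []) := by
          rw [← hv, ← e, ← famInv_sextSet hF (hR _ hrj).1]
          exact (hinv g hg _).symm
        rw [List.getD_eq_getElem _ _ hj, List.getD_eq_getElem _ _ hi] at e'
        have hij : j = i :=
          (hD.getElem_inj_iff (hi := by simpa using hj) (hj := by simpa using hi)).1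
            (by simpa using e')
        subst hij
        exact ⟨⟨g, hg⟩, e⟩
    rw [horb, hA.count _ (fun l => Nat.beq (famInvB FL l) (famInvB FL (reps.getD i [])))
      fun l hl => by rw [famInv_sextSet hF (hL l hl), Nat.beq_eq], ← hS,
      List.getD_eq_getElem (l := reps.map _) _ (by simpa using hi),
      List.getElem_map, List.getD_eq_getElem _ _ hi]
  · ext X
    refine ⟨hcov X, ?_⟩
    rintro ⟨i, hi, ⟨g, hg⟩, rfl⟩
    exact hA.smul g _ (hmemA i hi)

theorem sextets_listing : Listing sextets sextList where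
  smul g _ hX := smul_sextet g.2 hX
  mem _ hl := (sextSet_mem hl).1
  ex _ hX := sextet_exists hX
  count _ _ h := sextets_ncard_filter h

theorem trios_listing : Listing trios (trioLit.map trioList) where
  smul g _ hX := smul_trio g.2 hX
  mem l hl := by
    obtain ⟨p, hp, rfl⟩ := List.mem_map.1 hl
    rw [trioList, ← trioSet_eq]; exact trioSet_mem (trioPairs_lit.symm ▸ hp)
  ex X hX := by
    obtain ⟨p, hp, rfl⟩ := trio_exists hX
    exact ⟨_, List.mem_map.2 ⟨p, trioPairs_lit ▸ hp, rfl⟩, (trioSet_eq p).symm⟩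
  count P pb h := by
    rw [List.filter_map, List.length_map, ← trioPairs_lit]
    refine trios_ncard_filter fun p hp => ?_
    rw [trioSet_eq]
    exact h _ (List.mem_map.2 ⟨p, trioPairs_lit ▸ hp, rfl⟩)

theorem octads_listing :
    Listing ((fun o : Finset GolayPt => ({o} : Finset (Finset GolayPt))) '' octads)
      (octLit.map fun m => [m]) where
  smul g := by
    rintro _ ⟨o, ho, rfl⟩
    exact ⟨_, M24_smul_octad g.2 ho, (Finset.smul_finset_singleton o).symm⟩
  mem l hl := by
    obtain ⟨m, hm, rfl⟩ := List.mem_map.1 hl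
    exact ⟨mset m, mem_octads_iff.2 ⟨m, octList_lit.symm ▸ hm, rfl⟩, by simp [sextSet]⟩
  ex X hX := by
    obtain ⟨o, ho, rfl⟩ := hX
    obtain ⟨m, hm, rfl⟩ := mem_octads_iff.1 ho
    exact ⟨[m], List.mem_map.2 ⟨m, octList_lit ▸ hm, rfl⟩, by simp [sextSet]⟩
  count P pb h := by
    rw [List.filter_map, List.length_map, ← octList_lit]
    have e : {X | X ∈ (fun o : Finset GolayPt => ({o} : Finset (Finset GolayPt))) '' octads ∧ P X} =
        (fun o : Finset GolayPt => ({o} : Finset (Finset GolayPt))) '' {o | o ∈ octads ∧ P {o}} := by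
      ext X
      simp only [Set.mem_image, Set.mem_ofPred_eq]
      constructor
      · rintro ⟨⟨o, ho, rfl⟩, hp⟩; exact ⟨o, ⟨ho, hp⟩, rfl⟩
      · rintro ⟨o, ⟨ho, hp⟩, rfl⟩; exact ⟨⟨o, ho, rfl⟩, hp⟩
    rw [e, Set.ncard_image_of_injective _ Finset.singleton_injective]
    refine ncard_mset_list (fun m hm => isCode_lt (mem_octList.1 (List.mem_filter.1 hm).1).1)
      ((codeList_nodup.filter _).filter _) fun s => ?_
    simp only [Set.mem_ofPred_eq, mem_octads_iff, List.mem_filter]
    constructor
    · rintro ⟨⟨m, hm, rfl⟩, hp⟩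
      refine ⟨m, ⟨hm, ?_⟩, rfl⟩
      have := h [m] (List.mem_map.2 ⟨m, octList_lit ▸ hm, rfl⟩)
      simp only [sextSet, List.map_cons, List.map_nil, List.toFinset_cons, List.toFinset_nil,
        insert_empty_eq] at this
      exact this.1 hp
    · rintro ⟨m, ⟨hm, hp⟩, rfl⟩
      refine ⟨⟨m, hm, rfl⟩, ?_⟩
      have := h [m] (List.mem_map.2 ⟨m, octList_lit ▸ hm, rfl⟩)
      simp only [sextSet, List.map_cons, List.map_nil, List.toFinset_cons, List.toFinset_nil,
        insert_empty_eq] at this
      exact this.2 hp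

/-- Orbits of a stabiliser, transported. -/
theorem orbit_stab_smul {β γ : Type*} [MulAction M24 β] [MulAction M24 γ] (c : M24) (b : β)
    (X : γ) : MulAction.orbit ↥(MulAction.stabilizer M24 (c • b)) (c • X) =
      (c • ·) '' MulAction.orbit ↥(MulAction.stabilizer M24 b) X := by
  ext Z
  constructor
  · rintro ⟨⟨g, hg⟩, rfl⟩
    refine ⟨(c⁻¹ * g * c) • X, ⟨⟨c⁻¹ * g * c, ?_⟩, rfl⟩, ?_⟩
    · rw [MulAction.mem_stabilizer_iff, mul_smul, mul_smul, MulAction.mem_stabilizer_iff.1 hg,
        inv_smul_smul]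
    · show c • (c⁻¹ * g * c) • X = g • c • X
      rw [mul_smul, mul_smul, smul_inv_smul]
  · rintro ⟨_, ⟨⟨g, hg⟩, rfl⟩, rfl⟩
    refine ⟨⟨c * g * c⁻¹, ?_⟩, ?_⟩
    · rw [MulAction.mem_stabilizer_iff, mul_smul, inv_smul_smul, mul_smul,
        MulAction.mem_stabilizer_iff.1 hg]
    · show (c * g * c⁻¹) • c • X = c • g • X
      rw [mul_smul, inv_smul_smul, mul_smul]

theorem stab_singleton (o : Finset GolayPt) :
    MulAction.stabilizer M24 ({o} : Finset (Finset GolayPt)) = MulAction.stabilizer M24 o := by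
  ext g
  rw [MulAction.mem_stabilizer_iff, MulAction.mem_stabilizer_iff, Finset.smul_finset_singleton,
    Finset.singleton_inj]

theorem orbit_singleton (H : Subgroup M24) (o : Finset GolayPt) :
    MulAction.orbit ↥H ({o} : Finset (Finset GolayPt)) =
      (fun x : Finset GolayPt => ({x} : Finset (Finset GolayPt))) '' MulAction.orbit ↥H o := by
  ext Z
  constructor
  · rintro ⟨g, rfl⟩
    exact ⟨g • o, ⟨g, rfl⟩, (Finset.smul_finset_singleton o).symm⟩
  · rintro ⟨_, ⟨g, rfl⟩, rfl⟩
    exact ⟨g, Finset.smul_finset_singleton o⟩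

end CfsgLib.Mathieu
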