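import Cfsg.Agent.Lib.Mathieu.StabOrbits

/-! The orbit counts in the form of three or four named orbits. -/

set_option autoImplicit false
set_option maxRecDepth 100000

namespace CfsgLib.Mathieu

open Cfsg CfsgLib.Golay
open scoped Pointwise

theorem three_orbits {α : Type*} {A : Set α} {x : ℕ → α} {orb : α → Set α} {sizes : List ℕ}
    (h : (∀ i < 3, x i ∈ A ∧ (orb (x i)).ncard = sizes.getD i 0) ∧
      A = {X | ∃ i < 3, X ∈ orb (x i)}) :
    ∃ X₁ ∈ A, ∃ X₂ ∈ A, ∃ X₃ ∈ A, (orb X₁).ncard = sizes.getD 0 0 ∧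
      (orb X₂).ncard = sizes.getD 1 0 ∧ (orb X₃).ncard = sizes.getD 2 0 ∧
      A = orb X₁ ∪ orb X₂ ∪ orb X₃ := by
  obtain ⟨h1, h2⟩ := h
  refine ⟨x 0, (h1 0 (by norm_num)).1, x 1, (h1 1 (by norm_num)).1, x 2, (h1 2 (by norm_num)).1,
    (h1 0 (by norm_num)).2, (h1 1 (by norm_num)).2, (h1 2 (by norm_num)).2, ?_⟩
  conv_lhs => rw [h2]
  ext X
  simp only [Set.mem_ofPred_eq, Set.mem_union]
  constructor
  · rintro ⟨i, hi, hX⟩
    interval_cases i <;> tauto
  · rintro ((h | h) | h)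
    exacts [⟨0, by norm_num, h⟩, ⟨1, by norm_num, h⟩, ⟨2, by norm_num, h⟩]

theorem four_orbits {α : Type*} {A : Set α} {x : ℕ → α} {orb : α → Set α} {sizes : List ℕ}
    (h : (∀ i < 4, x i ∈ A ∧ (orb (x i)).ncard = sizes.getD i 0) ∧
      A = {X | ∃ i < 4, X ∈ orb (x i)}) :
    ∃ X₁ ∈ A, ∃ X₂ ∈ A, ∃ X₃ ∈ A, ∃ X₄ ∈ A, (orb X₁).ncard = sizes.getD 0 0 ∧
      (orb X₂).ncard = sizes.getD 1 0 ∧ (orb X₃).ncard = sizes.getD 2 0 ∧
      (orb X₄).ncard = sizes.getD 3 0 ∧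
      A = orb X₁ ∪ orb X₂ ∪ orb X₃ ∪ orb X₄ := by
  obtain ⟨h1, h2⟩ := h
  refine ⟨x 0, (h1 0 (by norm_num)).1, x 1, (h1 1 (by norm_num)).1, x 2, (h1 2 (by norm_num)).1,
    x 3, (h1 3 (by norm_num)).1, (h1 0 (by norm_num)).2, (h1 1 (by norm_num)).2,
    (h1 2 (by norm_num)).2, (h1 3 (by norm_num)).2, ?_⟩
  conv_lhs => rw [h2]
  ext X
  simp only [Set.mem_ofPred_eq, Set.mem_union]
  constructor
  · rintro ⟨i, hi, hX⟩
    interval_cases i <;> tauto
  · rintro (((h | h) | h) | h)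
    exacts [⟨0, by norm_num, h⟩, ⟨1, by norm_num, h⟩, ⟨2, by norm_num, h⟩, ⟨3, by norm_num, h⟩]

theorem octad_cases (o : Finset GolayPt) (ho : o ∈ octads) :
    ∃ c : M24, c • sextSet [13062145] = ({o} : Finset (Finset GolayPt)) := by
  obtain ⟨c, hc⟩ := M24_trans_octads octMask_mem ho
  refine ⟨c, ?_⟩
  rw [show sextSet [13062145] = {mset octMask} by simp [sextSet, octMask],
    Finset.smul_finset_singleton, hc]

theorem dodecad_pair (d : Finset GolayPt) (hd : d ∈ dodecads) :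
    ∃ c : M24, c • sextSet [340831, 16436384] =
      ({d, Finset.univ \ d} : Finset (Finset GolayPt)) := by
  obtain ⟨c, hc⟩ := M24_trans_dodecads sqMask_mem hd
  refine ⟨c, ?_⟩
  have e : mset 16436384 = (mset sqMask)ᶜ := by
    rw [show (16436384 : ℕ) = 16777215 ^^^ sqMask by decide +kernel, mset_xor, mset_full]
    ext p; simp [Finset.mem_symmDiff]
  rw [show sextSet [340831, 16436384] = {mset sqMask, (mset sqMask)ᶜ} by
      rw [← e, show sqMask = 340831 by decide +kernel]; simp [sextSet],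
    Finset.smul_finset_insert, Finset.smul_finset_singleton, hc,
    Finset.compl_eq_univ_sdiff, Finset.smul_finset_sdiff, Finset.smul_finset_univ, hc]

end CfsgLib.Mathieu
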