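import Cfsg.Agent.Lib.Mathieu.Action
import Cfsg.Agent.Lib.Mathieu.CommElts

/-! Involutions centralising elements of order three in `M24`. -/

set_option autoImplicit false
set_option maxRecDepth 100000

namespace CfsgLib.Mathieu

open Cfsg CfsgLib.Golay
open scoped Pointwise

theorem sSix_chain : cChainOK [] sSixPows sSixLevels sSixFin = true := by decide +kernel
theorem sFree_chain : cChainOK [] sFreePows sFreeLevels sFreeFin = true := by decide +kernel
theorem sSix_invFix : invFixB 8 sSixLevels = true := by decide +kernel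
theorem sFree_invFix : invFixB 0 sFreeLevels = true := by decide +kernel

theorem sSixPows_eq : sSixPows = [sSix, sSixSq] := by decide +kernel
theorem sFreePows_eq : sFreePows = [sFree, sFreeSq] := by decide +kernel

theorem sSix_cube : permOf sSix ^ 3 = 1 :=
  (powOneIn_sound (X := []) (by decide +kernel : powOneIn [] 3 sSix = true)).2
theorem sFree_cube : permOf sFree ^ 3 = 1 :=
  (powOneIn_sound (X := []) (by decide +kernel : powOneIn [] 3 sFree = true)).2

/-- An element of order three, its square, and what commutes with either. -/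
theorem comm_sq {G : Type*} [Group G] {r σ : G} (h : r ^ 3 = 1)
    (hc : σ * r = r * σ ∨ σ * (r * r) = r * r * σ) :
    σ * r = r * σ ∧ σ * (r * r) = r * r * σ := by
  have e : r = (r * r) * (r * r) := by
    rw [show r * r * (r * r) = r ^ 3 * r by rw [pow_succ, pow_two]; simp only [mul_assoc], h, one_mul]
  rcases hc with hc | hc
  · exact ⟨hc, by rw [← mul_assoc, hc, mul_assoc, hc, mul_assoc]⟩
  · refine ⟨?_, hc⟩
    calc σ * r = σ * ((r * r) * (r * r)) := by rw [← e]
      _ = (r * r) * (r * r) * σ := by rw [← mul_assoc, hc, mul_assoc, hc, ← mul_assoc]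
      _ = r * σ := by rw [← e]

theorem comm_order3_inv {x s : Equiv.Perm GolayPt} (hx : x ∈ M24) (hs : s ∈ M24)
    (h₃ : orderOf x = 3) (h₂ : orderOf s = 2) (hc : x * s = s * x) :
    ((fixS x).card = 6 ∧ (fixS s).card = 8) ∨ ((fixS x).card = 0 ∧ (fixS s).card = 0) := by
  have key : ∀ c ∈ M24, ∀ r r2 : ℕ, ∀ L fin, ∀ k : ℕ, cChainOK [] [r, r2] L fin = true →
      invFixB k L = true → permOf r2 = permOf r * permOf r → permOf r ^ 3 = 1 →
      (x = c * permOf r * c⁻¹ ∨ x = c * permOf r2 * c⁻¹) → (fixS s).card = k := by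
    intro c hcM r r2 L fin k h hk hsq hcube hxe
    set σ := c⁻¹ * s * c with hσ
    have hσc : σ * permOf r = permOf r * σ ∧ σ * (permOf r * permOf r) = permOf r * permOf r * σ := by
      refine comm_sq hcube ?_
      rw [← hsq]
      rcases hxe with rfl | rfl
      · left
        calc σ * permOf r = c⁻¹ * (s * (c * permOf r * c⁻¹)) * c := by rw [hσ]; group
          _ = permOf r * σ := by rw [← hc, hσ]; group
      · right
        calc σ * permOf r2 = c⁻¹ * (s * (c * permOf r2 * c⁻¹)) * c := by rw [hσ]; group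
          _ = permOf r2 * σ := by rw [← hc, hσ]; group
    have hσm : σ ∈ commFix [] [r, r2] := by
      refine mem_commFix.2 ⟨?_, ?_⟩
      · rw [fixMasks_nil]
        exact Subgroup.mul_mem _ (Subgroup.mul_mem _ (Subgroup.inv_mem _ hcM) hs) hcM
      · simp only [List.mem_cons, List.not_mem_nil, or_false, forall_eq_or_imp, forall_eq, hsq]
        exact hσc
    have ho : orderOf σ = 2 := by
      have : σ = MulAut.conj c⁻¹ s := by simp [hσ, MulAut.conj_apply]
      rw [this, ← h₂]
      exact orderOf_injective (MulAut.conj c⁻¹).toMonoidHom (MulAut.conj c⁻¹).injective s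
    have hcard := invFix_sound h hk hσm ho
    have es : s = c * σ * c⁻¹ := by rw [hσ]; group
    rw [es, card_fixS_conj]; exact hcard
  rcases order3_cases hx h₃ with ⟨c, hcM, h, hf⟩ | ⟨c, hcM, h, hf⟩
  · exact Or.inl ⟨hf, key c hcM _ _ _ _ 8 (sSixPows_eq ▸ sSix_chain) sSix_invFix
      sSixSq_eq.2 sSix_cube h⟩
  · exact Or.inr ⟨by rw [hf, Finset.card_empty], key c hcM _ _ _ _ 0 (sFreePows_eq ▸ sFree_chain)
      sFree_invFix sFreeSq_eq.2 sFree_cube h⟩

end CfsgLib.Mathieu
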