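import Cfsg.Agent.Lib.Mathieu.Action
import Cfsg.Agent.Lib.Golay.Orbits

/-! The outer automorphism of the two-point stabiliser induced inside `M24`. -/

set_option autoImplicit false
set_option maxRecDepth 100000

namespace CfsgLib.Mathieu

open Cfsg CfsgLib.Golay
open scoped Pointwise

theorem five_inj {α : Type*} {a b c d e : α} (h1 : a ≠ b) (h2 : a ≠ c) (h3 : a ≠ d) (h4 : a ≠ e)
    (h5 : b ≠ c) (h6 : b ≠ d) (h7 : b ≠ e) (h8 : c ≠ d) (h9 : c ≠ e) (h10 : d ≠ e) :
    Function.Injective ![a, b, c, d, e] := by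
  intro i j h
  fin_cases i <;> fin_cases j <;>
    first
      | rfl
      | simp [h1, h2, h3, h4, h5, h6, h7, h8, h9, h10, h1.symm, h2.symm, h3.symm, h4.symm,
          h5.symm, h6.symm, h7.symm, h8.symm, h9.symm, h10.symm] at h

theorem pair_swap (g : Equiv.Perm GolayPt) (hg : g ∈ M24) (h₁ : g none = some 0)
    (h₂ : g (some 0) = none) :
    Spor.M22.relIndex (M24 ⊓ MulAction.stabilizer (Equiv.Perm GolayPt)
      ({none, some 0} : Finset GolayPt)) = 2 ∧
    (∀ x ∈ Spor.M22, g * x * g⁻¹ ∈ Spor.M22) ∧
    ¬ ∃ h ∈ Spor.M22, ∀ x ∈ Spor.M22, g * x * g⁻¹ = h * x * h⁻¹ := by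
  classical
  have hmem : ∀ x, x ∈ Spor.M22 ↔ x ∈ M24 ∧ x none = none ∧ x (some 0) = some 0 := fun x => by
    show (x ∈ M24 ∧ x • none = none) ∧ x • (some 0 : GolayPt) = some 0 ↔ _
    simp only [Equiv.Perm.smul_def, and_assoc]
  set S := M24 ⊓ MulAction.stabilizer (Equiv.Perm GolayPt) ({none, some 0} : Finset GolayPt) with hS
  have hne : (none : GolayPt) ≠ some 0 := by simp
  have hmemS : ∀ x, x ∈ S ↔ x ∈ M24 ∧ ((x none = none ∧ x (some 0) = some 0) ∨
      (x none = some 0 ∧ x (some 0) = none)) := by
    intro x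
    rw [hS, Subgroup.mem_inf, MulAction.mem_stabilizer_iff]
    refine and_congr_right fun _ => ?_
    constructor
    · intro h
      have a : ∀ p ∈ ({none, some 0} : Finset GolayPt), x p = none ∨ x p = some 0 := by
        intro p hp
        have h' : x • p ∈ x • ({none, some 0} : Finset GolayPt) := Finset.smul_mem_smul_finset hp
        rw [h] at h'
        simpa using h'
      rcases a none (by simp) with e | e <;> rcases a (some 0) (by simp) with e' | e'
      · exact absurd (x.injective (e.trans e'.symm)) hne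
      · exact Or.inl ⟨e, e'⟩
      · exact Or.inr ⟨e, e'⟩
      · exact absurd (x.injective (e.trans e'.symm)) hne
    · rintro (⟨e, e'⟩ | ⟨e, e'⟩) <;>
        simp [Finset.smul_finset_insert, Finset.smul_finset_singleton, Equiv.Perm.smul_def, e, e',
          Finset.pair_comm]
  refine ⟨?_, fun x hx => ?_, ?_⟩
  · have e : Spor.M22.subgroupOf S = MulAction.stabilizer ↥S (none : GolayPt) := by
      ext x
      rw [Subgroup.mem_subgroupOf, hmem, MulAction.mem_stabilizer_iff]
      obtain ⟨hx, hc⟩ := (hmemS x.1).1 x.2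
      show _ ↔ x.1 none = none
      constructor
      · exact fun h => h.2.1
      · intro h
        rcases hc with ⟨-, h'⟩ | ⟨h', -⟩
        · exact ⟨hx, h, h'⟩
        · exact absurd (h.symm.trans h') hne
    rw [Subgroup.relIndex, e, MulAction.index_stabilizer]
    have ho : MulAction.orbit ↥S (none : GolayPt) = {none, some 0} := by
      ext p
      constructor
      · rintro ⟨x, rfl⟩
        rcases ((hmemS x.1).1 x.2).2 with ⟨h, -⟩ | ⟨h, -⟩
        · exact Or.inl h
        · exact Or.inr h
      · rintro (rfl | rfl)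
        · exact MulAction.mem_orbit_self _
        · exact ⟨⟨g, (hmemS g).2 ⟨hg, Or.inr ⟨h₁, h₂⟩⟩⟩, h₁⟩
    rw [ho, Set.ncard_pair hne]
  · obtain ⟨hx1, hx2, hx3⟩ := (hmem x).1 hx
    refine (hmem _).2 ⟨Subgroup.mul_mem _ (Subgroup.mul_mem _ hg hx1) (Subgroup.inv_mem _ hg), ?_, ?_⟩
    · show g (x (g.symm none)) = none
      rw [show g.symm none = some 0 from (Equiv.symm_apply_eq g).2 h₂.symm, hx3, h₂]
    · show g (x (g.symm (some 0))) = some 0
      rw [show g.symm (some 0) = none from (Equiv.symm_apply_eq g).2 h₁.symm, hx2, h₁]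
  · rintro ⟨h, hh, hconj⟩
    obtain ⟨hhM, hh2, hh3⟩ := (hmem h).1 hh
    set c := h⁻¹ * g with hc
    have hcM : c ∈ M24 := Subgroup.mul_mem _ (Subgroup.inv_mem _ hhM) hg
    have c0 : c none = some 0 := by
      show h.symm (g none) = _
      rw [h₁]; exact (Equiv.symm_apply_eq h).2 hh3.symm
    have c1 : c (some 0) = none := by
      show h.symm (g (some 0)) = _
      rw [h₂]; exact (Equiv.symm_apply_eq h).2 hh2.symm
    have hcomm : ∀ x ∈ Spor.M22, c * x = x * c := fun x hx => by
      calc c * x = h⁻¹ * (g * x * g⁻¹) * g := by rw [hc]; group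
        _ = x * c := by rw [hconj x hx, hc]; group
    have hfix : ∀ p, p ≠ none → p ≠ some 0 → c p = p := by
      intro p hp hp'
      by_contra hcp
      have q0 : c p ≠ none := fun e => hp' (c.injective (e.trans c1.symm))
      have q1 : c p ≠ some 0 := fun e => hp (c.injective (e.trans c0.symm))
      -- a point to send `c p` to, and a fifth point
      have hbig : 2 ≤ ((({none, some 0, p, c p} : Finset GolayPt))ᶜ).card := by
        rw [Finset.card_compl]
        have : ({none, some 0, p, c p} : Finset GolayPt).card ≤ 4 := Finset.card_le_four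
        have : Fintype.card GolayPt = 24 := by simp
        omega
      obtain ⟨r, hr, s, hs, hrs⟩ := Finset.one_lt_card.1 hbig
      simp only [Finset.mem_compl, Finset.mem_insert, Finset.mem_singleton, not_or] at hr hs
      obtain ⟨s0, s1, s2, s3⟩ := hs
      obtain ⟨r0, r1, r2, r3⟩ := hr
      have hx : Function.Injective ![none, some 0, p, c p, s] :=
        five_inj hne (Ne.symm hp) (Ne.symm q0) (Ne.symm s0) (Ne.symm hp') (Ne.symm q1) (Ne.symm s1)
          (Ne.symm hcp) (Ne.symm s2) (Ne.symm s3)
      have hy : Function.Injective ![none, some 0, p, r, s] :=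
        five_inj hne (Ne.symm hp) (Ne.symm r0) (Ne.symm s0) (Ne.symm hp') (Ne.symm r1) (Ne.symm s1)
          (Ne.symm r2) (Ne.symm s2) hrs
      obtain ⟨σ, hσ⟩ := M24_five_trans ⟨_, hx⟩ ⟨_, hy⟩
      have e : ∀ i, (σ : Equiv.Perm GolayPt) (![none, some 0, p, c p, s] i) =
          ![none, some 0, p, r, s] i := fun i => DFunLike.congr_fun hσ i
      have hσ22 : (σ : Equiv.Perm GolayPt) ∈ Spor.M22 := (hmem _).2 ⟨σ.2, e 0, e 1⟩
      have := congrArg (fun π : Equiv.Perm GolayPt => π p) (hcomm _ hσ22)
      simp only [Equiv.Perm.mul_apply] at this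
      rw [show (σ : Equiv.Perm GolayPt) p = p from e 2,
        show (σ : Equiv.Perm GolayPt) (c p) = r from e 3] at this
      exact r3 this.symm
    have hf : fixS c = ({none, some 0} : Finset GolayPt)ᶜ := by
      ext p
      simp only [fixS, Finset.mem_filter, Finset.mem_univ, true_and, Finset.mem_compl,
        Finset.mem_insert, Finset.mem_singleton, not_or]
      constructor
      · intro hp
        constructor <;> rintro rfl
        · exact hne (hp.symm.trans c0)
        · exact hne.symm (hp.symm.trans c1)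
      · exact fun hp => hfix p hp.1 hp.2
    have hsq : c ^ 2 = 1 := Equiv.ext fun p => by
      rw [pow_two]
      show c (c p) = p
      by_cases a : p = none
      · subst a; rw [c0, c1]
      by_cases b : p = some 0
      · subst b; rw [c1, c0]
      rw [hfix p a b, hfix p a b]
    have h2 : orderOf c = 2 := orderOf_eq_prime hsq fun e => by
      rw [e] at c0; exact hne c0
    have hcard : (fixS c).card = 22 := by
      rw [hf, Finset.card_compl, Finset.card_pair hne]; simp
    rcases invol_cases hcM h2 with ⟨_, _, _, h8⟩ | ⟨_, _, _, h0⟩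
    · omega
    · rw [h0, Finset.card_empty] at hcard; omega

end CfsgLib.Mathieu
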