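import Cfsg.Prelude.Def_Sporadic_a

/-! The projective plane of order 4 as a Steiner system `S(2, 5, 21)`: arcs and hyperovals. -/

set_option autoImplicit false

namespace CfsgLib.Mathieu.Plane

open Cfsg
open scoped Pointwise

/-- A Steiner system `S(2, 5, 21)`. -/
structure IsPlane {α : Type*} [Fintype α] [DecidableEq α] (L : Set (Finset α)) : Prop where
  card : Fintype.card α = 21
  steiner : IsSteinerSystem 2 5 L

variable {α : Type*} [Fintype α] [DecidableEq α] {L : Set (Finset α)}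

/-- No line meets the set in more than two points. -/
def Arc (L : Set (Finset α)) (S : Finset α) : Prop := ∀ l ∈ L, (l ∩ S).card ≤ 2

/-- The line through two points (empty if they coincide). -/
noncomputable def ln (L : Set (Finset α)) (p q : α) : Finset α :=
  Classical.epsilon fun l => l ∈ L ∧ p ∈ l ∧ q ∈ l

namespace IsPlane

theorem ln_spec (h : IsPlane L) {p q : α} (hpq : p ≠ q) :
    ln L p q ∈ L ∧ p ∈ ln L p q ∧ q ∈ ln L p q := by
  obtain ⟨l, ⟨hl, hsub⟩, -⟩ := h.steiner.2 {p, q} (Finset.card_pair hpq)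
  exact Classical.epsilon_spec (p := fun l => l ∈ L ∧ p ∈ l ∧ q ∈ l)
    ⟨l, hl, hsub (by simp), hsub (by simp)⟩

theorem line_eq (h : IsPlane L) {l m : Finset α} (hl : l ∈ L) (hm : m ∈ L) {p q : α} (hpq : p ≠ q)
    (h1 : p ∈ l) (h2 : q ∈ l) (h3 : p ∈ m) (h4 : q ∈ m) : l = m := by
  obtain ⟨n, -, hu⟩ := h.steiner.2 {p, q} (Finset.card_pair hpq)
  rw [hu l ⟨hl, by simp [Finset.insert_subset_iff, h1, h2]⟩,
    hu m ⟨hm, by simp [Finset.insert_subset_iff, h3, h4]⟩]

theorem ln_eq (h : IsPlane L) {p q : α} (hpq : p ≠ q) {l : Finset α} (hl : l ∈ L) (hp : p ∈ l)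
    (hq : q ∈ l) : ln L p q = l :=
  h.line_eq (h.ln_spec hpq).1 hl hpq (h.ln_spec hpq).2.1 (h.ln_spec hpq).2.2 hp hq

theorem card_line (h : IsPlane L) {l : Finset α} (hl : l ∈ L) : l.card = 5 := h.steiner.1 l hl

/-- The lines through a point. -/
noncomputable def linesAt (L : Set (Finset α)) (p : α) : Finset (Finset α) :=
  (Finset.univ.erase p).image (ln L p)

theorem mem_linesAt (h : IsPlane L) {p : α} {l : Finset α} :
    l ∈ linesAt L p ↔ l ∈ L ∧ p ∈ l := by
  simp only [linesAt, Finset.mem_image, Finset.mem_erase, Finset.mem_univ, and_true]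
  constructor
  · rintro ⟨q, hq, rfl⟩; exact ⟨(h.ln_spec hq.symm).1, (h.ln_spec hq.symm).2.1⟩
  · rintro ⟨hl, hp⟩
    obtain ⟨q, hq, hne⟩ := Finset.exists_mem_ne (by rw [h.card_line hl]; norm_num) p
    exact ⟨q, hne, h.ln_eq hne.symm hl hp hq⟩

theorem card_linesAt (h : IsPlane L) (p : α) : (linesAt L p).card = 5 := by
  have hd : ((linesAt L p : Finset (Finset α)) : Set (Finset α)).PairwiseDisjoint
      fun l => l.erase p := by
    intro l hl m hm hne
    show Disjoint _ _
    rw [Finset.disjoint_left]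
    intro q hq hq'
    rw [Finset.mem_erase] at hq hq'
    rw [Finset.mem_coe, h.mem_linesAt] at hl hm
    exact hne (h.line_eq hl.1 hm.1 hq.1.symm hl.2 hq.2 hm.2 hq'.2)
  have e : (linesAt L p).biUnion (fun l => l.erase p) = Finset.univ.erase p := by
    ext q
    simp only [Finset.mem_biUnion, Finset.mem_erase, Finset.mem_univ, and_true]
    constructor
    · rintro ⟨l, -, hq, -⟩; exact hq
    · intro hq
      exact ⟨ln L p q, h.mem_linesAt.2 ⟨(h.ln_spec hq.symm).1, (h.ln_spec hq.symm).2.1⟩, hq,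
        (h.ln_spec hq.symm).2.2⟩
  have := congrArg Finset.card e
  rw [Finset.card_biUnion hd, Finset.card_erase_of_mem (Finset.mem_univ p), Finset.card_univ,
    h.card, Finset.sum_congr rfl (g := fun _ => 4) fun l hl => by
      rw [Finset.card_erase_of_mem (h.mem_linesAt.1 hl).2, h.card_line (h.mem_linesAt.1 hl).1]] at this
  simp at this
  omega

theorem meet (h : IsPlane L) {l m : Finset α} (hl : l ∈ L) (hm : m ∈ L) :
    ∃ p, p ∈ l ∧ p ∈ m := by
  by_contra hno
  push Not at hno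
  obtain ⟨p, hp⟩ := Finset.card_pos.1 (show 0 < m.card by rw [h.card_line hm]; norm_num)
  have hpl : p ∉ l := fun hp' => hno p hp' hp
  have hinj : Set.InjOn (ln L p) l := fun q hq r hr e => by
    by_contra hne
    have hpq : p ≠ q := fun e => hpl (e ▸ hq)
    have hpr : p ≠ r := fun e => hpl (e ▸ hr)
    have := h.line_eq hl (h.ln_spec hpq).1 hne hq hr (h.ln_spec hpq).2.2
      (e.symm ▸ (h.ln_spec hpr).2.2)
    exact hpl (by rw [this]; exact (h.ln_spec hpq).2.1)
  have hsub : insert m (l.image (ln L p)) ⊆ linesAt L p := by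
    intro x hx
    rw [h.mem_linesAt]
    rcases Finset.mem_insert.1 hx with rfl | hx
    · exact ⟨hm, hp⟩
    · obtain ⟨q, hq, rfl⟩ := Finset.mem_image.1 hx
      have hpq : p ≠ q := fun e => hpl (e ▸ hq)
      exact ⟨(h.ln_spec hpq).1, (h.ln_spec hpq).2.1⟩
  have hnot : m ∉ l.image (ln L p) := by
    intro hx
    obtain ⟨q, hq, e⟩ := Finset.mem_image.1 hx
    exact hno q hq (e ▸ (h.ln_spec (show p ≠ q by rintro rfl; exact hpl hq)).2.2)
  have := Finset.card_le_card hsub
  rw [Finset.card_insert_of_notMem hnot, Finset.card_image_of_injOn hinj, h.card_line hl,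
    h.card_linesAt] at this
  omega

theorem meet_unique (h : IsPlane L) {l m : Finset α} (hl : l ∈ L) (hm : m ∈ L) (hne : l ≠ m)
    {p q : α} (h1 : p ∈ l) (h2 : p ∈ m) (h3 : q ∈ l) (h4 : q ∈ m) : p = q := by
  by_contra hpq
  exact hne (h.line_eq hl hm hpq h1 h3 h2 h4)

/-! ### Arcs -/

theorem arc_iff (h : IsPlane L) {S : Finset α} : Arc L S ↔
    ∀ a ∈ S, ∀ b ∈ S, a ≠ b → ∀ c ∈ S, c ∈ ln L a b → c = a ∨ c = b := by
  constructor
  · intro hS a ha b hb hab c hc hcl
    by_contra hne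
    push Not at hne
    obtain ⟨h1, h2, h3⟩ := h.ln_spec hab
    have h3c : ({a, b, c} : Finset α).card = 3 :=
      Finset.card_eq_three.2 ⟨a, b, c, hab, hne.1.symm, hne.2.symm, rfl⟩
    have := Finset.card_le_card (show ({a, b, c} : Finset α) ⊆ ln L a b ∩ S by
      intro x hx
      simp only [Finset.mem_insert, Finset.mem_singleton] at hx
      rcases hx with rfl | rfl | rfl <;> simp [*])
    have := hS _ h1
    omega
  · intro hS l hl
    by_contra hgt
    obtain ⟨a, b, c, ha, hb, hc, hab, hac, hbc⟩ := Finset.two_lt_card_iff.1 (not_le.1 hgt)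
    rw [Finset.mem_inter] at ha hb hc
    rcases hS a ha.2 b hb.2 hab c hc.2 (h.ln_eq hab hl ha.1 hb.1 ▸ hc.1) with e | e
    exacts [hac e.symm, hbc e.symm]

theorem arc_mono {S T : Finset α} (hT : Arc L T) (hST : S ⊆ T) : Arc L S := fun l hl =>
  (Finset.card_le_card (Finset.inter_subset_inter_left hST)).trans (hT l hl)

/-- The points extending an arc. -/
noncomputable def ext (L : Set (Finset α)) (S : Finset α) : Finset α :=
  Finset.univ.filter fun p => p ∉ S ∧ ∀ a ∈ S, ∀ b ∈ S, a ≠ b → p ∉ ln L a b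

theorem arc_insert (h : IsPlane L) {S : Finset α} (hS : Arc L S) {p : α} (hp : p ∉ S) :
    Arc L (insert p S) ↔ p ∈ ext L S := by
  simp only [ext, Finset.mem_filter, Finset.mem_univ, true_and, hp, not_false_iff]
  constructor
  · intro hT a ha b hb hab hpl
    rcases (h.arc_iff.1 hT) a (Finset.mem_insert_of_mem ha) b (Finset.mem_insert_of_mem hb) hab p
      (Finset.mem_insert_self p S) hpl with e | e
    exacts [hp (e ▸ ha), hp (e ▸ hb)]
  · intro hext
    rw [h.arc_iff]
    intro a ha b hb hab c hc hcl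
    rw [Finset.mem_insert] at ha hb hc
    obtain ⟨h1, h2, h3⟩ := h.ln_spec hab
    rcases hc with rfl | hc
    · rcases ha with rfl | ha
      · exact Or.inl rfl
      rcases hb with rfl | hb
      · exact Or.inr rfl
      exact absurd hcl (hext a ha b hb hab)
    rcases ha with rfl | ha
    · rcases hb with rfl | hb
      · exact absurd rfl hab
      by_contra hne
      push Not at hne
      exact hext b hb c hc hne.2.symm ((h.ln_eq hne.2.symm h1 h3 hcl).symm ▸ h2)
    rcases hb with rfl | hb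
    · by_contra hne
      push Not at hne
      exact hext a ha c hc hne.1.symm ((h.ln_eq hne.1.symm h1 h2 hcl).symm ▸ h3)
    exact h.arc_iff.1 hS a ha b hb hab c hc hcl

theorem card_ext_two (h : IsPlane L) {a b : α} (hab : a ≠ b) : (ext L {a, b}).card = 16 := by
  obtain ⟨h1, h2, h3⟩ := h.ln_spec hab
  have hba : ln L b a = ln L a b := h.ln_eq hab.symm h1 h3 h2
  have e : ext L {a, b} = (ln L a b)ᶜ := by
    ext p
    simp only [ext, Finset.mem_filter, Finset.mem_univ, true_and, Finset.mem_compl,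
      Finset.mem_insert, Finset.mem_singleton]
    constructor
    · exact fun hp => hp.2 a (Or.inl rfl) b (Or.inr rfl) hab
    · intro hp
      refine ⟨?_, ?_⟩
      · rintro (rfl | rfl)
        exacts [hp h2, hp h3]
      · rintro x (rfl | rfl) y (rfl | rfl) hxy
        exacts [absurd rfl hxy, hp, by rw [hba]; exact hp, absurd rfl hxy]
  rw [e, Finset.card_compl, h.card, h.card_line h1]

theorem card_ext_three (h : IsPlane L) {a b c : α} (hab : a ≠ b) (hac : a ≠ c) (hbc : b ≠ c)
    (hS : Arc L {a, b, c}) : (ext L {a, b, c}).card = 9 := by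
  obtain ⟨x1, x2, x3⟩ := h.ln_spec hab
  obtain ⟨y1, y2, y3⟩ := h.ln_spec hac
  obtain ⟨z1, z2, z3⟩ := h.ln_spec hbc
  have hA := h.arc_iff.1 hS
  have hcx : c ∉ ln L a b := fun hc => by
    rcases hA a (by simp) b (by simp) hab c (by simp) hc with e | e
    exacts [hac e.symm, hbc e.symm]
  have nexy : ln L a b ≠ ln L a c := fun e => hcx (e ▸ y3)
  have nexz : ln L a b ≠ ln L b c := fun e => hcx (e ▸ z3)
  have neyz : ln L a c ≠ ln L b c := fun e => nexy (h.ln_eq hab y1 y2 (e ▸ z2))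
  have e : ext L {a, b, c} = (ln L a b ∪ ln L a c ∪ ln L b c)ᶜ := by
    ext p
    simp only [ext, Finset.mem_filter, Finset.mem_univ, true_and, Finset.mem_compl,
      Finset.mem_union, Finset.mem_insert, Finset.mem_singleton, not_or]
    constructor
    · exact fun hp => ⟨⟨hp.2 a (Or.inl rfl) b (Or.inr (Or.inl rfl)) hab,
        hp.2 a (Or.inl rfl) c (Or.inr (Or.inr rfl)) hac⟩,
        hp.2 b (Or.inr (Or.inl rfl)) c (Or.inr (Or.inr rfl)) hbc⟩
    · rintro ⟨⟨p1, p2⟩, p3⟩
      refine ⟨⟨?_, ?_, ?_⟩, ?_⟩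
      · rintro rfl; exact p1 x2
      · rintro rfl; exact p1 x3
      · rintro rfl; exact p2 y3
      · have s1 := h.ln_eq hab.symm x1 x3 x2
        have s2 := h.ln_eq hac.symm y1 y3 y2
        have s3 := h.ln_eq hbc.symm z1 z3 z2
        rintro x (rfl | rfl | rfl) y (rfl | rfl | rfl) hxy <;>
          first
            | exact absurd rfl hxy
            | assumption
            | (rw [s1]; assumption)
            | (rw [s2]; assumption)
            | (rw [s3]; assumption)
  have i1 : ln L a b ∩ ln L a c = {a} := Finset.eq_singleton_iff_unique_mem.2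
    ⟨by simp [x2, y2], fun p hp => by
      rw [Finset.mem_inter] at hp
      exact h.meet_unique x1 y1 nexy hp.1 hp.2 x2 y2⟩
  have i2 : (ln L a b ∪ ln L a c) ∩ ln L b c = {b, c} := by
    ext p
    simp only [Finset.mem_inter, Finset.mem_union, Finset.mem_insert, Finset.mem_singleton]
    constructor
    · rintro ⟨hp | hp, hz⟩
      · exact Or.inl (h.meet_unique x1 z1 nexz hp hz x3 z2)
      · exact Or.inr (h.meet_unique y1 z1 neyz hp hz y3 z3)
    · rintro (rfl | rfl) <;> simp [*]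
  rw [e, Finset.card_compl, h.card]
  have u1 := Finset.card_union_add_card_inter (ln L a b) (ln L a c)
  have u2 := Finset.card_union_add_card_inter (ln L a b ∪ ln L a c) (ln L b c)
  rw [i1, Finset.card_singleton, h.card_line x1, h.card_line y1] at u1
  rw [i2, Finset.card_pair hbc, h.card_line z1] at u2
  omega

theorem secant_block (h : IsPlane L) {a b c d : α} (hS : Arc L {a, b, c, d}) (hab : a ≠ b)
    (hac : a ≠ c) (had : a ≠ d) (hbc : b ≠ c) (hbd : b ≠ d) (hcd : c ≠ d) :
    ((ln L a b ∪ ln L c d) \ {a, b, c, d}).card = 5 ∧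
      Disjoint ((ln L a b ∪ ln L c d) \ {a, b, c, d}) ((ln L a c ∪ ln L b d) \ {a, b, c, d}) := by
  have hA := h.arc_iff.1 hS
  obtain ⟨x1, x2, x3⟩ := h.ln_spec hab
  obtain ⟨y1, y2, y3⟩ := h.ln_spec hcd
  obtain ⟨u1, u2, u3⟩ := h.ln_spec hac
  obtain ⟨v1, v2, v3⟩ := h.ln_spec hbd
  have cx : c ∉ ln L a b := fun hh => by
    rcases hA a (by simp) b (by simp) hab c (by simp) hh with e | e
    exacts [hac e.symm, hbc e.symm]
  have dx : d ∉ ln L a b := fun hh => by
    rcases hA a (by simp) b (by simp) hab d (by simp) hh with e | e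
    exacts [had e.symm, hbd e.symm]
  have ay : a ∉ ln L c d := fun hh => by
    rcases hA c (by simp) d (by simp) hcd a (by simp) hh with e | e
    exacts [hac e, had e]
  have by' : b ∉ ln L c d := fun hh => by
    rcases hA c (by simp) d (by simp) hcd b (by simp) hh with e | e
    exacts [hbc e, hbd e]
  have hne : ln L a b ≠ ln L c d := fun e => cx (e ▸ y2)
  constructor
  · obtain ⟨e, he1, he2⟩ := h.meet x1 y1
    have hi : ln L a b ∩ ln L c d = {e} := Finset.eq_singleton_iff_unique_mem.2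
      ⟨by simp [he1, he2], fun p hp => by
        rw [Finset.mem_inter] at hp
        exact h.meet_unique x1 y1 hne hp.1 hp.2 he1 he2⟩
    have hsub : ({a, b, c, d} : Finset α) ⊆ ln L a b ∪ ln L c d := by
      intro p hp
      simp only [Finset.mem_insert, Finset.mem_singleton] at hp
      rcases hp with rfl | rfl | rfl | rfl <;> simp [*]
    have h4 : ({a, b, c, d} : Finset α).card = 4 := by simp [*]
    have := Finset.card_union_add_card_inter (ln L a b) (ln L c d)
    rw [hi, Finset.card_singleton, h.card_line x1, h.card_line y1] at this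
    rw [Finset.card_sdiff_of_subset hsub, h4]
    omega
  · rw [Finset.disjoint_left]
    intro p hp hq
    simp only [Finset.mem_sdiff, Finset.mem_union, Finset.mem_insert, Finset.mem_singleton,
      not_or] at hp hq
    obtain ⟨hp, pa, pb, pc, pd⟩ := hp
    rcases hp with hp | hp <;> rcases hq.1 with hq | hq
    · exact pa (h.meet_unique x1 u1 (fun e => cx (e ▸ u3)) hp hq x2 u2)
    · exact pb (h.meet_unique x1 v1 (fun e => dx (e ▸ v3)) hp hq x3 v2)
    · exact pc (h.meet_unique y1 u1 (fun e => ay (e ▸ u2)) hp hq y2 u3)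
    · exact pd (h.meet_unique y1 v1 (fun e => by' (e ▸ v2)) hp hq y3 v3)

theorem four_arc (h : IsPlane L) {S : Finset α} (hc : S.card = 4) (hS : Arc L S) :
    ∃ P Q, P ≠ Q ∧ ext L S = {P, Q} ∧ Arc L (insert Q (insert P S)) := by
  obtain ⟨a, T, haT, rfl, hT⟩ := Finset.card_eq_succ.1 hc
  obtain ⟨b, c, d, hbc, hbd, hcd, rfl⟩ := Finset.card_eq_three.1 hT
  simp only [Finset.mem_insert, Finset.mem_singleton, not_or] at haT
  obtain ⟨hab, hac, had⟩ := haT
  have p1 : ({a, c, d, b} : Finset α) = {a, b, c, d} := by ext; simp; tauto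
  have p2 : ({a, d, b, c} : Finset α) = {a, b, c, d} := by ext; simp; tauto
  obtain ⟨c1, d1⟩ := h.secant_block hS hab hac had hbc hbd hcd
  obtain ⟨c2, d2⟩ := h.secant_block (p1.symm ▸ hS) hac had hab hcd (Ne.symm hbc) (Ne.symm hbd)
  obtain ⟨c3, d3⟩ := h.secant_block (p2.symm ▸ hS) had hab hac (Ne.symm hbd) (Ne.symm hcd) hbc
  rw [p1] at c2 d2; rw [p2] at c3 d3
  have sdb : ln L d b = ln L b d := h.ln_eq (Ne.symm hbd) (h.ln_spec hbd).1 (h.ln_spec hbd).2.2 (h.ln_spec hbd).2.1
  have scb : ln L c b = ln L b c := h.ln_eq (Ne.symm hbc) (h.ln_spec hbc).1 (h.ln_spec hbc).2.2 (h.ln_spec hbc).2.1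
  have sdc : ln L d c = ln L c d := h.ln_eq (Ne.symm hcd) (h.ln_spec hcd).1 (h.ln_spec hcd).2.2 (h.ln_spec hcd).2.1
  rw [sdb] at c2; rw [scb] at d2; rw [sdb] at d2; rw [sdc] at d3
  -- the three blocks of secant points
  set B1 := (ln L a b ∪ ln L c d) \ {a, b, c, d} with hB1
  set B2 := (ln L a c ∪ ln L b d) \ {a, b, c, d} with hB2
  set B3 := (ln L a d ∪ ln L b c) \ {a, b, c, d} with hB3
  have hext : ext L {a, b, c, d} = ({a, b, c, d} ∪ (B1 ∪ B2 ∪ B3))ᶜ := by
    ext p
    simp only [ext, hB1, hB2, hB3, Finset.mem_filter, Finset.mem_univ, true_and, Finset.mem_compl,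
      Finset.mem_union, Finset.mem_sdiff, Finset.mem_insert, Finset.mem_singleton]
    constructor
    · rintro ⟨hp, hh⟩
      have := hh a (by simp) b (by simp) hab
      have := hh c (by simp) d (by simp) hcd
      have := hh a (by simp) c (by simp) hac
      have := hh b (by simp) d (by simp) hbd
      have := hh a (by simp) d (by simp) had
      have := hh b (by simp) c (by simp) hbc
      tauto
    · intro hh
      refine ⟨by tauto, ?_⟩
      have sym : ∀ {x y : α}, x ≠ y → ln L y x = ln L x y := fun hxy =>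
        h.ln_eq hxy.symm (h.ln_spec hxy).1 (h.ln_spec hxy).2.2 (h.ln_spec hxy).2.1
      rintro x (rfl | rfl | rfl | rfl) y (rfl | rfl | rfl | rfl) hxy <;>
        first
          | exact absurd rfl hxy
          | tauto
          | (rw [sym (Ne.symm hxy)]; tauto)
  have h15 : (B1 ∪ B2 ∪ B3).card = 15 := by
    rw [Finset.card_union_of_disjoint (Finset.disjoint_union_left.2 ⟨d3.symm, d2⟩),
      Finset.card_union_of_disjoint d1, c1, c2, c3]
  have hdS : Disjoint ({a, b, c, d} : Finset α) (B1 ∪ B2 ∪ B3) := by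
    simp only [Finset.disjoint_union_right, hB1, hB2, hB3]
    exact ⟨⟨Finset.disjoint_sdiff, Finset.disjoint_sdiff⟩, Finset.disjoint_sdiff⟩
  have h2 : (ext L {a, b, c, d}).card = 2 := by
    rw [hext, Finset.card_compl, h.card, Finset.card_union_of_disjoint hdS, h15, hc]
  obtain ⟨P, Q, hPQ, hE⟩ := Finset.card_eq_two.1 h2
  refine ⟨P, Q, hPQ, hE, ?_⟩
  have hP : P ∈ ext L {a, b, c, d} := by rw [hE]; simp
  have hQ : Q ∈ ext L {a, b, c, d} := by rw [hE]; simp
  have hP' := Finset.mem_filter.1 hP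
  have hQ' := Finset.mem_filter.1 hQ
  have arcP : Arc L (insert P ({a, b, c, d} : Finset α)) := (h.arc_insert hS hP'.2.1).2 hP
  rw [h.arc_insert arcP (by simp only [Finset.mem_insert, not_or]; exact ⟨hPQ.symm, by
    simpa using hQ'.2.1⟩)]
  refine Finset.mem_filter.2 ⟨Finset.mem_univ Q, ?_, ?_⟩
  · rw [Finset.mem_insert, not_or]; exact ⟨hPQ.symm, hQ'.2.1⟩
  -- the line through the two extending points misses the arc
  have key : ∀ x ∈ ({a, b, c, d} : Finset α), x ∉ ln L P Q := by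
    intro x hx hxl
    obtain ⟨m1, m2, m3⟩ := h.ln_spec hPQ
    set S := ({a, b, c, d} : Finset α) with hSdef
    have hsec : ∀ y ∈ S.erase x, ln L x y ∈ linesAt L x := fun y hy =>
      h.mem_linesAt.2 ⟨(h.ln_spec (Finset.ne_of_mem_erase hy).symm).1,
        (h.ln_spec (Finset.ne_of_mem_erase hy).symm).2.1⟩
    have hinj : Set.InjOn (ln L x) (S.erase x) := fun y hy z hz e => by
      by_contra hne
      have hxy := (Finset.ne_of_mem_erase hy).symm
      rcases h.arc_iff.1 hS x hx y (Finset.mem_of_mem_erase hy) hxy z (Finset.mem_of_mem_erase hz)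
        (e ▸ (h.ln_spec (Finset.ne_of_mem_erase hz).symm).2.2) with e' | e'
      exacts [(Finset.ne_of_mem_erase hz) e', hne e'.symm]
    have hPQnot : ln L P Q ∉ (S.erase x).image (ln L x) := fun hh => by
      obtain ⟨y, hy, e⟩ := Finset.mem_image.1 hh
      exact hP'.2.2 x hx y (Finset.mem_of_mem_erase hy) (Finset.ne_of_mem_erase hy).symm (e.symm ▸ m2)
    have hlt : (insert (ln L P Q) ((S.erase x).image (ln L x))).card = 4 := by
      rw [Finset.card_insert_of_notMem hPQnot, Finset.card_image_of_injOn hinj,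
        Finset.card_erase_of_mem hx, hc]
    obtain ⟨m, hm, hmnot⟩ := Finset.exists_mem_notMem_of_card_lt_card
      (show (insert (ln L P Q) ((S.erase x).image (ln L x))).card < (linesAt L x).card by
        rw [hlt, h.card_linesAt]; norm_num)
    rw [h.mem_linesAt] at hm
    rw [Finset.mem_insert, not_or] at hmnot
    have hxP : x ≠ P := fun e => hP'.2.1 (e ▸ hx)
    -- the fifth line has only three secant points
    have hsub : m.erase x ⊆ ((S.erase x).powersetCard 2).biUnion fun s =>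
        m.filter fun p => ∃ y ∈ s, ∃ z ∈ s, y ≠ z ∧ p ∈ ln L y z := by
      intro p hp
      rw [Finset.mem_erase] at hp
      have hpe : p ∉ ext L S := by
        rw [hE]
        simp only [Finset.mem_insert, Finset.mem_singleton]
        rintro (rfl | rfl)
        · exact hmnot.1 (h.line_eq hm.1 m1 hxP hm.2 hp.2 hxl m2)
        · exact hmnot.1 (h.line_eq hm.1 m1 (by rintro rfl; exact hQ'.2.1 hx) hm.2 hp.2 hxl m3)
      have hpS : p ∉ S := fun hpS => by
        refine hmnot.2 (Finset.mem_image.2 ⟨p, Finset.mem_erase.2 ⟨hp.1, hpS⟩, ?_⟩)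
        exact h.ln_eq hp.1.symm hm.1 hm.2 hp.2
      simp only [ext, Finset.mem_filter, Finset.mem_univ, true_and, hpS, not_false_iff, not_forall,
        Classical.not_not, exists_prop] at hpe
      obtain ⟨y, hy, z, hz, hyz, hpl⟩ := hpe
      have hyx : y ≠ x := fun e => hmnot.2 (Finset.mem_image.2 ⟨z, Finset.mem_erase.2
        ⟨fun e' => hyz (e.trans e'.symm), hz⟩, by
          rw [e] at hpl hyz
          exact h.line_eq (h.ln_spec hyz).1 hm.1 hp.1.symm (h.ln_spec hyz).2.1 hpl hm.2 hp.2⟩)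
      have hzx : z ≠ x := fun e => hmnot.2 (Finset.mem_image.2 ⟨y, Finset.mem_erase.2 ⟨hyx, hy⟩, by
          rw [e] at hpl hyz
          refine h.ln_eq (Ne.symm hyx) hm.1 hm.2 ?_
          have := h.line_eq (h.ln_spec hyz).1 hm.1 hp.1 hpl (h.ln_spec hyz).2.2 hp.2 hm.2
          exact this ▸ (h.ln_spec hyz).2.1⟩)
      refine Finset.mem_biUnion.2 ⟨{y, z}, Finset.mem_powersetCard.2
        ⟨by simp [Finset.insert_subset_iff, hy, hz, hyx, hzx], Finset.card_pair hyz⟩, ?_⟩
      exact Finset.mem_filter.2 ⟨hp.2, y, Finset.mem_insert_self _ _, z,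
        Finset.mem_insert_of_mem (Finset.mem_singleton_self z), hyz, hpl⟩
    have hle := (Finset.card_le_card hsub).trans (Finset.card_biUnion_le_card_mul _ _ 1 fun s hs => by
      obtain ⟨u, v, huv, rfl⟩ := Finset.card_eq_two.1 (Finset.mem_powersetCard.1 hs).2
      obtain ⟨g1, g2, g3⟩ := h.ln_spec huv
      have inl : ∀ w ∈ ({u, v} : Finset α), w ∈ ln L u v := by
        intro w hw
        simp only [Finset.mem_insert, Finset.mem_singleton] at hw
        rcases hw with rfl | rfl <;> assumption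
      refine Finset.card_le_one.2 fun p hp q hq => ?_
      obtain ⟨hpm, y, hy, z, hz, hyz, hpl⟩ := Finset.mem_filter.1 hp
      obtain ⟨hqm, y', hy', z', hz', hyz', hql⟩ := Finset.mem_filter.1 hq
      rw [h.ln_eq hyz g1 (inl _ hy) (inl _ hz)] at hpl
      rw [h.ln_eq hyz' g1 (inl _ hy') (inl _ hz')] at hql
      refine h.meet_unique hm.1 g1 ?_ hpm hpl hqm hql
      intro e
      have hus : u ∈ S.erase x := (Finset.mem_powersetCard.1 hs).1 (Finset.mem_insert_self _ _)
      exact hmnot.2 (Finset.mem_image.2 ⟨_, hus,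
        h.ln_eq (Finset.ne_of_mem_erase hus).symm hm.1 hm.2 (e ▸ g2)⟩))
    rw [Finset.card_powersetCard, Finset.card_erase_of_mem hm.2, h.card_line hm.1,
      Finset.card_erase_of_mem hx, hc] at hle
    exact absurd hle (by decide)
  intro x hx y hy hxy hQl
  rw [Finset.mem_insert] at hx hy
  obtain ⟨g1, g2, g3⟩ := h.ln_spec hxy
  rcases hx with rfl | hx <;> rcases hy with rfl | hy
  · exact hxy rfl
  · exact key y hy ((h.ln_eq hPQ g1 g2 hQl).symm ▸ g3)
  · exact key x hx ((h.ln_eq hPQ g1 g3 hQl).symm ▸ g2)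
  · exact hQ'.2.2 x hx y hy hxy hQl

/-- The arcs of a given size. -/
noncomputable def arcs (L : Set (Finset α)) (k : ℕ) : Finset (Finset α) :=
  open Classical in (Finset.univ.powersetCard k).filter (Arc L)

theorem mem_arcs {k : ℕ} {S : Finset α} : S ∈ arcs L k ↔ S.card = k ∧ Arc L S := by
  simp [arcs]

theorem count_step (h : IsPlane L) {k e : ℕ} (he : ∀ S ∈ arcs L k, (ext L S).card = e) :
    (arcs L (k + 1)).card * (k + 1) = (arcs L k).card * e := by
  classical
  have := Finset.card_mul_eq_card_mul (s := arcs L (k + 1)) (t := arcs L k)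
    (fun T S => S ⊆ T) (m := k + 1) (n := e) (fun T hT => ?_) (fun S hS => ?_)
  · exact this
  · rw [mem_arcs] at hT
    rw [Finset.bipartiteAbove]
    rw [show (arcs L k).filter (fun S => S ⊆ T) = T.powersetCard k from ?_]
    · rw [Finset.card_powersetCard, hT.1, Nat.choose_succ_self_right]
    · ext S
      simp only [Finset.mem_filter, mem_arcs, Finset.mem_powersetCard]
      exact ⟨fun h => ⟨h.2, h.1.1⟩, fun h => ⟨⟨h.2, arc_mono hT.2 h.1⟩, h.1⟩⟩
  · rw [← he S hS]
    rw [mem_arcs] at hS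
    rw [Finset.bipartiteBelow]
    refine (Finset.card_bij (fun p _ => insert p S) ?_ ?_ ?_).symm
    · intro p hp
      have hpS := (Finset.mem_filter.1 hp).2.1
      simp only [Finset.mem_filter, mem_arcs, Finset.card_insert_of_notMem hpS, hS.1]
      exact ⟨⟨trivial, (h.arc_insert hS.2 hpS).2 hp⟩, Finset.subset_insert _ _⟩
    · intro p hp q hq e
      have := e ▸ Finset.mem_insert_self p S
      rcases Finset.mem_insert.1 this with e' | e'
      exacts [e', absurd e' (Finset.mem_filter.1 hp).2.1]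
    · intro T hT
      simp only [Finset.mem_filter, mem_arcs] at hT
      obtain ⟨p, hp⟩ := Finset.card_eq_one.1
        (show (T \ S).card = 1 by rw [Finset.card_sdiff_of_subset hT.2, hT.1.1, hS.1]; omega)
      have hpT : p ∈ T \ S := hp ▸ Finset.mem_singleton_self p
      have hins : insert p S = T := by
        rw [Finset.insert_eq, ← hp, Finset.sdiff_union_of_subset hT.2]
      exact ⟨p, (h.arc_insert hS.2 (Finset.mem_sdiff.1 hpT).2).1 (hins.symm ▸ hT.1.2), hins⟩

theorem hyperoval_unique (h : IsPlane L) {S : Finset α} (hS : S.card = 4 ∧ Arc L S) :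
    ∃! H : Finset α, (H.card = 6 ∧ Arc L H) ∧ S ⊆ H := by
  obtain ⟨P, Q, hPQ, hE, hH⟩ := h.four_arc hS.1 hS.2
  have hP := (Finset.mem_filter.1 (show P ∈ ext L S by rw [hE]; simp)).2.1
  have hQ := (Finset.mem_filter.1 (show Q ∈ ext L S by rw [hE]; simp)).2.1
  have hc : (insert Q (insert P S)).card = 6 := by
    rw [Finset.card_insert_of_notMem (by simp [hPQ.symm, hQ]), Finset.card_insert_of_notMem hP, hS.1]
  refine ⟨insert Q (insert P S), ⟨⟨hc, hH⟩,
    (Finset.subset_insert _ _).trans (Finset.subset_insert _ _)⟩, ?_⟩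
  rintro H ⟨⟨h6, hA⟩, hsub⟩
  refine Finset.eq_of_subset_of_card_le (fun x hx => ?_) (by rw [hc, h6])
  by_cases hxS : x ∈ S
  · simp [hxS]
  · have : x ∈ ext L S := (h.arc_insert hS.2 hxS).1
      (arc_mono hA (Finset.insert_subset hx hsub))
    rw [hE] at this
    simp only [Finset.mem_insert, Finset.mem_singleton] at this ⊢
    tauto

theorem card_arcs_four (h : IsPlane L) : (arcs L 4).card = 2520 := by
  have a2 : (arcs L 2).card = 210 := by
    rw [show arcs L 2 = Finset.univ.powersetCard 2 from ?_, Finset.card_powersetCard, Finset.card_univ,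
      h.card]
    · rfl
    ext S
    simp only [mem_arcs, Finset.mem_powersetCard, Finset.subset_univ, true_and, and_iff_left_iff_imp]
    exact fun hc l _ => (Finset.card_le_card Finset.inter_subset_right).trans hc.le
  have s2 := h.count_step (k := 2) (e := 16) fun S hS => by
    obtain ⟨a, b, hab, rfl⟩ := Finset.card_eq_two.1 (mem_arcs.1 hS).1
    exact h.card_ext_two hab
  have s3 := h.count_step (k := 3) (e := 9) fun S hS => by
    obtain ⟨a, b, c, hab, hac, hbc, rfl⟩ := Finset.card_eq_three.1 (mem_arcs.1 hS).1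
    exact h.card_ext_three hab hac hbc (mem_arcs.1 hS).2
  simp only [Nat.reduceAdd] at s2 s3
  omega

theorem card_arcs_six (h : IsPlane L) : (arcs L 6).card = 168 := by
  classical
  have := Finset.card_mul_eq_card_mul (s := arcs L 4) (t := arcs L 6)
    (fun S H => S ⊆ H) (m := 1) (n := 15) (fun S hS => ?_) (fun H hH => ?_)
  · rw [h.card_arcs_four] at this
    omega
  · rw [mem_arcs] at hS
    obtain ⟨H, hH, hu⟩ := h.hyperoval_unique hS
    rw [Finset.bipartiteAbove, Finset.card_eq_one]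
    refine ⟨H, ?_⟩
    ext K
    simp only [Finset.mem_filter, mem_arcs, Finset.mem_singleton]
    exact ⟨fun hK => hu K hK, fun e => e ▸ hH⟩
  · rw [mem_arcs] at hH
    rw [Finset.bipartiteBelow, show (arcs L 4).filter (fun S => S ⊆ H) = H.powersetCard 4 from ?_,
      Finset.card_powersetCard, hH.1]
    · rfl
    ext S
    simp only [Finset.mem_filter, mem_arcs, Finset.mem_powersetCard]
    exact ⟨fun h => ⟨h.2, h.1.1⟩, fun h => ⟨⟨h.2, arc_mono hH.2 h.1⟩, h.1⟩⟩

theorem exists_hyperoval (h : IsPlane L) : ∃ H : Finset α, H.card = 6 ∧ Arc L H := by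
  obtain ⟨H, hH⟩ := Finset.card_pos.1 (show 0 < (arcs L 6).card by rw [h.card_arcs_six]; norm_num)
  exact ⟨H, mem_arcs.1 hH⟩

/-! ### The synthemes of the points outside a hyperoval -/

theorem line_through_oval (h : IsPlane L) {H : Finset α} (hH : H.card = 6 ∧ Arc L H)
    {l : Finset α} (hl : l ∈ L) {x : α} (hx : x ∈ l) (hxH : x ∈ H) :
    ∃ y ∈ H, y ≠ x ∧ l = ln L x y ∧ l ∩ H = {x, y} := by
  have hinj : Set.InjOn (ln L x) (H.erase x) := fun y hy z hz e => by
    by_contra hne
    rcases h.arc_iff.1 hH.2 x hxH y (Finset.mem_of_mem_erase hy) (Finset.ne_of_mem_erase hy).symm z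
      (Finset.mem_of_mem_erase hz) (e ▸ (h.ln_spec (Finset.ne_of_mem_erase hz).symm).2.2) with e' | e'
    exacts [(Finset.ne_of_mem_erase hz) e', hne e'.symm]
  have himg : (H.erase x).image (ln L x) = linesAt L x := by
    refine Finset.eq_of_subset_of_card_le (fun m hm => ?_) ?_
    · obtain ⟨y, hy, rfl⟩ := Finset.mem_image.1 hm
      have := h.ln_spec (Finset.ne_of_mem_erase hy).symm
      exact h.mem_linesAt.2 ⟨this.1, this.2.1⟩
    · rw [Finset.card_image_of_injOn hinj, Finset.card_erase_of_mem hxH, hH.1, h.card_linesAt]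
  obtain ⟨y, hy, e⟩ := Finset.mem_image.1 (himg.symm ▸ h.mem_linesAt.2 ⟨hl, hx⟩)
  rw [Finset.mem_erase] at hy
  refine ⟨y, hy.2, hy.1, e.symm, ?_⟩
  refine (Finset.eq_of_subset_of_card_le ?_ ?_).symm
  · have := (h.ln_spec hy.1.symm).2.2
    rw [e] at this
    simp [Finset.insert_subset_iff, hx, hxH, hy.2, this]
  · rw [Finset.card_pair hy.1.symm]; exact hH.2 l hl

/-- Two points of the hyperoval collinear with `p`: a block of the syntheme of `p`. -/
def SynPair (L : Set (Finset α)) (H : Finset α) (p : α) (s : Finset α) : Prop :=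
  s.card = 2 ∧ ∃ l ∈ L, p ∈ l ∧ l ∩ H = s

theorem syn_cover (h : IsPlane L) {H : Finset α} (hH : H.card = 6 ∧ Arc L H) {p x : α}
    (hp : p ∉ H) (hx : x ∈ H) : ∃ s, SynPair L H p s ∧ x ∈ s := by
  obtain ⟨g1, g2, g3⟩ := h.ln_spec (show p ≠ x from fun e => hp (e ▸ hx))
  obtain ⟨y, hy, hne, -, hi⟩ := h.line_through_oval hH g1 g3 hx
  exact ⟨{x, y}, ⟨Finset.card_pair hne.symm, _, g1, g2, hi⟩, by simp⟩

theorem syn_unique (h : IsPlane L) {H : Finset α} {p x : α}
    (hp : p ∉ H) {s t : Finset α} (hs : SynPair L H p s) (ht : SynPair L H p t)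
    (hxs : x ∈ s) (hxt : x ∈ t) : s = t := by
  obtain ⟨-, l, hl, hpl, rfl⟩ := hs
  obtain ⟨-, m, hm, hpm, rfl⟩ := ht
  rw [Finset.mem_inter] at hxs hxt
  rw [h.line_eq hl hm (by rintro rfl; exact hp hxs.2) hpl hxs.1 hpm hxt.1]

theorem sees_iff (h : IsPlane L) {H : Finset α} (hH : H.card = 6 ∧ Arc L H) {p a b : α}
    (ha : a ∈ H) (hb : b ∈ H) (hab : a ≠ b) : SynPair L H p {a, b} ↔ p ∈ ln L a b := by
  obtain ⟨g1, g2, g3⟩ := h.ln_spec hab
  constructor
  · rintro ⟨-, l, hl, hpl, e⟩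
    have hal : a ∈ l ∩ H := e.symm ▸ Finset.mem_insert_self a {b}
    have hbl : b ∈ l ∩ H := e.symm ▸ Finset.mem_insert_of_mem (Finset.mem_singleton_self b)
    rw [h.ln_eq hab hl (Finset.mem_inter.1 hal).1 (Finset.mem_inter.1 hbl).1]
    exact hpl
  · intro hpl
    refine ⟨Finset.card_pair hab, _, g1, hpl, (Finset.eq_of_subset_of_card_le ?_ ?_).symm⟩
    · simp [Finset.insert_subset_iff, g2, g3, ha, hb]
    · rw [Finset.card_pair hab]; exact hH.2 _ g1

/-- Each point off the hyperoval is the meet of two disjoint secants, and then a third passes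
through it. -/
theorem syn_partition (h : IsPlane L) {H : Finset α} (hH : H.card = 6 ∧ Arc L H) {p a b c d : α}
    (hp : p ∉ H) (h1 : SynPair L H p {a, b}) (h2 : SynPair L H p {c, d}) (hab : a ≠ b) (hcd : c ≠ d)
    (hdis : Disjoint ({a, b} : Finset α) {c, d}) :
    SynPair L H p (H \ ({a, b} ∪ {c, d})) := by
  have hsub : ∀ {s : Finset α}, SynPair L H p s → s ⊆ H := by
    rintro s ⟨-, l, -, -, rfl⟩; exact Finset.inter_subset_right
  have h4 : ({a, b} ∪ {c, d} : Finset α).card = 4 := by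
    rw [Finset.card_union_of_disjoint hdis, Finset.card_pair hab, Finset.card_pair hcd]
  have hr : (H \ ({a, b} ∪ {c, d})).card = 2 := by
    rw [Finset.card_sdiff_of_subset (Finset.union_subset (hsub h1) (hsub h2)), hH.1, h4]
  obtain ⟨e, f, hef, hEF⟩ := Finset.card_eq_two.1 hr
  have he : e ∈ H \ ({a, b} ∪ {c, d}) := hEF ▸ Finset.mem_insert_self e {f}
  rw [Finset.mem_sdiff, Finset.mem_union] at he
  obtain ⟨s, hs, hes⟩ := h.syn_cover hH hp he.1
  suffices s = H \ ({a, b} ∪ {c, d}) by rwa [← this]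
  refine Finset.eq_of_subset_of_card_le (fun x hx => ?_) (by rw [hr, hs.1])
  rw [Finset.mem_sdiff, Finset.mem_union]
  refine ⟨hsub hs hx, ?_⟩
  rintro (hx' | hx')
  · exact he.2 (Or.inl (h.syn_unique hp hs h1 hx hx' ▸ hes))
  · exact he.2 (Or.inr (h.syn_unique hp hs h2 hx hx' ▸ hes))

theorem syn_eq (h : IsPlane L) {H : Finset α} (hH : H.card = 6 ∧ Arc L H) {p q : α}
    (hp : p ∉ H) (hq : q ∉ H) (hall : ∀ s, SynPair L H p s → SynPair L H q s) : p = q := by
  obtain ⟨a, ha⟩ := Finset.card_pos.1 (show 0 < H.card by rw [hH.1]; norm_num)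
  obtain ⟨s, hs, has⟩ := h.syn_cover hH hp ha
  obtain ⟨c, hc, hcs⟩ := Finset.exists_mem_notMem_of_card_lt_card
    (show s.card < H.card by rw [hs.1, hH.1]; norm_num)
  obtain ⟨t, ht, hct⟩ := h.syn_cover hH hp hc
  have hst : s ≠ t := fun e => hcs (e ▸ hct)
  obtain ⟨-, l, hl, hpl, el⟩ := hs
  obtain ⟨-, m, hm, hpm, em⟩ := ht
  obtain ⟨-, l', hl', hql', el'⟩ := hall s ⟨by
    rw [← el]; exact le_antisymm (hH.2 l hl) (by
      obtain ⟨y, hy, hne, -, hi⟩ := h.line_through_oval hH hl (Finset.mem_inter.1 (el.symm ▸ has)).1 ha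
      rw [hi, Finset.card_pair hne.symm]), l, hl, hpl, el⟩
  obtain ⟨-, m', hm', hqm', em'⟩ := hall t ⟨by
    rw [← em]; exact le_antisymm (hH.2 m hm) (by
      obtain ⟨y, hy, hne, -, hi⟩ := h.line_through_oval hH hm (Finset.mem_inter.1 (em.symm ▸ hct)).1 hc
      rw [hi, Finset.card_pair hne.symm]), m, hm, hpm, em⟩
  have two : ∀ {l l' : Finset α}, l ∈ L → l' ∈ L → l ∩ H = l' ∩ H → (l ∩ H).Nonempty → l = l' := by
    intro l l' hl hl' e ⟨x, hx⟩
    obtain ⟨y, hy, hne, -, hi⟩ := h.line_through_oval hH hl (Finset.mem_inter.1 hx).1 (Finset.mem_inter.1 hx).2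
    have h1 : y ∈ l' ∩ H := e ▸ hi.symm ▸ Finset.mem_insert_of_mem (Finset.mem_singleton_self y)
    have h1' : y ∈ l ∩ H := e.symm ▸ h1
    exact h.line_eq hl hl' hne.symm (Finset.mem_inter.1 hx).1 (Finset.mem_inter.1 h1').1
      (Finset.mem_inter.1 (e ▸ hx)).1 (Finset.mem_inter.1 h1).1
  have e1 : l = l' := two hl hl' (el.trans el'.symm) ⟨a, el.symm ▸ has⟩
  have e2 : m = m' := two hm hm' (em.trans em'.symm) ⟨c, em.symm ▸ hct⟩
  exact h.meet_unique hl hm (fun e => hst (by rw [← el, ← em, e])) hpl hpm (e1 ▸ hql') (e2 ▸ hqm')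

/-- The lines through a point off the hyperoval that miss it. -/
noncomputable def extLines (L : Set (Finset α)) (H : Finset α) (p : α) : Finset (Finset α) :=
  (linesAt L p).filter fun l => l ∩ H = ∅

theorem card_extLines (h : IsPlane L) {H : Finset α} (hH : H.card = 6 ∧ Arc L H) {p : α}
    (hp : p ∉ H) : (extLines L H p).card = 2 := by
  classical
  have hd : ((linesAt L p : Finset (Finset α)) : Set (Finset α)).PairwiseDisjoint fun l => l ∩ H := by
    intro l hl m hm hne
    show Disjoint _ _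
    rw [Finset.mem_coe, h.mem_linesAt] at hl hm
    rw [Finset.disjoint_left]
    intro x hx hx'
    rw [Finset.mem_inter] at hx hx'
    exact hp (h.meet_unique hl.1 hm.1 hne hl.2 hm.2 hx.1 hx'.1 ▸ hx.2)
  have hcov : (linesAt L p).biUnion (fun l => l ∩ H) = H := by
    ext x
    simp only [Finset.mem_biUnion, Finset.mem_inter]
    constructor
    · rintro ⟨l, -, -, hx⟩; exact hx
    · intro hx
      have hpx : p ≠ x := fun e => hp (e ▸ hx)
      exact ⟨ln L p x, h.mem_linesAt.2 ⟨(h.ln_spec hpx).1, (h.ln_spec hpx).2.1⟩,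
        (h.ln_spec hpx).2.2, hx⟩
  have hsum := congrArg Finset.card hcov
  rw [Finset.card_biUnion hd, hH.1,
    ← Finset.sum_filter_add_sum_filter_not (linesAt L p) (fun l => l ∩ H = ∅)] at hsum
  have z0 : ∑ l ∈ (linesAt L p).filter (fun l => l ∩ H = ∅), (l ∩ H).card = 0 :=
    Finset.sum_eq_zero fun l hl => by rw [(Finset.mem_filter.1 hl).2]; rfl
  have z2 : ∀ l ∈ (linesAt L p).filter (fun l => ¬ l ∩ H = ∅), (l ∩ H).card = 2 := fun l hl => by
    obtain ⟨hl, hne⟩ := Finset.mem_filter.1 hl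
    obtain ⟨x, hx⟩ := Finset.nonempty_of_ne_empty hne
    rw [Finset.mem_inter] at hx
    obtain ⟨y, -, hne', -, hi⟩ := h.line_through_oval hH (h.mem_linesAt.1 hl).1 hx.1 hx.2
    rw [hi, Finset.card_pair hne'.symm]
  rw [z0, Finset.sum_const_nat z2] at hsum
  have := Finset.card_filter_add_card_filter_not (s := linesAt L p) (fun l => l ∩ H = ∅)
  rw [h.card_linesAt] at this
  show ((linesAt L p).filter fun l => l ∩ H = ∅).card = 2
  omega

/-- Five points pairwise on exterior lines lie on one line. -/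
theorem five_collinear (h : IsPlane L) {H : Finset α} (hH : H.card = 6 ∧ Arc L H)
    {P : Finset α} (h5 : P.card = 5) (hout : ∀ p ∈ P, p ∉ H)
    (hext : ∀ p ∈ P, ∀ q ∈ P, p ≠ q → ln L p q ∩ H = ∅) : P ∈ L := by
  classical
  have hmem : ∀ p ∈ P, ∀ q ∈ P, p ≠ q → ln L p q ∈ extLines L H p := fun p hp q hq hne =>
    Finset.mem_filter.2 ⟨h.mem_linesAt.2 ⟨(h.ln_spec hne).1, (h.ln_spec hne).2.1⟩, hext p hp q hq hne⟩
  obtain ⟨p, hp⟩ := Finset.card_pos.1 (show 0 < P.card by omega)
  obtain ⟨A, B, hAB, hE⟩ := Finset.card_eq_two.1 (h.card_extLines hH (hout p hp))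
  have hAm := h.mem_linesAt.1 (Finset.mem_filter.1 (show A ∈ extLines L H p by rw [hE]; simp)).1
  have hBm := h.mem_linesAt.1 (Finset.mem_filter.1 (show B ∈ extLines L H p by rw [hE]; simp)).1
  have hAB' : ∀ q ∈ P, q ∈ A ∨ q ∈ B := fun q hq => by
    by_cases e : q = p
    · exact Or.inl (e ▸ hAm.2)
    have := hmem p hp q hq (Ne.symm e)
    rw [hE] at this
    simp only [Finset.mem_insert, Finset.mem_singleton] at this
    rcases this with e' | e'
    · exact Or.inl (e' ▸ (h.ln_spec (Ne.symm e)).2.2)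
    · exact Or.inr (e' ▸ (h.ln_spec (Ne.symm e)).2.2)
  -- if some point is on `A` and another on `B`, no third one is on `A`
  have cross : ∀ {A B : Finset α}, A ∈ L → p ∈ A → A ∩ H = ∅ → B ∈ L → p ∈ B → B ∩ H = ∅ → A ≠ B →
      ∀ q ∈ P, q ≠ p → q ∈ A → ∀ r ∈ P, r ≠ p → r ∈ A → q ≠ r →
      ∀ s ∈ P, s ≠ p → s ∈ B → False := by
    intro A B hA hpA hA0 hB hpB hB0 hne q hq hqp hqA r hr hrp hrA hqr s hs hsp hsB
    have hqs : q ≠ s := fun e => hqp (h.meet_unique hA hB hne hqA (e ▸ hsB) hpA hpB)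
    have hrs : r ≠ s := fun e => hrp (h.meet_unique hA hB hne hrA (e ▸ hsB) hpA hpB)
    have hBs : B ∈ extLines L H s := Finset.mem_filter.2 ⟨h.mem_linesAt.2 ⟨hB, hsB⟩, hB0⟩
    have ne1 : ln L s q ≠ B := fun e =>
      hqp (h.meet_unique hA hB hne hqA (e ▸ (h.ln_spec hqs.symm).2.2) hpA hpB)
    have ne2 : ln L s r ≠ B := fun e =>
      hrp (h.meet_unique hA hB hne hrA (e ▸ (h.ln_spec hrs.symm).2.2) hpA hpB)
    have hsA : s ∉ A := fun e => hsp (h.meet_unique hA hB hne e hsB hpA hpB)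
    have ne3 : ln L s q ≠ ln L s r := fun e => hsA (by
      rw [← h.line_eq (h.ln_spec hqs.symm).1 hA hqr (h.ln_spec hqs.symm).2.2
        (e ▸ (h.ln_spec hrs.symm).2.2) hqA hrA]
      exact (h.ln_spec hqs.symm).2.1)
    have := Finset.card_le_card (show ({B, ln L s q, ln L s r} : Finset (Finset α)) ⊆ extLines L H s by
      simp only [Finset.insert_subset_iff, Finset.singleton_subset_iff]
      exact ⟨hBs, hmem s hs q hq hqs.symm, hmem s hs r hr hrs.symm⟩)
    rw [h.card_extLines hH (hout s hs), Finset.card_eq_three.2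
      ⟨B, ln L s q, ln L s r, ne1.symm, ne2.symm, ne3, rfl⟩] at this
    omega
  have hA0 : A ∩ H = ∅ := (Finset.mem_filter.1 (show A ∈ extLines L H p by rw [hE]; simp)).2
  have hB0 : B ∩ H = ∅ := (Finset.mem_filter.1 (show B ∈ extLines L H p by rw [hE]; simp)).2
  have hsum : 4 ≤ ((P.erase p).filter (· ∈ A)).card + ((P.erase p).filter (· ∈ B)).card := by
    refine le_trans ?_ (Finset.card_union_le _ _)
    rw [show (P.erase p).filter (· ∈ A) ∪ (P.erase p).filter (· ∈ B) = P.erase p from ?_,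
      Finset.card_erase_of_mem hp, h5]
    rw [← Finset.filter_or]
    exact Finset.filter_true_of_mem fun q hq => hAB' q (Finset.mem_of_mem_erase hq)
  have sub : ∀ {A B : Finset α}, A ∈ L → p ∈ A → A ∩ H = ∅ → B ∈ L → p ∈ B → B ∩ H = ∅ → A ≠ B →
      2 ≤ ((P.erase p).filter (· ∈ A)).card → (∀ q ∈ P, q ∈ A ∨ q ∈ B) → P = A := by
    intro A B hA hpA hA0 hB hpB hB0 hne h2 hor
    obtain ⟨q, hq, r, hr, hqr⟩ := Finset.one_lt_card.1 h2
    simp only [Finset.mem_filter, Finset.mem_erase] at hq hr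
    refine Finset.eq_of_subset_of_card_le (fun s hs => ?_) (by rw [h.card_line hA, h5])
    by_cases hsp : s = p
    · rwa [hsp]
    rcases hor s hs with hsA | hsB
    · exact hsA
    · exact (cross hA hpA hA0 hB hpB hB0 hne q hq.1.2 hq.1.1 hq.2 r hr.1.2 hr.1.1 hr.2 hqr s hs hsp
        hsB).elim
  rcases Nat.lt_or_ge ((P.erase p).filter (· ∈ A)).card 2 with hlt | hge
  · rw [sub hBm.1 hBm.2 hB0 hAm.1 hAm.2 hA0 hAB.symm (by omega) fun q hq => (hAB' q hq).symm]
    exact hBm.1
  · rw [sub hAm.1 hAm.2 hA0 hBm.1 hBm.2 hB0 hAB hge hAB']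
    exact hAm.1

end IsPlane

variable {β : Type*} [Fintype β] [DecidableEq β] {L' : Set (Finset β)}

/-- A map of planes sends lines to lines. -/
theorem exists_extension (h : IsPlane L) (h' : IsPlane L') {H : Finset α} {H' : Finset β}
    (hH : H.card = 6 ∧ Arc L H) (hH' : H'.card = 6 ∧ Arc L' H') (σ : {p // p ∈ H} ≃ {q // q ∈ H'}) :
    ∃ φ : α ≃ β, (∀ p : {p // p ∈ H}, φ p = σ p) ∧ ∀ l ∈ L, l.image φ ∈ L' := by
  classical
  let τ : α → β → Prop := fun p q => ∀ a b : {p // p ∈ H}, a ≠ b →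
    IsPlane.SynPair L H p {(a : α), (b : α)} → IsPlane.SynPair L' H' q {(σ a : β), (σ b : β)}
  have hex : ∀ p, p ∉ H → ∃ q, q ∉ H' ∧ τ p q := by
    intro p hp
    obtain ⟨a, ha⟩ := Finset.card_pos.1 (show 0 < H.card by rw [hH.1]; norm_num)
    obtain ⟨s, hs, has⟩ := h.syn_cover hH hp ha
    obtain ⟨c, hc, hcs⟩ := Finset.exists_mem_notMem_of_card_lt_card
      (show s.card < H.card by rw [hs.1, hH.1]; norm_num)
    obtain ⟨t, ht, hct⟩ := h.syn_cover hH hp hc
    obtain ⟨b, hab, rfl⟩ : ∃ b, a ≠ b ∧ s = {a, b} := by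
      obtain ⟨x, y, hxy, rfl⟩ := Finset.card_eq_two.1 hs.1
      simp only [Finset.mem_insert, Finset.mem_singleton] at has
      rcases has with rfl | rfl
      · exact ⟨y, hxy, rfl⟩
      · exact ⟨x, hxy.symm, Finset.pair_comm x a⟩
    obtain ⟨d, hcd, rfl⟩ : ∃ d, c ≠ d ∧ t = {c, d} := by
      obtain ⟨x, y, hxy, rfl⟩ := Finset.card_eq_two.1 ht.1
      simp only [Finset.mem_insert, Finset.mem_singleton] at hct
      rcases hct with rfl | rfl
      · exact ⟨y, hxy, rfl⟩
      · exact ⟨x, hxy.symm, Finset.pair_comm x c⟩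
    have hb : b ∈ H := by
      obtain ⟨-, l, -, -, e⟩ := hs
      exact (Finset.mem_inter.1 (e.symm ▸ Finset.mem_insert_of_mem (Finset.mem_singleton_self b))).2
    have hd : d ∈ H := by
      obtain ⟨-, l, -, -, e⟩ := ht
      exact (Finset.mem_inter.1 (e.symm ▸ Finset.mem_insert_of_mem (Finset.mem_singleton_self d))).2
    have hdis : Disjoint ({a, b} : Finset α) {c, d} := Finset.disjoint_left.2 fun x hx hx' =>
      hcs (h.syn_unique hp hs ht hx hx' ▸ (by simp))
    let A : {p // p ∈ H} := ⟨a, ha⟩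
    let B : {p // p ∈ H} := ⟨b, hb⟩
    let C : {p // p ∈ H} := ⟨c, hc⟩
    let D : {p // p ∈ H} := ⟨d, hd⟩
    have inj : ∀ {x y : {p // p ∈ H}}, (x : α) ≠ y → (σ x : β) ≠ σ y := fun hxy e =>
      hxy (congrArg Subtype.val (σ.injective (Subtype.ext e)))
    have hAB : (σ A : β) ≠ σ B := inj hab
    have hCD : (σ C : β) ≠ σ D := inj hcd
    obtain ⟨g1, g2, g3⟩ := h'.ln_spec hAB
    obtain ⟨k1, k2, k3⟩ := h'.ln_spec hCD
    obtain ⟨q, hq1, hq2⟩ := h'.meet g1 k1
    have hdis' : Disjoint ({(σ A : β), (σ B : β)} : Finset β) {(σ C : β), (σ D : β)} := by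
      rw [Finset.disjoint_left]
      intro x hx hx'
      simp only [Finset.mem_insert, Finset.mem_singleton] at hx hx'
      have hac : a ≠ c := fun e => hcs (by simp [e])
      have had : a ≠ d := fun e => Finset.disjoint_left.1 hdis (by simp : a ∈ _) (by simp [e])
      have hbc : b ≠ c := fun e => hcs (by simp [e])
      have hbd : b ≠ d := fun e =>
        Finset.disjoint_left.1 hdis (by simp : b ∈ ({a, b} : Finset α)) (by simp [e])
      rcases hx with rfl | rfl <;> rcases hx' with e | e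
      exacts [inj (x := A) (y := C) hac e, inj (x := A) (y := D) had e,
        inj (x := B) (y := C) hbc e, inj (x := B) (y := D) hbd e]
    have hqH : q ∉ H' := by
      intro hqH
      rcases h'.arc_iff.1 hH'.2 _ (σ A).2 _ (σ B).2 hAB q hqH hq1 with e | e <;>
      rcases h'.arc_iff.1 hH'.2 _ (σ C).2 _ (σ D).2 hCD q hqH hq2 with e' | e' <;>
        exact Finset.disjoint_left.1 hdis' (show q ∈ _ by simp [e]) (by simp [e'])
    have s1 : IsPlane.SynPair L' H' q {(σ A : β), (σ B : β)} :=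
      (h'.sees_iff hH' (σ A).2 (σ B).2 hAB).2 hq1
    have s2 : IsPlane.SynPair L' H' q {(σ C : β), (σ D : β)} :=
      (h'.sees_iff hH' (σ C).2 (σ D).2 hCD).2 hq2
    refine ⟨q, hqH, fun x y hxy hsyn => ?_⟩
    have hpart := h.syn_partition hH hp hs ht hab hcd hdis
    by_cases hx1 : (x : α) ∈ ({a, b} : Finset α)
    · have e := h.syn_unique hp hsyn hs (Finset.mem_insert_self _ _) hx1
      have : ({(σ x : β), (σ y : β)} : Finset β) = {(σ A : β), (σ B : β)} := by
        have e' : ({x, y} : Finset {p // p ∈ H}) = {A, B} :=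
          Finset.map_injective (Function.Embedding.subtype _) (by simpa [A, B] using e)
        simpa using congrArg (Finset.image fun z => (σ z : β)) e'
      rw [this]; exact s1
    by_cases hx2 : (x : α) ∈ ({c, d} : Finset α)
    · have e := h.syn_unique hp hsyn ht (Finset.mem_insert_self _ _) hx2
      have : ({(σ x : β), (σ y : β)} : Finset β) = {(σ C : β), (σ D : β)} := by
        have e' : ({x, y} : Finset {p // p ∈ H}) = {C, D} :=
          Finset.map_injective (Function.Embedding.subtype _) (by simpa [C, D] using e)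
        simpa using congrArg (Finset.image fun z => (σ z : β)) e'
      rw [this]; exact s2
    have hy1 : (y : α) ∉ ({a, b} : Finset α) := fun hy => hx1
      (h.syn_unique hp hsyn hs (by simp) hy ▸ Finset.mem_insert_self _ _)
    have hy2 : (y : α) ∉ ({c, d} : Finset α) := fun hy => hx2
      (h.syn_unique hp hsyn ht (by simp) hy ▸ Finset.mem_insert_self _ _)
    have hpart' := h'.syn_partition hH' hqH s1 s2 hAB hCD hdis'
    have hxy' : (σ x : β) ≠ σ y := inj fun e => hxy (Subtype.ext e)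
    suffices ({(σ x : β), (σ y : β)} : Finset β) = H' \ ({(σ A : β), (σ B : β)} ∪ {(σ C : β), (σ D : β)}) by
      rw [this]; exact hpart'
    refine Finset.eq_of_subset_of_card_le ?_ (by rw [hpart'.1, Finset.card_pair hxy'])
    intro z hz
    rw [Finset.mem_sdiff, Finset.mem_union]
    simp only [Finset.mem_insert, Finset.mem_singleton] at hz hx1 hx2 hy1 hy2 ⊢
    push Not at hx1 hx2 hy1 hy2
    rcases hz with rfl | rfl
    · refine ⟨(σ x).2, ?_⟩
      rintro ((e | e) | (e | e))
      exacts [inj (x := x) (y := A) hx1.1 e, inj (x := x) (y := B) hx1.2 e,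
        inj (x := x) (y := C) hx2.1 e, inj (x := x) (y := D) hx2.2 e]
    · refine ⟨(σ y).2, ?_⟩
      rintro ((e | e) | (e | e))
      exacts [inj (x := y) (y := A) hy1.1 e, inj (x := y) (y := B) hy1.2 e,
        inj (x := y) (y := C) hy2.1 e, inj (x := y) (y := D) hy2.2 e]
  choose g hg hgτ using hex
  let f : α → β := fun p => if hp : p ∈ H then σ ⟨p, hp⟩ else g p hp
  have fin_f : ∀ {p : α} (hp : p ∈ H), f p = σ ⟨p, hp⟩ := fun hp => dif_pos hp
  have fout : ∀ {p : α} (hp : p ∉ H), f p = g p hp := fun hp => dif_neg hp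
  have finj : Function.Injective f := by
    intro p q e
    by_cases hp : p ∈ H <;> by_cases hq : q ∈ H
    · rw [fin_f hp, fin_f hq] at e
      exact congrArg Subtype.val (σ.injective (Subtype.ext e))
    · rw [fin_f hp, fout hq] at e
      exact absurd (e ▸ (σ ⟨p, hp⟩).2) (hg q hq)
    · rw [fout hp, fin_f hq] at e
      exact absurd (e.symm ▸ (σ ⟨q, hq⟩).2) (hg p hp)
    · rw [fout hp, fout hq] at e
      refine h.syn_eq hH hp hq fun s hs => ?_
      obtain ⟨a, b, hab, rfl⟩ := Finset.card_eq_two.1 hs.1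
      have hmem : a ∈ H ∧ b ∈ H := by
        obtain ⟨-, l, -, -, e⟩ := hs
        constructor
        · exact (Finset.mem_inter.1 (e.symm ▸ Finset.mem_insert_self a {b})).2
        · exact (Finset.mem_inter.1 (e.symm ▸ Finset.mem_insert_of_mem (Finset.mem_singleton_self b))).2
      obtain ⟨t, ht, hat⟩ := h.syn_cover hH hq hmem.1
      obtain ⟨x, y, hxy, rfl⟩ := Finset.card_eq_two.1 ht.1
      have hxH : x ∈ H ∧ y ∈ H := by
        obtain ⟨-, l, -, -, e⟩ := ht
        constructor
        · exact (Finset.mem_inter.1 (e.symm ▸ Finset.mem_insert_self x {y})).2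
        · exact (Finset.mem_inter.1 (e.symm ▸ Finset.mem_insert_of_mem (Finset.mem_singleton_self y))).2
      have t1 := hgτ p hp ⟨a, hmem.1⟩ ⟨b, hmem.2⟩ (fun e' => hab (congrArg Subtype.val e')) hs
      have t2 := hgτ q hq ⟨x, hxH.1⟩ ⟨y, hxH.2⟩ (fun e' => hxy (congrArg Subtype.val e')) ht
      rw [e] at t1
      have haim : (σ ⟨a, hmem.1⟩ : β) ∈ ({(σ ⟨x, hxH.1⟩ : β), (σ ⟨y, hxH.2⟩ : β)} : Finset β) := by
        simp only [Finset.mem_insert, Finset.mem_singleton] at hat ⊢
        rcases hat with rfl | rfl <;> simp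
      have e3 := h'.syn_unique (hg q hq) t1 t2 (Finset.mem_insert_self _ _) haim
      have hbm : b ∈ ({x, y} : Finset α) := by
        have : (σ ⟨b, hmem.2⟩ : β) ∈ ({(σ ⟨x, hxH.1⟩ : β), (σ ⟨y, hxH.2⟩ : β)} : Finset β) :=
          e3 ▸ by simp
        simp only [Finset.mem_insert, Finset.mem_singleton] at this ⊢
        rcases this with e' | e'
        · exact Or.inl (congrArg Subtype.val (σ.injective (Subtype.ext e')))
        · exact Or.inr (congrArg Subtype.val (σ.injective (Subtype.ext e')))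
      rwa [show ({a, b} : Finset α) = {x, y} from Finset.eq_of_subset_of_card_le
        (Finset.insert_subset hat (Finset.singleton_subset_iff.2 hbm))
        (by rw [Finset.card_pair hab, Finset.card_pair hxy])]
  let φ : α ≃ β := Equiv.ofBijective f ((Fintype.bijective_iff_injective_and_card f).2
    ⟨finj, h.card.trans h'.card.symm⟩)
  have hφ : ∀ p, φ p = f p := fun _ => rfl
  have sec : ∀ a b : {p // p ∈ H}, a ≠ b → ∀ p, p ∈ ln L (a : α) b →
      f p ∈ ln L' (σ a : β) (σ b) := by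
    intro a b hab p hpl
    have hab' : (a : α) ≠ b := fun e => hab (Subtype.ext e)
    have hab'' : (σ a : β) ≠ σ b := fun e => hab (σ.injective (Subtype.ext e))
    obtain ⟨g1, g2, g3⟩ := h'.ln_spec hab''
    by_cases hp : p ∈ H
    · rcases h.arc_iff.1 hH.2 _ a.2 _ b.2 hab' p hp hpl with rfl | rfl
      · rw [fin_f a.2]; exact g2
      · rw [fin_f b.2]; exact g3
    · rw [fout hp]
      exact (h'.sees_iff hH' (σ a).2 (σ b).2 hab'').1
        (hgτ p hp a b hab ((h.sees_iff hH a.2 b.2 hab').2 hpl))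
  refine ⟨φ, fun p => by rw [hφ, fin_f p.2], fun l hl => ?_⟩
  have hc5 : (l.image φ).card = 5 := by
    rw [Finset.card_image_of_injective _ φ.injective, h.card_line hl]
  by_cases hne : (l ∩ H).Nonempty
  · obtain ⟨x, hx⟩ := hne
    rw [Finset.mem_inter] at hx
    obtain ⟨y, hy, hyx, rfl, -⟩ := h.line_through_oval hH hl hx.1 hx.2
    have hab : (⟨x, hx.2⟩ : {p // p ∈ H}) ≠ ⟨y, hy⟩ := fun e => hyx (congrArg Subtype.val e).symm
    have hab'' : (σ ⟨x, hx.2⟩ : β) ≠ σ ⟨y, hy⟩ := fun e => hab (σ.injective (Subtype.ext e))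
    have : (ln L x y).image φ = ln L' (σ ⟨x, hx.2⟩ : β) (σ ⟨y, hy⟩) :=
      Finset.eq_of_subset_of_card_le (Finset.image_subset_iff.2 fun p hp => by
        rw [hφ]; exact sec _ _ hab p hp) (by rw [hc5, h'.card_line (h'.ln_spec hab'').1])
    rw [this]; exact (h'.ln_spec hab'').1
  · have hout : ∀ p ∈ l, p ∉ H := fun p hp hpH => hne ⟨p, Finset.mem_inter.2 ⟨hp, hpH⟩⟩
    refine h'.five_collinear hH' hc5 ?_ ?_
    · intro q hq
      obtain ⟨p, hp, rfl⟩ := Finset.mem_image.1 hq
      rw [hφ, fout (hout p hp)]; exact hg p _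
    · intro q hq r hr hqr
      obtain ⟨p, hp, rfl⟩ := Finset.mem_image.1 hq
      obtain ⟨p', hp', rfl⟩ := Finset.mem_image.1 hr
      have hpp : p ≠ p' := fun e => hqr (by rw [e])
      obtain ⟨g1, g2, g3⟩ := h'.ln_spec hqr
      by_contra hmeet
      obtain ⟨x, hx⟩ := Finset.nonempty_of_ne_empty hmeet
      rw [Finset.mem_inter] at hx
      obtain ⟨y, hy, hyx, hline, -⟩ := h'.line_through_oval hH' g1 hx.1 hx.2
      set a := σ.symm ⟨x, hx.2⟩
      set b := σ.symm ⟨y, hy⟩
      have hab : a ≠ b := fun e => hyx (congrArg Subtype.val (σ.symm.injective e)).symm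
      have hab' : (a : α) ≠ b := fun e => hab (Subtype.ext e)
      obtain ⟨k1, k2, k3⟩ := h.ln_spec hab'
      have back : ∀ u ∈ l, φ u ∈ ln L' x y → u ∈ ln L (a : α) b := by
        intro u hu hu'
        have him : (ln L (a : α) b).image φ = ln L' x y := by
          refine Finset.eq_of_subset_of_card_le (Finset.image_subset_iff.2 fun v hv => ?_) ?_
          · have := sec a b hab v hv
            simp only [a, b, Equiv.apply_symm_apply] at this
            rw [hφ]; exact this
          · rw [Finset.card_image_of_injective _ φ.injective, h.card_line k1,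
              h'.card_line (h'.ln_spec hyx.symm).1]
        rw [← him, Finset.mem_image] at hu'
        obtain ⟨v, hv, e⟩ := hu'
        rwa [← φ.injective e]
      have e := h.line_eq hl k1 hpp hp hp' (back p hp (hline ▸ g2)) (back p' hp' (hline ▸ g3))
      exact hne ⟨a, Finset.mem_inter.2 ⟨e ▸ k2, a.2⟩⟩

theorem image_line_set (h : IsPlane L) (h' : IsPlane L') (φ : α ≃ β)
    (hφ : ∀ l ∈ L, l.image φ ∈ L') : (fun l => l.image φ) '' L = L' := by
  refine Set.Subset.antisymm (by rintro _ ⟨l, hl, rfl⟩; exact hφ l hl) fun m hm => ?_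
  obtain ⟨x, hx, y, hy, hxy⟩ := Finset.one_lt_card.1 (show 1 < m.card by rw [h'.card_line hm]; norm_num)
  obtain ⟨g1, g2, g3⟩ := h.ln_spec (show φ.symm x ≠ φ.symm y from fun e => hxy (φ.symm.injective e))
  refine ⟨_, g1, h'.line_eq (hφ _ g1) hm hxy ?_ ?_ hx hy⟩
  · exact Finset.mem_image.2 ⟨_, g2, by simp⟩
  · exact Finset.mem_image.2 ⟨_, g3, by simp⟩

theorem eq_of_agree (h : IsPlane L) {H : Finset α} (hH : H.card = 6 ∧ Arc L H) {φ ψ : α ≃ α}
    (hφ : ∀ l ∈ L, l.image φ ∈ L) (hψ : ∀ l ∈ L, l.image ψ ∈ L) (he : ∀ p ∈ H, φ p = ψ p) :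
    φ = ψ := by
  refine Equiv.ext fun p => ?_
  by_cases hp : p ∈ H
  · exact he p hp
  obtain ⟨a, ha⟩ := Finset.card_pos.1 (show 0 < H.card by rw [hH.1]; norm_num)
  obtain ⟨s, hs, has⟩ := h.syn_cover hH hp ha
  obtain ⟨c, hc, hcs⟩ := Finset.exists_mem_notMem_of_card_lt_card
    (show s.card < H.card by rw [hs.1, hH.1]; norm_num)
  obtain ⟨t, ht, hct⟩ := h.syn_cover hH hp hc
  obtain ⟨h2, l, hl, hpl, el⟩ := hs
  obtain ⟨h2', m, hm, hpm, em⟩ := ht
  have same : ∀ {l : Finset α}, l ∈ L → (l ∩ H).card = 2 → l.image φ = l.image ψ := by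
    intro l hl h2
    obtain ⟨x, y, hxy, e⟩ := Finset.card_eq_two.1 h2
    have hx : x ∈ l ∩ H := by simp [e]
    have hy : y ∈ l ∩ H := by simp [e]
    rw [Finset.mem_inter] at hx hy
    refine h.line_eq (hφ l hl) (hψ l hl) (φ.injective.ne hxy) (Finset.mem_image_of_mem _ hx.1)
      (Finset.mem_image_of_mem _ hy.1) ?_ ?_
    · rw [he x hx.2]; exact Finset.mem_image_of_mem _ hx.1
    · rw [he y hy.2]; exact Finset.mem_image_of_mem _ hy.1
  have hlm : l ≠ m := fun e => hcs (by rw [← el, e, em]; exact hct)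
  refine h.meet_unique (hφ l hl) (hφ m hm)
    (fun e => hlm (Finset.image_injective φ.injective e)) (Finset.mem_image_of_mem _ hpl)
    (Finset.mem_image_of_mem _ hpm) ?_ ?_
  · rw [same hl (el.symm ▸ h2)]; exact Finset.mem_image_of_mem _ hpl
  · rw [same hm (em.symm ▸ h2')]; exact Finset.mem_image_of_mem _ hpm

theorem setSystemIso (h : IsPlane L) (h' : IsPlane L') : SetSystemIso L L' := by
  obtain ⟨H, hH⟩ := h.exists_hyperoval
  obtain ⟨H', hH'⟩ := h'.exists_hyperoval
  obtain ⟨σ⟩ : Nonempty ({p // p ∈ H} ≃ {q // q ∈ H'}) :=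
    ⟨Fintype.equivOfCardEq (by rw [Fintype.card_coe, Fintype.card_coe, hH.1, hH'.1])⟩
  obtain ⟨φ, -, hφ⟩ := exists_extension h h' hH hH' σ
  exact ⟨φ, image_line_set h h' φ hφ⟩

theorem extend_unique (h : IsPlane L) {H : Finset α} (hH : H.card = 6 ∧ Arc L H)
    (σ : Equiv.Perm ↥H) : ∃! g : Equiv.Perm α, g ∈ setSystemAut L ∧ ∀ p : ↥H, g p = σ p := by
  obtain ⟨φ, hσ, hφ⟩ := exists_extension h h hH hH σ
  have key : ∀ g : Equiv.Perm α, g ∈ setSystemAut L ↔ ∀ l ∈ L, l.image g ∈ L := by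
    intro g
    rw [MulAction.mem_stabilizer_iff]
    constructor
    · intro e l hl
      rw [← e]; exact ⟨l, hl, rfl⟩
    · exact fun hg => image_line_set h h g hg
  refine ⟨φ, ⟨(key φ).2 hφ, hσ⟩, ?_⟩
  rintro g ⟨hg, hgσ⟩
  exact eq_of_agree h hH ((key g).1 hg) hφ fun p hp => (hgσ ⟨p, hp⟩).trans (hσ ⟨p, hp⟩).symm

end CfsgLib.Mathieu.Plane
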