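import Cfsg.Agent.Lib.Mathieu.SevenData
import Cfsg.Agent.Lib.Mathieu.FreeInvol

/-! The normaliser of a subgroup of order seven of `M24`. -/

set_option autoImplicit false
set_option maxRecDepth 100000

namespace CfsgLib.Mathieu

open Cfsg CfsgLib.Golay
open scoped Pointwise

theorem seven_chain : cChainOK [] sSevenPows sSevenLevels sSevenFin = true := by decide +kernel

theorem sSeven_mem : permOf sSeven ∈ M24 := inM24_mem (by decide +kernel)
theorem nSeven_mem : permOf nSeven ∈ M24 := inM24_mem (by decide +kernel)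

theorem sSeven_pow : permOf sSeven ^ 7 = 1 :=
  (powOneIn_sound (X := []) (by decide +kernel : powOneIn [] 7 sSeven = true)).2

/-- The generator of the standard subgroup of order seven. -/
noncomputable def sev : M24 := ⟨permOf sSeven, sSeven_mem⟩
/-- An element squaring it. -/
noncomputable def nSev : M24 := ⟨permOf nSeven, nSeven_mem⟩

theorem sev_pow : sev ^ 7 = 1 := Subtype.ext sSeven_pow

theorem sev_ne_one : sev ≠ 1 := fun e => by
  have h : permOf sSeven = 1 := congrArg Subtype.val e
  have hv : valid sSeven = true := by decide +kernel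
  have := permOf_pt hv (show invSevenBase < 24 by decide +kernel)
  rw [h, Equiv.Perm.one_apply] at this
  revert this
  decide +kernel

theorem orderOf_sev : orderOf sev = 7 := by
  haveI : Fact (Nat.Prime 7) := ⟨by norm_num⟩
  exact orderOf_eq_prime sev_pow sev_ne_one

theorem nSev_conj : nSev * sev = sev ^ 2 * nSev := by
  refine Subtype.ext ?_
  show permOf nSeven * permOf sSeven = permOf sSeven ^ 2 * permOf nSeven
  have hv : valid sSeven = true := by decide +kernel
  have hn : valid nSeven = true := by decide +kernel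
  have key : (List.range 24).all (fun i =>
      Nat.beq (img nSeven (img sSeven i)) (img sSeven (img sSeven (img nSeven i)))) = true := by
    decide +kernel
  refine Equiv.ext fun p => ?_
  rw [Equiv.Perm.mul_apply, Equiv.Perm.mul_apply, pow_two, Equiv.Perm.mul_apply, permOf_apply hv p,
    permOf_apply hn p, permOf_pt hn (valid_lt hv (idx_lt p)),
    permOf_pt hv (valid_lt hn (idx_lt p)), permOf_pt hv (valid_lt hv (valid_lt hn (idx_lt p)))]
  rw [Nat.eq_of_beq_eq_true (List.all_eq_true.1 key _ (List.mem_range.2 (idx_lt p)))]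

theorem seven_pows : ∀ t ∈ sSevenPows, ∃ n : ℕ, permOf t = permOf sSeven ^ n := by
  have hs : valid sSeven = true := by decide +kernel
  have key : (List.range sSevenPows.length).all (fun k =>
      valid (sSevenPows.getD k 0) && (List.range 24).all fun i =>
        Nat.beq (img (sSevenPows.getD k 0) i) (imgIter sSeven (k + 1) i)) = true := by decide +kernel
  intro t ht
  obtain ⟨k, hk, rfl⟩ := List.getElem_of_mem ht
  have := List.all_eq_true.1 key k (List.mem_range.2 hk)
  simp only [Bool.and_eq_true, List.all_eq_true, List.getD_eq_getElem _ _ hk] at this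
  refine ⟨k + 1, Equiv.ext fun p => ?_⟩
  rw [permOf_apply this.1 p, Nat.eq_of_beq_eq_true (this.2 _ (List.mem_range.2 (idx_lt p))),
    ← (imgIter_spec hs (k + 1) (idx_lt p)).1, pt_idx]

theorem mem_commSeven {σ : M24} :
    (σ : Equiv.Perm GolayPt) ∈ commFix [] sSevenPows ↔ σ * sev = sev * σ := by
  rw [mem_commFix, fixMasks_nil]
  constructor
  · rintro ⟨-, h⟩
    exact Subtype.ext (h sSeven (by decide +kernel))
  · intro h
    refine ⟨σ.2, fun t ht => ?_⟩
    obtain ⟨n, e⟩ := seven_pows t ht
    rw [e]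
    exact ((show Commute (σ : Equiv.Perm GolayPt) (permOf sSeven) from
      congrArg Subtype.val h).pow_right n).eq

theorem seven_no_inverter (σ : M24) : σ * sev ≠ sev⁻¹ * σ := by
  intro h
  have hcert : noIntertwiner invSevenPairs invSevenBase invSevenRefs = true := by decide +kernel
  refine noIntertwiner_sound hcert σ.2 fun p hp => ?_
  have key : invSevenPairs.all (fun p => valid p.1 && valid p.2) = true ∧
      (List.range invSevenPairs.length).all (fun k => (List.range 24).all fun i =>
        Nat.beq (img (invSevenPairs.getD k (0, 0)).1 i) (imgIter sSeven (k + 1) i) &&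
        Nat.beq (img (invSevenPairs.getD k (0, 0)).2 i) (imgIter sSeven (6 - k) i)) = true := by
    decide +kernel
  obtain ⟨k, hk, rfl⟩ := List.getElem_of_mem hp
  have hv := List.all_eq_true.1 key.1 _ (List.getElem_mem hk)
  simp only [Bool.and_eq_true] at hv
  have hi := List.all_eq_true.1 key.2 k (List.mem_range.2 hk)
  simp only [List.all_eq_true, Bool.and_eq_true, List.getD_eq_getElem _ _ hk] at hi
  have hs : valid sSeven = true := by decide +kernel
  have e1 : permOf (invSevenPairs[k]).1 = permOf sSeven ^ (k + 1) := Equiv.ext fun q => by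
    rw [permOf_apply hv.1 q, Nat.eq_of_beq_eq_true (hi _ (List.mem_range.2 (idx_lt q))).1,
      ← (imgIter_spec hs (k + 1) (idx_lt q)).1, pt_idx]
  have e2 : permOf (invSevenPairs[k]).2 = permOf sSeven ^ (6 - k) := Equiv.ext fun q => by
    rw [permOf_apply hv.2 q, Nat.eq_of_beq_eq_true (hi _ (List.mem_range.2 (idx_lt q))).2,
      ← (imgIter_spec hs (6 - k) (idx_lt q)).1, pt_idx]
  have hk6 : k < 6 := lt_of_lt_of_eq hk (by decide +kernel)
  rw [e1, e2]
  have hsc : SemiconjBy (σ : Equiv.Perm GolayPt) (permOf sSeven) (permOf sSeven)⁻¹ :=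
    congrArg Subtype.val h
  have := hsc.pow_right (k + 1)
  rw [inv_pow] at this
  have e : ((permOf sSeven) ^ (k + 1))⁻¹ = permOf sSeven ^ (6 - k) := by
    rw [inv_eq_iff_mul_eq_one, ← pow_add, show k + 1 + (6 - k) = 7 by omega, sSeven_pow]
  rw [e] at this
  exact this

/-- The elements normalising the standard subgroup of order seven. -/
theorem seven_norm_cases {n : M24} (hn : n * sev * n⁻¹ ∈ Subgroup.zpowers sev) :
    ∃ i < 3, (nSev ^ i)⁻¹ * n * sev = sev * ((nSev ^ i)⁻¹ * n) := by
  obtain ⟨k, hk⟩ := (mem_powers_iff_mem_zpowers (x := sev) (y := n * sev * n⁻¹)).2 hn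
  have hk7 : n * sev * n⁻¹ = sev ^ (k % 7) := by
    rw [← hk]; show sev ^ k = _
    conv_lhs => rw [← Nat.mod_add_div k 7, pow_add, pow_mul, sev_pow, one_pow, mul_one]
  have hlt : k % 7 < 7 := Nat.mod_lt _ (by norm_num)
  generalize k % 7 = j at hk7 hlt
  have hsc : SemiconjBy n sev (sev ^ j) := by
    show n * sev = sev ^ j * n
    rw [← hk7]; group
  have hn0 : SemiconjBy nSev sev (sev ^ 2) := nSev_conj
  have hn00 : SemiconjBy (nSev ^ 2) sev (sev ^ 4) := by
    rw [pow_two nSev]
    exact (hn0.pow_right 2).mul_left hn0 |> fun h => by rwa [← pow_mul] at h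
  have good : ∀ i, SemiconjBy (nSev ^ i) sev (sev ^ j) →
      (nSev ^ i)⁻¹ * n * sev = sev * ((nSev ^ i)⁻¹ * n) := fun i hi =>
    ((hi.inv_symm_left).mul_left hsc).eq
  have six : sev ^ 6 = sev⁻¹ := by
    rw [eq_inv_iff_mul_eq_one, ← pow_succ, sev_pow]
  interval_cases j
  · exfalso
    rw [pow_zero] at hk7
    exact sev_ne_one (conj_eq_one_iff.1 hk7)
  · exact ⟨0, by norm_num, good 0 (by
      show nSev ^ 0 * sev = sev ^ 1 * nSev ^ 0; simp)⟩
  · exact ⟨1, by norm_num, good 1 (by rw [pow_one nSev]; exact hn0)⟩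
  · exfalso
    refine seven_no_inverter (nSev * n) ?_
    have := (hn0.pow_right 3).mul_left hsc
    rw [← pow_mul, show 2 * 3 = 6 from rfl, six] at this
    exact this.eq
  · exact ⟨2, by norm_num, good 2 hn00⟩
  · exfalso
    refine seven_no_inverter (nSev ^ 2 * n) ?_
    have := (hn00.pow_right 5).mul_left hsc
    rw [← pow_mul, show 4 * 5 = 14 + 6 from rfl, pow_add, show sev ^ 14 = 1 by
      rw [show 14 = 7 * 2 from rfl, pow_mul, sev_pow, one_pow], one_mul, six] at this
    exact this.eq
  · exfalso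
    refine seven_no_inverter n ?_
    rw [six] at hsc
    exact hsc.eq

theorem nSev_cube : nSev ^ 3 * sev = sev * nSev ^ 3 := by
  have hn0 : SemiconjBy nSev sev (sev ^ 2) := nSev_conj
  have h2 : SemiconjBy (nSev ^ 2) sev (sev ^ 4) := by
    rw [pow_two nSev]
    exact (hn0.pow_right 2).mul_left hn0 |> fun h => by rwa [← pow_mul] at h
  have h3 := (hn0.pow_right 4).mul_left h2
  rw [← pow_mul, show 2 * 4 = 7 + 1 from rfl, pow_add, sev_pow, one_mul, pow_one] at h3
  rw [pow_succ' nSev 2]; exact h3.eq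

/-- The trio invariant under the normaliser. -/
theorem seven_trio : sevenTrio ∈ trioPairs ∧
    (∀ n : M24, n * sev * n⁻¹ ∈ Subgroup.zpowers sev →
      (n : Equiv.Perm GolayPt) • trioSet sevenTrio = trioSet sevenTrio) := by
  have hT : sevenTrio ∈ trioPairs := mem_trioPairs.2 (by
    refine ⟨mem_octList.2 ?_, mem_octList.2 ?_, ?_, ?_, ?_⟩ <;> decide +kernel)
  refine ⟨hT, fun n hn => ?_⟩
  have hk : keepsB nSeven (trioList sevenTrio) &&
      sSevenLevels.all (fun lv => lv.2.1.all fun g => keepsB g (trioList sevenTrio)) = true := by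
    decide +kernel
  simp only [Bool.and_eq_true, List.all_eq_true, decide_eq_true_iff] at hk
  have hlt := trioList_lt hT
  have hn0 : permOf nSeven • trioSet sevenTrio = trioSet sevenTrio := by
    rw [trioSet_eq]; exact (keeps_iff (by decide +kernel) hlt).2 hk.1
  obtain ⟨i, -, hi⟩ := seven_norm_cases hn
  obtain ⟨w, hw, hwv, e⟩ := cChain_words seven_chain _ (mem_commSeven.2 hi)
  have hwfix : (w.map permOf).prod • trioSet sevenTrio = trioSet sevenTrio := by
    have hmem : ∀ g ∈ w, permOf g • trioSet sevenTrio = trioSet sevenTrio := by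
      intro g hg
      obtain ⟨lv, hlv, hgl⟩ := mem_cWords hw g hg
      rw [trioSet_eq]
      exact (keeps_iff (hwv g hg) hlt).2 (hk.2 lv hlv g hgl)
    clear hw hwv e
    induction w with
    | nil => simp
    | cons g w ih =>
      rw [List.map_cons, List.prod_cons, mul_smul,
        ih fun a ha => hmem a (List.mem_cons_of_mem _ ha), hmem g List.mem_cons_self]
  have hpow : ((nSev ^ i : M24) : Equiv.Perm GolayPt) • trioSet sevenTrio = trioSet sevenTrio := by
    clear hi e
    induction i with
    | zero => simp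
    | succ m ih =>
      rw [pow_succ, Subgroup.coe_mul, mul_smul]
      show _ • permOf nSeven • _ = _
      rw [hn0, ih]
  rw [show n = nSev ^ i * ((nSev ^ i)⁻¹ * n) by rw [mul_inv_cancel_left], Subgroup.coe_mul, mul_smul,
    e, hwfix, hpow]

theorem seven_subgroup (S : Subgroup M24) (hS : Nat.card S = 7) :
    Nat.card ↥(Subgroup.normalizer (S : Set M24)) = 126 ∧
    Nat.card ↥(Subgroup.centralizer (S : Set M24)) = 42 ∧
    (∃ x ∈ Subgroup.centralizer (S : Set M24), ∃ y ∈ Subgroup.centralizer (S : Set M24),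
      x * y ≠ y * x) ∧
    ∃ T ∈ trios, ∀ n ∈ Subgroup.normalizer (S : Set M24),
      ((n : M24) : Equiv.Perm GolayPt) • T = T := by
  classical
  haveI : Fact (Nat.Prime 7) := ⟨by norm_num⟩
  have hf : (Nat.card M24).factorization 7 = 1 := by
    rw [card_M24, show (244823040 : ℕ) = 7 ^ 1 * 34974720 by norm_num,
      Nat.factorization_mul (by norm_num) (by norm_num), Finsupp.add_apply,
      Nat.Prime.factorization_pow (by norm_num), Finsupp.single_eq_same,
      Nat.factorization_eq_zero_of_not_dvd (by norm_num)]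
  have hz : Nat.card (Subgroup.zpowers sev) = 7 := by rw [Nat.card_zpowers, orderOf_sev]
  let P : Sylow 7 M24 := Sylow.ofCard (Subgroup.zpowers sev) (by rw [hz, hf]; norm_num)
  let Q : Sylow 7 M24 := Sylow.ofCard S (by rw [hS, hf]; norm_num)
  obtain ⟨c, hc⟩ := MulAction.exists_smul_eq M24 P Q
  have hSc : S = (Subgroup.zpowers sev).map (MulAut.conj c).toMonoidHom := by
    have : ((c • P : Sylow 7 M24) : Subgroup M24) = S := by rw [hc]; rfl
    exact this.symm
  have hnorm : ∀ n : M24, n ∈ Subgroup.normalizer (S : Set M24) ↔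
      (c⁻¹ * n * c) * sev * (c⁻¹ * n * c)⁻¹ ∈ Subgroup.zpowers sev := by
    intro n
    have hgen : ∀ y, y ∈ S ↔ c⁻¹ * y * c ∈ Subgroup.zpowers sev := fun y => by
      rw [hSc, Subgroup.mem_map_equiv]; simp [MulAut.conj_symm_apply]
    constructor
    · intro hn
      have := (Subgroup.mem_normalizer_iff.1 hn (c * sev * c⁻¹)).1
        ((hgen _).2 (by rw [show c⁻¹ * (c * sev * c⁻¹) * c = sev by group]; exact Subgroup.mem_zpowers _))
      rw [hgen] at this
      convert this using 1; group
    · intro h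
      set m := c⁻¹ * n * c with hm
      have hmap : ∀ z ∈ Subgroup.zpowers sev, m * z * m⁻¹ ∈ Subgroup.zpowers sev := by
        intro z hz
        obtain ⟨i, rfl⟩ := Subgroup.mem_zpowers_iff.1 hz
        rw [← conj_zpow]
        exact Subgroup.zpow_mem _ h i
      refine Subgroup.mem_normalizer_fintype (S := (S : Set M24)) fun y hy => ?_
      rw [SetLike.mem_coe, hgen] at hy ⊢
      have := hmap _ hy
      convert this using 1
      rw [hm]; group
  have hcent : ∀ n : M24, n ∈ Subgroup.centralizer (S : Set M24) ↔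
      (c⁻¹ * n * c) * sev = sev * (c⁻¹ * n * c) := by
    intro n
    rw [hSc, MonoidHom.map_zpowers, Subgroup.zpowers_eq_closure, Subgroup.centralizer_closure]
    rw [Subgroup.mem_centralizer_singleton_iff]
    simp only [MulEquiv.coe_toMonoidHom, MulAut.conj_apply]
    constructor
    · intro h
      calc c⁻¹ * n * c * sev = c⁻¹ * (n * (c * sev * c⁻¹)) * c := by group
        _ = sev * (c⁻¹ * n * c) := by rw [h]; group
    · intro h
      calc n * (c * sev * c⁻¹) = c * (c⁻¹ * n * c * sev) * c⁻¹ := by group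
        _ = c * sev * c⁻¹ * n := by rw [h]; group
  let Cm := commFix [] sSevenPows
  have eC : ↥(Subgroup.centralizer (S : Set M24)) ≃ ↥Cm :=
    { toFun := fun n => ⟨((c⁻¹ * n.1 * c : M24) : Equiv.Perm GolayPt),
        mem_commSeven.2 ((hcent n.1).1 n.2)⟩
      invFun := fun σ => ⟨c * ⟨σ.1, (fixMasks_le _ σ.2.1)⟩ * c⁻¹, (hcent _).2 (by
        rw [show c⁻¹ * (c * (⟨σ.1, fixMasks_le _ σ.2.1⟩ : M24) * c⁻¹) * c = ⟨σ.1, fixMasks_le _ σ.2.1⟩
          by group]
        exact mem_commSeven.1 σ.2)⟩
      left_inv := fun n => Subtype.ext (by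
        show c * (c⁻¹ * n.1 * c) * c⁻¹ = n.1
        group)
      right_inv := fun σ => by
        have h : c⁻¹ * (c * (⟨σ.1, fixMasks_le _ σ.2.1⟩ : M24) * c⁻¹) * c =
            ⟨σ.1, fixMasks_le _ σ.2.1⟩ := by group
        exact Subtype.ext (congrArg (fun x : M24 => (x : Equiv.Perm GolayPt)) h) }
  have hC42 : Nat.card Cm = 42 := card_comm_sSeven
  refine ⟨?_, (Nat.card_congr eC).trans hC42, ?_, c • trioSet sevenTrio, ?_, ?_⟩
  · have hfun : ∀ n : ↥(Subgroup.normalizer (S : Set M24)), ∃ i : Fin 3,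
        (nSev ^ (i : ℕ))⁻¹ * (c⁻¹ * n.1 * c) * sev =
          sev * ((nSev ^ (i : ℕ))⁻¹ * (c⁻¹ * n.1 * c)) := fun n => by
      obtain ⟨i, hi, h⟩ := seven_norm_cases ((hnorm n.1).1 n.2)
      exact ⟨⟨i, hi⟩, h⟩
    choose i hi using hfun
    let F : ↥(Subgroup.normalizer (S : Set M24)) → Fin 3 × ↥Cm := fun n =>
      (i n, ⟨(((nSev ^ (i n : ℕ))⁻¹ * (c⁻¹ * n.1 * c) : M24) : Equiv.Perm GolayPt),
        mem_commSeven.2 (hi n)⟩)
    have hinj : Function.Injective F := fun a b hab => by
      obtain ⟨h1, h2⟩ := Prod.mk.injEq _ _ _ _ ▸ hab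
      have h2' : (nSev ^ (i a : ℕ))⁻¹ * (c⁻¹ * a.1 * c) = (nSev ^ (i b : ℕ))⁻¹ * (c⁻¹ * b.1 * c) :=
        Subtype.ext (congrArg (fun x : ↥Cm => x.1) h2)
      rw [h1] at h2'
      exact Subtype.ext (mul_left_cancel (mul_right_cancel (mul_left_cancel h2')))
    have hsurj : Function.Surjective F := by
      rintro ⟨j, σ⟩
      set s : M24 := ⟨σ.1, fixMasks_le _ σ.2.1⟩
      have hs : s * sev = sev * s := mem_commSeven.1 σ.2
      have hsc : SemiconjBy (nSev ^ (j : ℕ) * s) sev (sev ^ (2 ^ (j : ℕ))) := by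
        refine SemiconjBy.mul_left ?_ hs
        have hn0 : SemiconjBy nSev sev (sev ^ 2) := nSev_conj
        have hh : ∀ m : ℕ, SemiconjBy (nSev ^ m) sev (sev ^ (2 ^ m)) := by
          intro m
          induction m with
          | zero => simp
          | succ m ih =>
            rw [pow_succ', pow_succ' 2 m, pow_mul]
            exact (hn0.pow_right (2 ^ m)).mul_left ih
        exact hh j
      have hmem : (c * (nSev ^ (j : ℕ) * s) * c⁻¹) ∈ Subgroup.normalizer (S : Set M24) := by
        rw [hnorm]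
        rw [show c⁻¹ * (c * (nSev ^ (j : ℕ) * s) * c⁻¹) * c = nSev ^ (j : ℕ) * s by group, hsc.eq,
          mul_inv_cancel_right]
        exact Subgroup.pow_mem _ (Subgroup.mem_zpowers _) _
      refine ⟨⟨_, hmem⟩, ?_⟩
      have e : c⁻¹ * (c * (nSev ^ (j : ℕ) * s) * c⁻¹) * c = nSev ^ (j : ℕ) * s := by group
      have h1 := hi ⟨_, hmem⟩
      rw [e] at h1
      have hij : i ⟨_, hmem⟩ = j := by
        -- both exponents move `sev` to the same power
        generalize i ⟨_, hmem⟩ = l at h1 ⊢
        by_contra hne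
        have hh : ∀ m : ℕ, SemiconjBy (nSev ^ m) sev (sev ^ (2 ^ m)) := by
          intro m
          induction m with
          | zero => simp
          | succ m ih =>
            rw [pow_succ', pow_succ' 2 m, pow_mul]
            exact ((show SemiconjBy nSev sev (sev ^ 2) from nSev_conj).pow_right (2 ^ m)).mul_left ih
        have h3 : SemiconjBy (nSev ^ (j : ℕ) * s) sev (sev ^ (2 ^ (l : ℕ))) := by
          have := (hh l).mul_left (show SemiconjBy _ sev sev from h1)
          rwa [mul_inv_cancel_left] at this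
        have heq : sev ^ (2 ^ (l : ℕ)) = sev ^ (2 ^ (j : ℕ)) :=
          mul_right_cancel (h3.eq.symm.trans hsc.eq)
        rw [pow_eq_pow_iff_modEq, orderOf_sev] at heq
        fin_cases l <;> fin_cases j <;> first | exact hne rfl | exact absurd heq (by decide)
      refine Prod.ext hij (Subtype.ext ?_)
      show (((nSev ^ (i ⟨_, hmem⟩ : ℕ))⁻¹ * (c⁻¹ * (c * (nSev ^ (j : ℕ) * s) * c⁻¹) * c) : M24) :
        Equiv.Perm GolayPt) = σ.1
      rw [hij, e, inv_mul_cancel_left]
    rw [Nat.card_congr (Equiv.ofBijective F ⟨hinj, hsurj⟩), Nat.card_prod, hC42,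
      Nat.card_eq_fintype_card, Fintype.card_fin]
  · obtain ⟨a, ha, b, hb, hne⟩ : ∃ a ∈ Cm, ∃ b ∈ Cm, a * b ≠ b * a := by
      have hcheck : (sSevenLevels.flatMap fun lv => lv.2.1).all (fun g => inFix [] g &&
          sSevenPows.all fun t => commB t g) = true := by decide +kernel
      have hne : (sSevenLevels.flatMap fun lv => lv.2.1).any (fun g =>
          (sSevenLevels.flatMap fun lv => lv.2.1).any fun h => (List.range 24).any fun i =>
            !Nat.beq (img g (img h i)) (img h (img g i))) = true := by decide +kernel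
      simp only [List.any_eq_true] at hne
      obtain ⟨g, hg, h, hh, j, hj, hjne⟩ := hne
      have inC : ∀ g ∈ sSevenLevels.flatMap (fun lv => lv.2.1), permOf g ∈ Cm ∧ valid g = true := by
        intro g hg
        have := List.all_eq_true.1 hcheck g hg
        simp only [Bool.and_eq_true, List.all_eq_true] at this
        exact ⟨⟨inFix_mem this.1, fun t ht => commB_sound (this.2 t ht)⟩, inFix_valid this.1⟩
      obtain ⟨g1, g2⟩ := inC g hg
      obtain ⟨h1, h2⟩ := inC h hh
      refine ⟨_, g1, _, h1, fun e => ?_⟩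
      have hj' := List.mem_range.1 hj
      have := congrArg (fun π : Equiv.Perm GolayPt => idx (π (pt j))) e
      simp only [Equiv.Perm.mul_apply, permOf_pt g2 hj', permOf_pt h2 hj',
        permOf_pt g2 (valid_lt h2 hj'), permOf_pt h2 (valid_lt g2 hj'),
        idx_pt (valid_lt g2 (valid_lt h2 hj')), idx_pt (valid_lt h2 (valid_lt g2 hj'))] at this
      simp [this] at hjne
    have inS : ∀ u : Equiv.Perm GolayPt, ∀ hu : u ∈ Cm,
        c * (⟨u, fixMasks_le _ hu.1⟩ : M24) * c⁻¹ ∈ Subgroup.centralizer (S : Set M24) := fun u hu => by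
      rw [hcent, show c⁻¹ * (c * (⟨u, fixMasks_le _ hu.1⟩ : M24) * c⁻¹) * c =
        ⟨u, fixMasks_le _ hu.1⟩ by group]
      exact mem_commSeven.1 hu
    refine ⟨_, inS a ha, _, inS b hb, fun e' => hne ?_⟩
    have := congrArg (fun x : M24 => ((c⁻¹ * x * c : M24) : Equiv.Perm GolayPt)) e'
    simpa [mul_assoc] using this
  · exact smul_trio c.2 (trioSet_mem seven_trio.1)
  · intro n hn
    have := seven_trio.2 _ ((hnorm n).1 hn)
    rw [Subgroup.coe_mul, Subgroup.coe_mul, mul_smul, mul_smul, Subgroup.coe_inv, inv_smul_eq_iff] at this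
    exact this

end CfsgLib.Mathieu
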