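import Cfsg.Agent.Lib.Mathieu.SextetData
import Cfsg.Agent.Lib.Golay.SmallSets

/-! Checks on the list of sextets. -/

set_option autoImplicit false
set_option maxRecDepth 100000

namespace CfsgLib.Mathieu

open Cfsg CfsgLib.Golay

/-- The list is a sextet whose first member passes through the extra point. -/
def sextOK (l : List ℕ) : Bool :=
  Nat.beq l.length 6 && l.all (fun m => Nat.beq (pop m) 4 && Nat.ble m 16777215) &&
  Nat.testBit (l.getD 0 0) 23 &&
  (List.range 6).all fun i => (List.range 6).all fun j => Nat.beq i j ||
    (let u := Nat.lor (l.getD i 0) (l.getD j 0)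
     isCode u && Nat.beq (pop u) 8)

theorem sextList_ok : sextList.all sextOK = true := by decide +kernel

theorem sextList_heads : sextList.map (fun l => l.getD 0 0) =
    (ksub 23 3).map (Nat.add 8388608) := by decide +kernel

end CfsgLib.Mathieu
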