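import Cfsg.Agent.Lib.BlockA.PrincipalType
import Cfsg.Agent.Lib.BlockA.BrauerMax
import Cfsg.Agent.Lib.BlockA.CoverDefect
import Cfsg.Agent.Lib.Block.DefectOrder
import Cfsg.Agent.Lib.Solvable.PCore

/-!
# A criterion for a single block

A constrained group with trivial `p'`-core has one `p`-block.  So, by the third main theorem, a
group whose elements of order `p` have such centralisers has one block besides those of defect zero.
-/

set_option autoImplicit false

namespace CfsgLib.Mathieu

open Cfsg CfsgLib.Block CfsgLib.BlockA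

universe u

variable {G : Type u} [Group G] [Finite G] {p : ℕ} {M : Ideal AlgInt}

/-- A group containing the centraliser of its `p`-core in it has one `p`-block. -/
theorem mem_principal_of_constrained (hM : IsPModular p M)
    (h : Subgroup.centralizer (pCore p G : Set G) ≤ pCore p G) (χ : IrrCharacter G) :
    χ ∈ principalBlock M G := by
  classical
  have := Fact.mk hM.1
  have := hM.2.1.isPrime
  have := Fintype.ofFinite G
  have := Fintype.ofFinite (⊥ : Subgroup G)
  let e : G ⧸ (⊥ : Subgroup G) ≃* G := QuotientGroup.quotientBot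
  have hcons : Subgroup.centralizer (pCore p (G ⧸ (⊥ : Subgroup G)) : Set (G ⧸ (⊥ : Subgroup G)))
      ≤ pCore p (G ⧸ (⊥ : Subgroup G)) := by
    intro x hx
    have hmap := CfsgLib.Solvable.map_pCore_equiv e p
    have h1 : e x ∈ pCore p G := h (Subgroup.mem_centralizer_iff.2 fun y hy => by
      rw [← hmap] at hy
      obtain ⟨z, hz, rfl⟩ := hy
      have := Subgroup.mem_centralizer_iff.1 hx z hz
      show e z * e x = e x * e z
      rw [← map_mul, ← map_mul, this])
    rw [← hmap] at h1
    obtain ⟨z, hz, he⟩ := h1
    rwa [← e.injective he]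
  let θ : IrrCharacter (⊥ : Subgroup G) := trivIrr
  have hinv : ∀ g : G, conjIrr (⊥ : Subgroup G) θ g = θ := fun g =>
    Subtype.ext (funext fun _ => rfl)
  obtain ⟨B, hB, hmem, -⟩ := principalType (K := (⊥ : Subgroup G)) hM hcons (by simp) θ hinv
  have hall : ∀ ψ : IrrCharacter G, ψ ∈ B := fun ψ => (hmem ψ).2 (by
    rw [classInner, Fintype.sum_eq_single (1 : (⊥ : Subgroup G))
      (fun b hb => absurd (Subtype.ext (Subgroup.mem_bot.1 b.2)) hb)]
    simpa [θ, trivIrr] using CfsgLib.Char.irr_apply_one_ne_zero ψ.2)
  have he := isPBlock_eq_of_mem hB isPBlock_principalBlock (hall _) one_mem_principalBlock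
  exact he ▸ hall χ

/-- One block if all elements of order `p` have constrained centralisers and there is no character
of defect zero. -/
theorem mem_principal_of_local (hM : IsPModular p M)
    (hloc : ∀ z : G, orderOf z = p →
      Subgroup.centralizer (pCore p (Subgroup.centralizer ({z} : Set G)) :
        Set (Subgroup.centralizer ({z} : Set G))) ≤ pCore p (Subgroup.centralizer ({z} : Set G)))
    (hzero : ∀ χ : IrrCharacter G,
      ¬ p ^ (Nat.card G).factorization p ∣ charDegree (χ : G → ℂ))
    (χ : IrrCharacter G) : χ ∈ principalBlock M G := by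
  classical
  have := Fact.mk hM.1
  have := hM.2.1.isPrime
  have := Fintype.ofFinite G
  have hB : IsPBlock M (blockOf M (χ : G → ℂ)) := isPBlock_blockOf χ
  obtain ⟨D, hD⟩ := exists_isDefectGroup hM hB
  have hDp := isPGroup_defectGroup hM hB hD
  by_cases hD1 : D = ⊥
  · exfalso
    have hd : blockDefect p (blockOf M (χ : G → ℂ)) = 0 := by
      have h1 := natCard_defectGroup hM hB hD
      rw [hD1, Subgroup.card_bot] at h1
      exact ((Nat.pow_eq_one.1 h1.symm).resolve_left hM.1.ne_one)
    apply hzero χ
    have hle : (Nat.card G).factorization p ≤ (charDegree (χ : G → ℂ)).factorization p := by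
      rw [blockDefect] at hd
      exact (Nat.sub_eq_zero_iff_le.1 hd).trans (Nat.sInf_le ⟨χ, mem_blockOf_self χ, rfl⟩)
    exact (pow_dvd_pow p hle).trans (Nat.ordProj_dvd _ _)
  · obtain ⟨z, hzD, hz⟩ : ∃ z ∈ D, orderOf z = p := by
      obtain ⟨n, hn⟩ := hDp.exists_card_eq
      have hdvd : p ∣ Nat.card D := by
        rcases Nat.eq_zero_or_pos n with rfl | hn0
        · rw [pow_zero] at hn; exact absurd (Subgroup.eq_bot_of_card_eq D hn) hD1
        · rw [hn]; exact dvd_pow_self p hn0.ne'
      obtain ⟨z, hz⟩ := exists_prime_orderOf_dvd_card' p hdvd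
      exact ⟨z, z.2, by rwa [Subgroup.orderOf_coe]⟩
    let Q := Subgroup.zpowers z
    have hQp : IsPGroup p Q := hDp.to_le (Subgroup.zpowers_le.2 hzD)
    obtain ⟨e, he⟩ := exists_isBrauerPairOf hM hB hQp
      ((exists_le_conj_iff_coeff hM hB hD hQp).2 ⟨1, by
        intro x hx
        exact ⟨x, Subgroup.zpowers_le.2 hzD hx, by simp⟩⟩)
    have hcen : Subgroup.centralizer (Q : Set G) = Subgroup.centralizer ({z} : Set G) := by
      show Subgroup.centralizer ((Subgroup.zpowers z : Subgroup G) : Set G) = _
      rw [Subgroup.zpowers_eq_closure, Subgroup.centralizer_closure]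
    have hsingle : ∀ ξ : IrrCharacter (Subgroup.centralizer (Q : Set G)),
        ξ ∈ principalBlock M (Subgroup.centralizer (Q : Set G)) := by
      refine mem_principal_of_constrained hM ?_
      rw [hcen]
      exact hloc z hz
    obtain ⟨ξ, hξ⟩ := isPBlock_nonempty he.1.2
    have he' := isPBlock_eq_of_mem he.1.2 isPBlock_principalBlock hξ (hsingle ξ)
    obtain ⟨B', -, huniq⟩ := existsUnique_block hM he.1
    have h1 := huniq _ he
    have h2 := huniq (principalBlock M G) (he' ▸ isBrauerPairOf_principal hM hQp)
    rw [h2, ← h1]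
    exact mem_blockOf_self χ

end CfsgLib.Mathieu
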