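import Cfsg.Agent.Lib.Mathieu.SixData
import Cfsg.Agent.Lib.Golay.PtFix
import Cfsg.Agent.Lib.Golay.SmallSets

/-! Six-element sets of points, and bases, of `M24`. -/

set_option autoImplicit false
set_option maxRecDepth 100000

namespace CfsgLib.Mathieu

open Cfsg CfsgLib.Golay
open scoped Pointwise

/-- The five base points. -/
def fivePts : Fin 5 ↪ GolayPt :=
  ⟨fun i => pt ([23, 0, 1, 2, 3].getD i.val 0), by decide +kernel⟩

/-- The mask of the five base points and one further point. -/
def sixMask (x : ℕ) : ℕ := Nat.lor 8388623 (Nat.shiftLeft 1 x)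

theorem sixMove_ok : (List.range 24).all (fun y => (8388623 : ℕ).testBit y ||
    (inFix [8, 4, 2, 1, 8388608] (sixMove.getD y (0, 4)).1 &&
      Nat.beq (img (sixMove.getD y (0, 4)).1 y) (sixMove.getD y (0, 4)).2 &&
      (Nat.beq (sixMove.getD y (0, 4)).2 4 || Nat.beq (sixMove.getD y (0, 4)).2 5))) = true := by
  decide +kernel

/-- A six-element set goes to one of the two representatives. -/
theorem six_move {E : Finset GolayPt} (hE : E.card = 6) :
    ∃ g : M24, g • E = mset (sixMask 5) ∨ g • E = mset (sixMask 4) := by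
  classical
  obtain ⟨e⟩ := Function.Embedding.nonempty_of_card_le (α := Fin 5) (β := {p // p ∈ E})
    (by rw [Fintype.card_fin, Fintype.card_coe, hE]; norm_num)
  obtain ⟨g, hg⟩ := M24_five_trans (e.trans ⟨Subtype.val, Subtype.val_injective⟩) fivePts
  have hsub : Finset.univ.map fivePts ⊆ g • E := by
    intro q hq
    obtain ⟨i, -, rfl⟩ := Finset.mem_map.1 hq
    rw [← hg]
    exact Finset.smul_mem_smul_finset (e i).2
  have h5 : Finset.univ.map fivePts = mset 8388623 := by decide +kernel
  rw [h5] at hsub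
  obtain ⟨q, hq⟩ : ∃ q, g • E = insert q (mset 8388623) ∧ q ∉ mset 8388623 := by
    have h1 : (g • E \ mset 8388623).card = 1 := by
      rw [Finset.card_sdiff_of_subset hsub, Finset.card_smul_finset, hE, card_mset]; decide +kernel
    obtain ⟨q, hq⟩ := Finset.card_eq_one.1 h1
    have hq' : q ∈ g • E \ mset 8388623 := hq ▸ Finset.mem_singleton_self q
    refine ⟨q, ?_, (Finset.mem_sdiff.1 hq').2⟩
    rw [Finset.insert_eq, ← hq, Finset.sdiff_union_of_subset hsub]
  obtain ⟨hq1, hq2⟩ := hq
  have := List.all_eq_true.1 sixMove_ok (idx q) (List.mem_range.2 (idx_lt q))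
  rw [mem_mset, Bool.not_eq_true] at hq2
  simp only [hq2, Bool.false_or, Bool.and_eq_true, Bool.or_eq_true] at this
  obtain ⟨⟨h1, h2⟩, h3⟩ := this
  set u := sixMove.getD (idx q) (0, 4)
  have hv := inFix_valid h1
  have hσ := inFix_mem h1
  refine ⟨⟨permOf u.1, fixMasks_le _ hσ⟩ * g, ?_⟩
  have hfix : permOf u.1 • mset 8388623 = mset 8388623 := by
    rw [smul_mset hv]
    refine congrArg mset ?_
    have hb : ∀ A ∈ [8, 4, 2, 1, 8388608], mimg u.1 A = A := fun A hA => by
      have := hσ.2 A hA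
      rw [smul_mset hv] at this
      refine mset_inj (mimg_lt hv A) ?_ this
      simp only [List.mem_cons, List.not_mem_nil, or_false] at hA
      rcases hA with rfl | rfl | rfl | rfl | rfl <;> norm_num
    refine mset_inj (mimg_lt hv _) (by norm_num) ?_
    rw [← smul_mset hv, show mset 8388623 = mset 8 ∪ mset 4 ∪ mset 2 ∪ mset 1 ∪ mset 8388608 by
      simp only [← mset_or]; rfl]
    simp only [Finset.smul_finset_union, smul_mset hv, hb _ (by simp : (8 : ℕ) ∈ _),
      hb _ (by simp : (4 : ℕ) ∈ [8, 4, 2, 1, 8388608]), hb _ (by simp : (2 : ℕ) ∈ [8, 4, 2, 1, 8388608]),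
      hb _ (by simp : (1 : ℕ) ∈ [8, 4, 2, 1, 8388608]),
      hb _ (by simp : (8388608 : ℕ) ∈ [8, 4, 2, 1, 8388608])]
  have hres : permOf u.1 • g • E = mset (sixMask u.2) := by
    rw [hq1, Finset.smul_finset_insert, hfix, Equiv.Perm.smul_def, permOf_apply hv,
      Nat.eq_of_beq_eq_true h2, sixMask,
      show Nat.lor 8388623 (Nat.shiftLeft 1 u.2) = 8388623 ||| 2 ^ u.2 by
        rw [← Nat.one_shiftLeft]; rfl,
      mset_or, mset_two_pow, Finset.union_comm, ← Finset.insert_eq]
    rcases h3 with h | h <;> rw [Nat.eq_of_beq_eq_true h] <;> norm_num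
  rw [mul_smul]
  rcases h3 with h | h <;> rw [Nat.eq_of_beq_eq_true h] at hres
  exacts [Or.inr hres, Or.inl hres]

/-- The restriction of the setwise stabiliser to a set of six masked points is onto. -/
theorem six_full {A : ℕ} {n k : ℕ} (hA : A < 16777216) (h6 : (mset A).card = 6)
    (hs : Nat.card (fixMasks [A]) = n) (hp : Nat.card (fixMasks (bitsList A ++ [A])) = k)
    (hnk : n = 720 * k) (σ : Equiv.Perm {p // p ∈ mset A}) :
    ∃ g ∈ fixMasks [A], ∀ p : {p // p ∈ mset A}, g p.1 = (σ p).1 := by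
  classical
  have hmap : ∀ g ∈ fixMasks [A], ∀ p, g p ∈ mset A ↔ p ∈ mset A := fun g hg p => by
    conv_lhs => rw [← hg.2 A (List.mem_singleton_self A), ← Equiv.Perm.smul_def,
      Finset.smul_mem_smul_finset_iff]
  let f : ↥(fixMasks [A]) →* Equiv.Perm {p // p ∈ mset A} :=
    { toFun := fun g => (g.1).subtypePerm (hmap g.1 g.2)
      map_one' := by ext; rfl
      map_mul' := fun a b => by ext; rfl }
  have hker : Nat.card f.ker = k := by
    rw [← hp]
    refine Nat.card_congr
      { toFun := fun g => ⟨g.1.1, mem_fixMasks_bitsList.2 ⟨g.1.2, fun p hp' =>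
          congrArg (fun e : Equiv.Perm {p // p ∈ mset A} => (e ⟨p, hp'⟩).1) g.2⟩⟩
        invFun := fun g => ⟨⟨g.1, (mem_fixMasks_bitsList.1 g.2).1⟩, Equiv.ext fun p =>
          Subtype.ext ((mem_fixMasks_bitsList.1 g.2).2 p.1 p.2)⟩
        left_inv := fun _ => rfl
        right_inv := fun _ => rfl }
  have hrange : f.range = ⊤ := by
    refine Subgroup.eq_top_of_card_eq _ ?_
    have h1 := Subgroup.card_eq_card_quotient_mul_card_subgroup f.ker
    rw [hs, hker, hnk, Nat.card_congr (QuotientGroup.quotientKerEquivRange f).toEquiv] at h1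
    have hk : 0 < k := by rw [← hp]; exact Nat.card_pos
    rw [Nat.card_eq_fintype_card (α := Equiv.Perm _), Fintype.card_perm, Fintype.card_coe, h6]
    rw [← Nat.eq_of_mul_eq_mul_right hk h1]; rfl
  obtain ⟨g, hg⟩ := (hrange ▸ Subgroup.mem_top σ : σ ∈ f.range)
  exact ⟨g.1, g.2, fun p => by rw [← hg]; rfl⟩

theorem six_facts (E : Finset GolayPt) (hE : E.card = 6) :
    (∀ σ : Equiv.Perm ↥E, ∃ g ∈ M24, ∀ p : ↥E, g p = σ p) ∧
    ((∃ o ∈ octads, E ⊆ o) →
      Nat.card {g : Equiv.Perm GolayPt // g ∈ M24 ∧ ∀ p ∈ E, g p = p} = 16) ∧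
    ((¬ ∃ o ∈ octads, E ⊆ o) →
      Nat.card {g : Equiv.Perm GolayPt // g ∈ M24 ∧ ∀ p ∈ E, g p = p} = 3 ∧
      Nat.card ↥(MulAction.stabilizer M24 E) = 2160) := by
  classical
  have main : ∀ (g : M24) (x n k : ℕ), sixMask x < 16777216 →
      Nat.card (fixMasks [sixMask x]) = n →
      Nat.card (fixMasks (bitsList (sixMask x) ++ [sixMask x])) = k → n = 720 * k →
      g • E = mset (sixMask x) →
      (∀ σ : Equiv.Perm ↥E, ∃ h ∈ M24, ∀ p : ↥E, h p = σ p) ∧
      Nat.card {h : Equiv.Perm GolayPt // h ∈ M24 ∧ ∀ p ∈ E, h p = p} = k ∧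
      Nat.card ↥(MulAction.stabilizer M24 E) = n := by
    intro g x n k hx hs hp hnk he
    have he' : ∀ p, g • p ∈ mset (sixMask x) ↔ p ∈ E := fun p => by
      rw [← he, Finset.smul_mem_smul_finset_iff]
    refine ⟨fun σ => ?_, ?_, ?_⟩
    · let T : {p // p ∈ E} ≃ {p // p ∈ mset (sixMask x)} :=
        (g : Equiv.Perm GolayPt).subtypeEquiv fun p => (he' p).symm
      obtain ⟨h, hh, hhp⟩ := six_full hx (by rw [← he, Finset.card_smul_finset, hE]) hs hp hnk
        ((T.symm.trans σ).trans T)
      refine ⟨(g : Equiv.Perm GolayPt)⁻¹ * h * g,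
        Subgroup.mul_mem _ (Subgroup.mul_mem _ (Subgroup.inv_mem _ g.2) hh.1) g.2, fun p => ?_⟩
      have := hhp (T p)
      simp only [Equiv.trans_apply, Equiv.symm_apply_apply] at this
      show (g : Equiv.Perm GolayPt)⁻¹ (h ((g : Equiv.Perm GolayPt) p.1)) = _
      rw [Equiv.Perm.inv_eq_iff_eq]
      exact this
    · rw [← hp]
      refine Nat.card_congr
        { toFun := fun h => ⟨(g : Equiv.Perm GolayPt) * h.1 * (g : Equiv.Perm GolayPt)⁻¹, ?_⟩
          invFun := fun h => ⟨(g : Equiv.Perm GolayPt)⁻¹ * h.1 * g, ?_⟩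
          left_inv := fun h => Subtype.ext (by dsimp; group)
          right_inv := fun h => Subtype.ext (by dsimp; group) }
      · refine mem_fixMasks_bitsList.2 ⟨?_, fun p hp => ?_⟩
        · refine ⟨Subgroup.mul_mem _ (Subgroup.mul_mem _ g.2 h.2.1) (Subgroup.inv_mem _ g.2),
            fun A hA => ?_⟩
          rw [List.mem_singleton.1 hA, ← he]
          change _ • (g : Equiv.Perm GolayPt) • E = (g : Equiv.Perm GolayPt) • E
          rw [mul_smul, inv_smul_smul, mul_smul]
          congr 1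
          conv_rhs => rw [← Finset.image_id (s := E)]
          exact Finset.image_congr fun p hp => h.2.2 p hp
        · obtain ⟨q, hq, rfl⟩ : ∃ q ∈ E, g • q = p :=
            ⟨g⁻¹ • p, (he' _).1 (by rwa [smul_inv_smul]), smul_inv_smul g p⟩
          show ((g : Equiv.Perm GolayPt) * h.1 * (g : Equiv.Perm GolayPt)⁻¹) • (g : Equiv.Perm GolayPt) • q = (g : Equiv.Perm GolayPt) • q
          rw [conj_smul_iff]
          exact h.2.2 q hq
      · obtain ⟨h1, h2⟩ := mem_fixMasks_bitsList.1 h.2
        refine ⟨Subgroup.mul_mem _ (Subgroup.mul_mem _ (Subgroup.inv_mem _ g.2) h1.1) g.2,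
          fun p hp => ?_⟩
        show (g : Equiv.Perm GolayPt)⁻¹ (h.1 ((g : Equiv.Perm GolayPt) p)) = p
        rw [Equiv.Perm.inv_eq_iff_eq]
        exact h2 _ ((he' p).2 hp)
    · rw [← hs]
      refine Nat.card_congr (Equiv.trans ?_ (stabMaskEquiv (sixMask x)))
      exact
        { toFun := fun h => ⟨g * h.1 * g⁻¹, MulAction.mem_stabilizer_iff.2
            (by rw [← he, conj_smul_iff]; exact h.2)⟩
          invFun := fun h => ⟨g⁻¹ * h.1 * g, MulAction.mem_stabilizer_iff.2
            (by rw [mul_smul, mul_smul, inv_smul_eq_iff, he]; exact h.2)⟩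
          left_inv := fun h => Subtype.ext (by dsimp; group)
          right_inv := fun h => Subtype.ext (by dsimp; group) }
  obtain ⟨g, hg⟩ := six_move hE
  have hin : ∀ x, g • E = mset (sixMask x) → ((∃ o ∈ octads, E ⊆ o) ↔
      ∃ o ∈ octads, mset (sixMask x) ⊆ o) := fun x he => by
    constructor
    · rintro ⟨o, ho, h⟩
      exact ⟨g • o, (smul_mem_octads_iff g).2 ho, he ▸ Finset.smul_finset_subset_smul_finset h⟩
    · rintro ⟨o, ho, h⟩
      refine ⟨g⁻¹ • o, (smul_mem_octads_iff g⁻¹).2 ho, ?_⟩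
      rw [← inv_smul_smul g E, he]
      exact Finset.smul_finset_subset_smul_finset h
  rcases hg with he | he
  · obtain ⟨h1, h2, -⟩ := main g 5 11520 16 (by decide +kernel)
      (by rw [show [sixMask 5] = sixInSet_X by decide +kernel]; exact sixInSet_card)
      (by rw [show Nat.card (fixMasks (bitsList (sixMask 5) ++ [sixMask 5])) =
              Nat.card (fixMasks sixInPt_X) from ?_]
          · exact sixInPt_card
          · congr 2)
      (by norm_num) he
    refine ⟨h1, fun _ => h2, fun hno => absurd ((hin 5 he).2 ⟨mset fiveOct,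
      mem_octads_iff.2 ⟨fiveOct, mem_octList.2 (by decide +kernel), rfl⟩, ?_⟩) hno⟩
    rw [subset_iff_land (by decide +kernel)]; decide +kernel
  · obtain ⟨h1, h2, h3⟩ := main g 4 2160 3 (by decide +kernel)
      (by rw [show [sixMask 4] = sixOutSet_X by decide +kernel]; exact sixOutSet_card)
      (by rw [show Nat.card (fixMasks (bitsList (sixMask 4) ++ [sixMask 4])) =
              Nat.card (fixMasks sixOutPt_X) from ?_]
          · exact sixOutPt_card
          · congr 2)
      (by norm_num) he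
    refine ⟨h1, fun hyes => ?_, fun _ => ⟨h2, h3⟩⟩
    obtain ⟨o, ho, hsub⟩ := (hin 4 he).1 hyes
    obtain ⟨m, hm, rfl⟩ := mem_octads_iff.1 ho
    have hno : octList.all (fun m => !Nat.beq (Nat.land (sixMask 4) m) (sixMask 4)) = true := by
      decide +kernel
    have := List.all_eq_true.1 hno m hm
    rw [(subset_iff_land (by decide +kernel)).1 hsub] at this
    simp at this

theorem base_seven :
    (∀ B : Finset GolayPt, B.card ≤ 6 → ∃ g ∈ M24, g ≠ 1 ∧ ∀ b ∈ B, g b = b) ∧
    ∃ B : Finset GolayPt, B.card = 7 ∧ ∀ g ∈ M24, (∀ b ∈ B, g b = b) → g = 1 := by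
  classical
  constructor
  · intro B hB
    let f : M24 → ({p // p ∈ B} ↪ GolayPt) := fun g =>
      ⟨fun p => g • p.1, fun a b h => Subtype.ext (smul_left_cancel g h)⟩
    have hlt : Nat.card ({p // p ∈ B} ↪ GolayPt) < Nat.card M24 := by
      rw [card_M24, Nat.card_eq_fintype_card, Fintype.card_embedding_eq, Fintype.card_coe,
        show Fintype.card GolayPt = 24 by simp]
      generalize B.card = k at hB ⊢
      interval_cases k <;> decide +kernel
    have hni : ¬ Function.Injective f := fun h => by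
      have := Nat.card_le_card_of_injective f h
      omega
    obtain ⟨a, b, hab, hne⟩ : ∃ a b, f a = f b ∧ a ≠ b := by
      simpa [Function.Injective] using hni
    refine ⟨(b⁻¹ * a : M24).1, (b⁻¹ * a : M24).2, fun h => hne ?_, fun p hp => ?_⟩
    · have : b⁻¹ * a = 1 := Subtype.ext h
      exact (inv_mul_eq_one.1 this).symm
    · have e : a • p = b • p := congrArg (fun u : {p // p ∈ B} ↪ GolayPt => u ⟨p, hp⟩) hab
      show (b⁻¹ * a : M24) • p = p
      rw [mul_smul, e, inv_smul_smul]
  · refine ⟨mset 8388671, by rw [card_mset]; decide +kernel, fun g hg hfix => ?_⟩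
    have h : g ∈ fixMasks (bitsList 8388671) :=
      mem_fix_pointwise.2 ⟨hg, (mem_fixingSubgroup_iff _).2 fun p hp => hfix p (by simpa using hp)⟩
    have h' : g ∈ fixMasks baseSevenX := by
      refine ⟨h.1, fun A hA => h.2 A ?_⟩
      have : baseSevenX.all (fun A => decide (A ∈ bitsList 8388671)) = true := by decide +kernel
      simpa using List.all_eq_true.1 this A hA
    rw [← commFix_nil, Subgroup.card_eq_one.1 baseSeven_card, Subgroup.mem_bot] at h'
    exact h'

end CfsgLib.Mathieu
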