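import Cfsg.Agent.Lib.Golay.Mathieu

/-! Subgroups of `M24` given by element tables, and conjugation of elements of prime order
into a Sylow subgroup given that way. -/

set_option autoImplicit false
set_option maxRecDepth 100000

namespace CfsgLib.Mathieu

open Cfsg CfsgLib.Golay
open scoped Pointwise

/-- Entry `k` of a chunked table. -/
def tget (T : List (List ℕ)) (k : ℕ) : ℕ := (T.getD (k / 32) []).getD (k % 32) idCode

/-- A key of an encoded permutation: its images of the first twelve points. -/
def keyOf (g : ℕ) : ℕ := Nat.land g 1152921504606846975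

/-- Table certificate: `n` elements, the first the identity, each later one a generator times
an earlier one (`tree`), closed under the generators (`clos`), with increasing keys. -/
def tableOK (n : ℕ) (gs : List ℕ) (T : List (List ℕ)) (tree : List (ℕ × ℕ)) (clos : List (List ℕ))
    (perm : List ℕ) : Bool :=
  gs.all inM24 && Nat.beq (tget T 0) idCode && Nat.beq tree.length (n - 1) && Nat.ble 1 n &&
  Nat.beq clos.length gs.length && Nat.beq perm.length n && perm.all (fun k => Nat.ble (k + 1) n) &&
  (tree.zipIdx 1).all (fun e => Nat.ble (e.1.2 + 1) e.2 && Nat.ble (e.1.1 + 1) gs.length &&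
    isProd (gs.getD e.1.1 idCode) (tget T e.1.2) (tget T e.2)) &&
  (gs.zip clos).all (fun e => Nat.beq e.2.length n &&
    e.2.zipIdx.all fun d => Nat.ble (d.1 + 1) n && isProd e.1 (tget T d.2) (tget T d.1)) &&
  (perm.zip (perm.drop 1)).all fun e =>
    Nat.ble (keyOf (tget T e.1) + 1) (keyOf (tget T e.2))

/-- The subgroup generated by a list of encoded permutations. -/
def genGroup (gs : List ℕ) : Subgroup (Equiv.Perm GolayPt) :=
  Subgroup.closure {σ | ∃ g ∈ gs, σ = permOf g}

theorem img_eq_of_apply {g h : ℕ} (hg : valid g = true) (hh : valid h = true)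
    (e : permOf g = permOf h) {i : ℕ} (hi : i < 24) : img g i = img h i := by
  have := congrArg (fun π : Equiv.Perm GolayPt => idx (π (pt i))) e
  simpa [permOf_pt hg hi, permOf_pt hh hi, idx_pt (valid_lt hg hi), idx_pt (valid_lt hh hi)] using this

theorem keyOf_eq {g h : ℕ} (he : ∀ i < 24, img g i = img h i) : keyOf g = keyOf h := by
  unfold keyOf
  apply Nat.eq_of_testBit_eq
  intro j
  have hm : (1152921504606846975 : ℕ) = 2 ^ 60 - 1 := by norm_num
  show (g &&& _).testBit j = (h &&& _).testBit j
  rw [Nat.testBit_and, Nat.testBit_and, hm, Nat.testBit_two_pow_sub_one]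
  by_cases hj : j < 60
  · have := congrArg (fun x : ℕ => x.testBit (j % 5)) (he (j / 5) (by omega))
    have e31 : (31 : ℕ) = 2 ^ 5 - 1 := by norm_num
    simp only [img] at this
    rw [show Nat.land (Nat.shiftRight g (Nat.mul 5 (j / 5))) 31 = (g >>> (5 * (j / 5))) &&& 31 from rfl,
      show Nat.land (Nat.shiftRight h (Nat.mul 5 (j / 5))) 31 = (h >>> (5 * (j / 5))) &&& 31 from rfl,
      Nat.testBit_and, Nat.testBit_and, e31, Nat.testBit_two_pow_sub_one, Nat.testBit_shiftRight,
      Nat.testBit_shiftRight, Nat.div_add_mod] at this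
    simpa [hj, Nat.mod_lt j (show 0 < 5 by norm_num)] using this
  · simp [hj]

theorem table_spec {n : ℕ} {gs : List ℕ} {T : List (List ℕ)} {tree : List (ℕ × ℕ)}
    {clos : List (List ℕ)} {perm : List ℕ} (h : tableOK n gs T tree clos perm = true) :
    genGroup gs ≤ M24 ∧ Nat.card (genGroup gs) = n ∧
      ∀ σ ∈ genGroup gs, ∃ k < n, valid (tget T k) = true ∧ σ = permOf (tget T k) := by
  simp only [tableOK, Bool.and_eq_true, List.all_eq_true] at h
  obtain ⟨⟨⟨⟨⟨⟨⟨⟨⟨hgs, h0⟩, htl⟩, hn⟩, hcl⟩, hpl⟩, hpb⟩, htr⟩, hcs⟩, hkey⟩ := h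
  have hn : 1 ≤ n := Nat.le_of_ble_eq_true hn
  have h0 : tget T 0 = idCode := Nat.eq_of_beq_eq_true h0
  have htl : tree.length = n - 1 := Nat.eq_of_beq_eq_true htl
  have hcl : clos.length = gs.length := Nat.eq_of_beq_eq_true hcl
  have hpl : perm.length = n := Nat.eq_of_beq_eq_true hpl
  have hM : genGroup gs ≤ M24 := (Subgroup.closure_le M24).2
    (by rintro σ ⟨g, hg, rfl⟩; exact inM24_mem (hgs g hg))
  -- every table entry is a valid member of the group
  have hmem : ∀ k, k < n → valid (tget T k) = true ∧ permOf (tget T k) ∈ genGroup gs := by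
    intro k
    induction k using Nat.strong_induction_on with
    | _ k ih =>
      intro hk
      rcases Nat.eq_zero_or_pos k with rfl | hk0
      · rw [h0]; exact ⟨idCode_valid, permOf_idCode ▸ Subgroup.one_mem _⟩
      have hj : k - 1 < tree.length := by omega
      have hmem' : (tree[k - 1], k) ∈ tree.zipIdx 1 := by
        rw [List.mem_iff_getElem]
        refine ⟨k - 1, by simpa using hj, ?_⟩
        simp only [List.getElem_zipIdx, Prod.mk.injEq, true_and]
        omega
      have := htr _ hmem'
      simp only [Bool.and_eq_true] at this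
      obtain ⟨⟨ha, hb⟩, hc⟩ := this
      have hb : (tree[k - 1]).1 < gs.length := Nat.le_of_ble_eq_true hb
      have ha : (tree[k - 1]).2 < k := Nat.le_of_ble_eq_true ha
      have hg : gs.getD (tree[k - 1]).1 idCode ∈ gs := by
        rw [List.getD_eq_getElem _ _ hb]; exact List.getElem_mem hb
      obtain ⟨hv, e⟩ := isProd_sound (inM24_valid (hgs _ hg)) (ih _ ha (by omega)).1 hc
      refine ⟨hv, e ▸ Subgroup.mul_mem _ (Subgroup.subset_closure ⟨_, hg, rfl⟩) (ih _ ha (by omega)).2⟩
  have hall : ∀ σ ∈ genGroup gs, ∃ k < n, σ = permOf (tget T k) := by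
    intro σ hσ
    rw [genGroup, ← Subgroup.mem_toSubmonoid, Subgroup.closure_toSubmonoid_of_finite] at hσ
    induction hσ using Submonoid.closure_induction_left with
    | one => exact ⟨0, hn, by rw [h0, permOf_idCode]⟩
    | mul_left a ha b _ ih =>
      obtain ⟨g, hg, rfl⟩ := ha
      obtain ⟨k, hk, rfl⟩ := ih
      obtain ⟨i, hi, rfl⟩ := List.getElem_of_mem hg
      have hz : (gs[i], clos[i]'(by omega)) ∈ gs.zip clos := by
        rw [List.mem_iff_getElem]
        exact ⟨i, by simp [hcl, hi], by simp⟩
      have := hcs _ hz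
      simp only [Bool.and_eq_true, List.all_eq_true] at this
      have hlen : (clos[i]'(by omega)).length = n := Nat.eq_of_beq_eq_true this.1
      have hd : ((clos[i]'(by omega))[k]'(by omega), k) ∈ (clos[i]'(by omega)).zipIdx := by
        rw [List.mem_iff_getElem]
        exact ⟨k, by simpa using (by omega : k < (clos[i]'(by omega)).length), by simp⟩
      have h2 := this.2 _ hd
      simp only [Bool.and_eq_true] at h2
      exact ⟨_, Nat.le_of_ble_eq_true h2.1,
        ((isProd_sound (inM24_valid (hgs _ hg)) (hmem k hk).1 h2.2).2).symm⟩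
  refine ⟨hM, ?_, fun σ hσ => ?_⟩
  · have hs : List.Pairwise (· < ·) (perm.map fun k => keyOf (tget T k)) := by
      rw [← List.isChain_iff_pairwise, List.isChain_iff_getElem]
      intro i hi
      simp only [List.length_map] at hi
      simp only [List.getElem_map]
      refine Nat.le_of_ble_eq_true (hkey (perm[i], perm[i + 1]) ?_)
      rw [List.mem_iff_getElem]
      exact ⟨i, by simp; omega, by simp⟩
    have hnd : (perm.map fun k => permOf (tget T k)).Nodup := by
      rw [List.nodup_map_iff_inj_on]
      · intro x hx y hy e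
        have hx' : x < n := Nat.le_of_ble_eq_true (hpb x hx)
        have hy' : y < n := Nat.le_of_ble_eq_true (hpb y hy)
        refine List.inj_on_of_nodup_map hs.nodup hx hy ?_
        exact keyOf_eq fun i hi => img_eq_of_apply (hmem x hx').1 (hmem y hy').1 e hi
      · exact hs.nodup.of_map _
    have he : (genGroup gs : Set (Equiv.Perm GolayPt)) =
        ↑(perm.map fun k => permOf (tget T k)).toFinset := by
      refine (Set.eq_of_subset_of_ncard_le ?_ ?_ (Set.toFinite _)).symm
      · intro σ hσ
        simp only [List.coe_toFinset, List.mem_map, Set.mem_setOf_eq] at hσ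
        obtain ⟨k, hk, rfl⟩ := hσ
        exact (hmem k (Nat.le_of_ble_eq_true (hpb k hk))).2
      · rw [Set.ncard_coe_finset, List.toFinset_card_of_nodup hnd, List.length_map, hpl]
        have : (genGroup gs : Set (Equiv.Perm GolayPt)) ⊆
            ↑((Finset.range n).image fun k => permOf (tget T k)) := by
          intro σ hσ
          obtain ⟨k, hk, rfl⟩ := hall σ hσ
          simp only [Finset.coe_image, Set.mem_image, Finset.coe_range, Set.mem_Iio]
          exact ⟨k, hk, rfl⟩
        refine (Set.ncard_le_ncard this (Finset.finite_toSet _)).trans ?_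
        rw [Set.ncard_coe_finset]
        exact Finset.card_image_le.trans (le_of_eq (Finset.card_range n))
    rw [show Nat.card (genGroup gs) = (genGroup gs : Set (Equiv.Perm GolayPt)).ncard from
        Nat.card_coe_set_eq _, he, Set.ncard_coe_finset, List.toFinset_card_of_nodup hnd,
      List.length_map, hpl]
  · obtain ⟨k, hk, rfl⟩ := hall σ hσ
    exact ⟨k, hk, (hmem k hk).1, rfl⟩

/-- An element of order `p` of `M24` is conjugate to an entry of a table of a Sylow `p`-subgroup. -/
theorem exists_conj_table {p a m : ℕ} [hp : Fact p.Prime] {n : ℕ} {gs : List ℕ}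
    {T : List (List ℕ)} {tree : List (ℕ × ℕ)} {clos : List (List ℕ)} {perm : List ℕ}
    (h : tableOK n gs T tree clos perm = true) (hn : n = p ^ a)
    (hm : 244823040 = p ^ a * m) (hpm : ¬ p ∣ m) {x : Equiv.Perm GolayPt} (hx : x ∈ M24)
    (hox : orderOf x = p) :
    ∃ c ∈ M24, ∃ k < n, valid (tget T k) = true ∧ c * x * c⁻¹ = permOf (tget T k) := by
  obtain ⟨hM, hcard, hall⟩ := table_spec h
  have hK : Nat.card ((genGroup gs).subgroupOf M24) = p ^ a := by
    rw [Nat.card_congr (Subgroup.subgroupOfEquivOfLe hM).toEquiv, hcard, hn]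
  have hfac : p ^ a = p ^ (Nat.card M24).factorization p := by
    rw [card_M24, hm, Nat.factorization_mul (pow_ne_zero _ hp.out.ne_zero) (by rintro rfl; simp at hpm),
      Finsupp.add_apply, Nat.Prime.factorization_pow hp.out, Finsupp.single_eq_same,
      Nat.factorization_eq_zero_of_not_dvd hpm, add_zero]
  let P : Sylow p M24 := Sylow.ofCard ((genGroup gs).subgroupOf M24) (hK.trans hfac)
  have hz : IsPGroup p (Subgroup.zpowers (⟨x, hx⟩ : M24)) := by
    refine IsPGroup.of_card (n := 1) ?_
    rw [Nat.card_zpowers, pow_one, ← hox]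
    exact (Subgroup.orderOf_mk x hx)
  obtain ⟨Q, hQ⟩ := hz.exists_le_sylow
  obtain ⟨c, hc⟩ := MulAction.exists_smul_eq M24 Q P
  have hxQ : (⟨x, hx⟩ : M24) ∈ (Q : Subgroup M24) := hQ (Subgroup.mem_zpowers _)
  have : c * ⟨x, hx⟩ * c⁻¹ ∈ (P : Subgroup M24) := by
    rw [← hc]
    exact Subgroup.mem_map.2 ⟨_, hxQ, rfl⟩
  obtain ⟨k, hk, hv, e⟩ := hall _ (Subgroup.mem_subgroupOf.1 this)
  exact ⟨c, c.2, k, hk, hv, e⟩

end CfsgLib.Mathieu
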