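import Cfsg.Agent.Lib.Mathieu.StabOrbits

/-! Sextets and three points. -/

set_option autoImplicit false
set_option maxRecDepth 100000

namespace CfsgLib.Mathieu

open Cfsg CfsgLib.Golay
open scoped Pointwise

/-- Number of listed masks meeting the standard three points. -/
def meetY (l : List ℕ) : ℕ := (l.filter fun t => !Nat.beq (pop (Nat.land t 8388611)) 0).length

theorem meetY_spec {l : List ℕ} (hl : (l.map mset).Nodup) :
    ((sextSet l).filter fun t => (t ∩ mset 8388611).Nonempty).card = meetY l := by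
  rw [show (sextSet l).filter (fun t => (t ∩ mset 8388611).Nonempty) =
      ((l.map mset).filter fun t => decide (t ∩ mset 8388611).Nonempty).toFinset by
        ext t; simp [sextSet],
    List.toFinset_card_of_nodup (hl.filter _), List.filter_map, List.length_map, meetY]
  congr 1
  refine List.filter_congr fun t _ => ?_
  simp only [Function.comp_apply]
  rw [Bool.eq_iff_iff, decide_eq_true_iff, ← Finset.card_pos, inter_card_mset, Bool.not_eq_true',
    ← Bool.not_eq_true, Nat.beq_eq, Nat.pos_iff_ne_zero]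

theorem meet_smul (g : M24) (S : Finset (Finset GolayPt)) (Y : Finset GolayPt) :
    ((g • S).filter fun t => (t ∩ g • Y).Nonempty).card =
      (S.filter fun t => (t ∩ Y).Nonempty).card := by
  rw [show (g • S).filter (fun t => (t ∩ g • Y).Nonempty) =
      g • S.filter (fun t => (t ∩ Y).Nonempty) from ?_, Finset.card_smul_finset]
  ext t
  simp only [Finset.mem_filter, Finset.mem_smul_finset]
  constructor
  · rintro ⟨⟨u, hu, rfl⟩, h⟩
    rw [← Finset.smul_finset_inter, Finset.smul_finset_nonempty] at h
    exact ⟨u, ⟨hu, h⟩, rfl⟩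
  · rintro ⟨u, ⟨hu, h⟩, rfl⟩
    rw [← Finset.smul_finset_inter, Finset.smul_finset_nonempty]
    exact ⟨⟨u, hu, rfl⟩, h⟩

theorem yS_ok : okFam [8388611] && gensKeep [8388611] ySGens && covB ySGens ySReps sextList ySCert &&
    ySReps.all okFam && decide (ySReps.map meetY = [1, 2, 3]) = true := by decide +kernel

theorem yS_counts : (sextList.filter fun l => Nat.beq (meetY l) 1).length = 21 ∧
    (sextList.filter fun l => Nat.beq (meetY l) 2).length = 630 ∧
    (sextList.filter fun l => Nat.beq (meetY l) 3).length = 1120 := by decide +kernel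

theorem three_set_sextets (Y : Finset GolayPt) (hY : Y.card = 3) :
    (∀ k, {S : Finset (Finset GolayPt) | S ∈ sextets ∧
        (S.filter fun t => (t ∩ Y).Nonempty).card = k}.ncard =
      (sextList.filter fun l => Nat.beq (meetY l) k).length) ∧
    ∀ S S' : Finset (Finset GolayPt), S ∈ sextets → S' ∈ sextets →
      (S.filter fun t => (t ∩ Y).Nonempty).card = (S'.filter fun t => (t ∩ Y).Nonempty).card →
      ∃ g ∈ M24, g • Y = Y ∧ g • S = S' := by
  have h := yS_ok
  simp only [Bool.and_eq_true, List.all_eq_true, decide_eq_true_eq] at h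
  obtain ⟨⟨⟨⟨hF, hG⟩, hC⟩, hR⟩, hM⟩ := h
  obtain ⟨c, rfl⟩ := set_move (k := 3) (t := mset 8388611) (by norm_num)
    (by rw [card_mset]; decide +kernel) hY
  refine ⟨fun k => ?_, ?_⟩
  · rw [show {S : Finset (Finset GolayPt) | S ∈ sextets ∧
        (S.filter fun t => (t ∩ c • mset 8388611).Nonempty).card = k} = (c • ·) ''
      {S | S ∈ sextets ∧ (S.filter fun t => (t ∩ mset 8388611).Nonempty).card = k} from ?_,
      Set.ncard_image_of_injective _ (MulAction.injective c)]
    · exact sextets_ncard_filter fun l hl => by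
        rw [meetY_spec (sextSet_mem hl).2, Nat.beq_eq]
    ext S
    simp only [Set.mem_image, Set.mem_ofPred_eq]
    constructor
    · rintro ⟨hS, hk⟩
      refine ⟨c⁻¹ • S, ⟨smul_sextet (c⁻¹).2 hS, ?_⟩, smul_inv_smul c S⟩
      rwa [← meet_smul c, smul_inv_smul]
    · rintro ⟨T, ⟨hT, hk⟩, rfl⟩
      exact ⟨smul_sextet c.2 hT, by rw [meet_smul]; exact hk⟩
  have key : ∀ S ∈ sextets, ∃ i < 3, ∃ g : M24, g • c • mset 8388611 = c • mset 8388611 ∧
      g • c • sextSet (ySReps.getD i []) = S ∧
      (S.filter fun t => (t ∩ c • mset 8388611).Nonempty).card = [1, 2, 3].getD i 0 := by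
    intro S hS
    obtain ⟨l, hl, e⟩ := sextet_exists (smul_sextet (c⁻¹).2 hS)
    obtain ⟨i, hi, g, hg, eg⟩ := covB_spec (okFam_spec hF).1 hG hC l hl
    have hg' : g • mset 8388611 = mset 8388611 := by
      rw [show sextSet [8388611] = ({mset 8388611} : Finset (Finset GolayPt)) by simp [sextSet],
        stab_singleton] at hg
      exact MulAction.mem_stabilizer_iff.1 hg
    have hir : ySReps.getD i [] ∈ ySReps := by
      rw [List.getD_eq_getElem _ _ hi]; exact List.getElem_mem _
    have hS' : S = c • g • sextSet (ySReps.getD i []) := by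
      rw [eg, e]; exact (smul_inv_smul c S).symm
    refine ⟨i, by simpa [ySReps] using hi, c * g * c⁻¹, ?_, ?_, ?_⟩
    · rw [mul_smul, inv_smul_smul, mul_smul, hg']
    · rw [mul_smul, inv_smul_smul, mul_smul, hS']
    · rw [hS']
      conv_lhs => rw [← hg']
      rw [meet_smul, meet_smul, meetY_spec (okFam_spec (hR _ hir)).2, ← hM,
        List.getD_eq_getElem (l := ySReps.map meetY) _ (by simpa using hi), List.getElem_map,
        List.getD_eq_getElem _ _ hi]
  intro S S' hS hS' he
  obtain ⟨i, hi, g, g1, g2, g3⟩ := key S hS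
  obtain ⟨j, hj, k, k1, k2, k3⟩ := key S' hS'
  rw [g3, k3] at he
  have : i = j := by interval_cases i <;> interval_cases j <;> simp at he ⊢
  subst this
  refine ⟨(k * g⁻¹ : M24), (k * g⁻¹).2, ?_, ?_⟩
  · show (k * g⁻¹) • c • mset 8388611 = c • mset 8388611
    rw [mul_smul]
    conv_lhs => rw [← g1, inv_smul_smul]
    exact k1
  · show (k * g⁻¹) • S = S'
    rw [← g2, mul_smul, inv_smul_smul, k2]

end CfsgLib.Mathieu
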