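import Cfsg.Agent.Lib.Mathieu.TransvectionData
import Cfsg.Agent.Lib.Mathieu.BitMatrix
import Cfsg.Agent.Lib.Mathieu.OctInvolMore
import Mathlib.LinearAlgebra.Matrix.GeneralLinearGroup.Card
import Mathlib.LinearAlgebra.Matrix.Transvection
import Mathlib.LinearAlgebra.Matrix.SpecialLinearGroup

/-!
# The centraliser of an octad involution of `M24` as a transvection centraliser in `SL(5,2)`
-/

set_option autoImplicit false
set_option maxRecDepth 100000

namespace CfsgLib.Mathieu

open Cfsg CfsgLib.Golay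
open scoped Pointwise

attribute [-simp] List.getD_eq_getElem?_getD

/-- Permutations of the points paired with matrices. -/
abbrev PM : Type := Equiv.Perm GolayPt × Matrix (Fin 5) (Fin 5) (ZMod 2)

/-- Entry `i` of a pair of lists. -/
noncomputable def pairAt (els mats : List ℕ) (i : ℕ) : PM := (permOf (els.getD i 0), bitMat (mats.getD i 0))

/-- `z` encodes the product of the pairs `x` and `y`. -/
def prodB (x y z : ℕ × ℕ) : Bool :=
  valid x.1 && valid y.1 && valid z.1 && sameW [x.1, y.1] [z.1] && bitMulOK x.2 y.2 z.2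

theorem prodB_sound {x y z : ℕ × ℕ} (h : prodB x y z = true) :
    ((permOf x.1, bitMat x.2) : PM) * (permOf y.1, bitMat y.2) = (permOf z.1, bitMat z.2) := by
  simp only [prodB, Bool.and_eq_true] at h
  obtain ⟨⟨⟨⟨hx, hy⟩, hz⟩, hw⟩, hm⟩ := h
  have h1 := (sameW_iff (by simp [hx, hy]) (by simpa using hz)).1 hw
  simp only [List.map_cons, List.map_nil, List.prod_cons, List.prod_nil, mul_one] at h1
  rw [Prod.mk_mul_mk, h1, bitMulOK_sound hm]

/-- The checks on one of the two lists of pairs. -/
def tableB (els mats gens : List ℕ) (tab words : List (List ℕ)) (one : ℕ) : Bool :=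
  Nat.blt one els.length && sameW [els.getD one 0] [] && Nat.beq (mats.getD one 0) bitOne &&
  els.all valid && gens.all (fun g => Nat.blt g els.length) &&
  ((List.range gens.length).all fun k => (List.range els.length).all fun i =>
    Nat.blt ((tab.getD k []).getD i 0) els.length &&
    prodB (els.getD i 0, mats.getD i 0) (els.getD (gens.getD k 0) 0, mats.getD (gens.getD k 0) 0)
      (els.getD ((tab.getD k []).getD i 0) 0, mats.getD ((tab.getD k []).getD i 0) 0)) &&
  ((List.range els.length).all fun i =>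
    ((words.getD i []).all fun k => Nat.blt k gens.length) &&
    Nat.beq ((words.getD i []).foldl (fun j k => (tab.getD k []).getD j 0) one) i) &&
  ((List.range els.length).all fun i => (List.range els.length).all fun j =>
    Nat.beq i j || !sameW [els.getD i 0] [els.getD j 0])

/-- The pairs of the generators. -/
def genPairs (els mats gens : List ℕ) : Set PM := {p | ∃ g ∈ gens, p = pairAt els mats g}

theorem svTable_spec {els mats gens : List ℕ} {tab words : List (List ℕ)} {one : ℕ}
    (h : tableB els mats gens tab words one = true) :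
    (pairAt els mats one = 1 ∧ one < els.length) ∧
    (∀ i < els.length, pairAt els mats i ∈ Submonoid.closure (genPairs els mats gens)) ∧
    (∀ p ∈ Submonoid.closure (genPairs els mats gens), ∃ i < els.length, p = pairAt els mats i) ∧
    ∀ i < els.length, ∀ j < els.length, permOf (els.getD i 0) = permOf (els.getD j 0) → i = j := by
  simp only [tableB, Bool.and_eq_true, List.all_eq_true, List.mem_range, Bool.or_eq_true,
    Bool.not_eq_true', Nat.beq_eq] at h
  obtain ⟨⟨⟨⟨⟨⟨⟨h1, h2⟩, h3⟩, hv⟩, hg⟩, htab⟩, hw⟩, hnd⟩ := h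
  have lt' : ∀ {a b : ℕ}, Nat.blt a b = true → a < b := fun h => Nat.le_of_ble_eq_true h
  have vat : ∀ i < els.length, valid (els.getD i 0) = true := fun i hi => by
    rw [List.getD_eq_getElem?_getD, List.getElem?_eq_getElem hi, Option.getD_some]
    exact hv _ (List.getElem_mem hi)
  have hone : pairAt els mats one = 1 := by
    have e := (sameW_iff (by simpa using vat one (lt' h1)) (by simp)).1 h2
    simp only [List.map_cons, List.map_nil, List.prod_cons, List.prod_nil, mul_one] at e
    rw [pairAt, e, h3, bitMat_one]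
    rfl
  have hmul : ∀ k < gens.length, ∀ i < els.length,
      (tab.getD k []).getD i 0 < els.length ∧
      pairAt els mats i * pairAt els mats (gens.getD k 0) =
        pairAt els mats ((tab.getD k []).getD i 0) := by
    intro k hk i hi
    obtain ⟨l1, l2⟩ := htab k hk i hi
    have e := prodB_sound l2
    simp only at e
    refine ⟨lt' l1, ?_⟩
    rw [pairAt, pairAt, pairAt]
    exact e
  refine ⟨⟨hone, lt' h1⟩, fun i hi => ?_, fun p hp => ?_, fun i hi j hj e => ?_⟩
  · have key : ∀ w : List ℕ, (∀ k ∈ w, k < gens.length) → ∀ a < els.length,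
        pairAt els mats a ∈ Submonoid.closure (genPairs els mats gens) →
        w.foldl (fun j k => (tab.getD k []).getD j 0) a < els.length ∧
        pairAt els mats (w.foldl (fun j k => (tab.getD k []).getD j 0) a) ∈
          Submonoid.closure (genPairs els mats gens) := by
      intro w
      induction w with
      | nil => exact fun _ a ha hm => ⟨ha, hm⟩
      | cons k w ih =>
        intro hk a ha hm
        obtain ⟨l1, l2⟩ := hmul k (hk k List.mem_cons_self) a ha
        refine ih (fun x hx => hk x (List.mem_cons_of_mem _ hx)) _ l1 (l2 ▸ mul_mem hm ?_)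
        refine Submonoid.subset_closure ⟨_, ?_, rfl⟩
        rw [List.getD_eq_getElem?_getD, List.getElem?_eq_getElem (hk k List.mem_cons_self),
          Option.getD_some]
        exact List.getElem_mem _
    have := (key _ (fun k hk => lt' ((hw i hi).1 k hk)) one (lt' h1)
      (hone ▸ one_mem _)).2
    rwa [(hw i hi).2] at this
  · induction hp using Submonoid.closure_induction_right with
    | one => exact ⟨one, lt' h1, hone.symm⟩
    | mul_right x _ y hy ih =>
      obtain ⟨i, hi, rfl⟩ := ih
      obtain ⟨g, hgm, rfl⟩ := hy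
      obtain ⟨k, hk, rfl⟩ := List.mem_iff_getElem.1 hgm
      obtain ⟨l1, l2⟩ := hmul k hk i hi
      rw [List.getD_eq_getElem _ _ hk] at l2
      exact ⟨_, l1, l2⟩
  · rcases hnd i hi j hj with e' | e'
    · exact e'
    · rw [(sameW_iff (by simpa using vat i hi) (by simpa using vat j hj)).2 (by simpa using e)]
        at e'
      exact Bool.noConfusion e'

theorem svQ_ok : tableB oiQ svQMat svQGens svQTab svQWord svQOne = true := by decide +kernel
theorem svK_ok : tableB oiK svKMat svKGens svKTab svKWord svKOne = true := by decide +kernel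

/-- Conjugation of the first generators by the second. -/
def normB : Bool :=
  (List.range svKGens.length).all fun a => (List.range svQGens.length).all fun k =>
    Nat.blt ((svConj.getD a []).getD k 0) oiQ.length &&
    let kp := (oiK.getD (svKGens.getD a 0) 0, svKMat.getD (svKGens.getD a 0) 0)
    let qp := (oiQ.getD (svQGens.getD k 0) 0, svQMat.getD (svQGens.getD k 0) 0)
    let cp := (oiQ.getD ((svConj.getD a []).getD k 0) 0,
      svQMat.getD ((svConj.getD a []).getD k 0) 0)
    valid kp.1 && valid qp.1 && valid cp.1 && sameW [kp.1, qp.1] [cp.1, kp.1] &&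
      (List.range 5).all fun i => (List.range 5).all fun j =>
        bitEntry kp.2 qp.2 i j == bitEntry cp.2 kp.2 i j

theorem norm_ok : normB = true := by decide +kernel

attribute [local irreducible] oiQ oiK svQMat svKMat svQGens svKGens svQTab svKTab svQWord svKWord svConj

/-- The pairs over `oiQ0`. -/
def gQ : Submonoid PM := Submonoid.closure (genPairs oiQ svQMat svQGens)

/-- The pairs over `oiK0`. -/
def gK : Submonoid PM := Submonoid.closure (genPairs oiK svKMat svKGens)

theorem gen_move {a k : ℕ} (ha : a < svKGens.length) (hk : k < svQGens.length) :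
    ∃ c ∈ gQ, pairAt oiK svKMat (svKGens.getD a 0) * pairAt oiQ svQMat (svQGens.getD k 0) =
      c * pairAt oiK svKMat (svKGens.getD a 0) := by
  have h := norm_ok
  simp only [normB, List.all_eq_true, List.mem_range, Bool.and_eq_true, beq_iff_eq] at h
  obtain ⟨hlt, ⟨⟨⟨v1, v2⟩, v3⟩, hw⟩, hm⟩ := h a ha k hk
  refine ⟨_, (svTable_spec svQ_ok).2.1 _ (Nat.le_of_ble_eq_true hlt), ?_⟩
  have h1 := (sameW_iff (by simp [v1, v2]) (by simp [v3, v1])).1 hw
  simp only [List.map_cons, List.map_nil, List.prod_cons, List.prod_nil, mul_one] at h1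
  simp only [pairAt, Prod.mk_mul_mk, h1, Prod.mk.injEq, true_and]
  ext i j
  rw [Matrix.mul_apply, Matrix.mul_apply, Fin.sum_univ_five, Fin.sum_univ_five]
  have := congrArg b2z (hm i i.2 j j.2)
  simpa [bitMat, bitEntry, b2z_xor, b2z_and, add_assoc] using this

theorem move {k : PM} (hk : k ∈ gK) : ∀ {q : PM}, q ∈ gQ → ∃ q' ∈ gQ, k * q = q' * k := by
  induction hk using Submonoid.closure_induction_right with
  | one => exact fun {q} hq => ⟨q, hq, by rw [one_mul, mul_one]⟩
  | mul_right x _ y hy ih =>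
    intro q hq
    obtain ⟨g, hg, rfl⟩ := hy
    obtain ⟨a, ha, rfl⟩ := List.mem_iff_getElem.1 hg
    have e : svKGens[a] = svKGens.getD a 0 := by
      rw [List.getD_eq_getElem?_getD, List.getElem?_eq_getElem ha, Option.getD_some]
    rw [e]
    suffices h : ∀ q ∈ gQ, ∃ q' ∈ gQ, pairAt oiK svKMat (svKGens.getD a 0) * q =
        q' * pairAt oiK svKMat (svKGens.getD a 0) by
      obtain ⟨q', hq', e'⟩ := h q hq
      obtain ⟨q'', hq'', e''⟩ := ih hq'
      exact ⟨q'', hq'', by rw [mul_assoc, e', ← mul_assoc, e'', mul_assoc]⟩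
    intro q hq
    induction hq using Submonoid.closure_induction_right with
    | one => exact ⟨1, one_mem _, by rw [one_mul, mul_one]⟩
    | mul_right x _ y hy ihx =>
      obtain ⟨g, hg, rfl⟩ := hy
      obtain ⟨b, hb, rfl⟩ := List.mem_iff_getElem.1 hg
      obtain ⟨x', hx', ex⟩ := ihx
      obtain ⟨c, hc, ec⟩ := gen_move ha hb
      rw [show svQGens[b] = svQGens.getD b 0 by
        rw [List.getD_eq_getElem?_getD, List.getElem?_eq_getElem hb, Option.getD_some]]
      exact ⟨x' * c, mul_mem hx' hc, by rw [← mul_assoc, ex, mul_assoc, ec, mul_assoc]⟩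

/-- All pairs. -/
def gA : Submonoid PM where
  carrier := {p | ∃ q ∈ gQ, ∃ k ∈ gK, p = q * k}
  one_mem' := ⟨1, one_mem _, 1, one_mem _, (one_mul 1).symm⟩
  mul_mem' := by
    rintro _ _ ⟨q, hq, k, hk, rfl⟩ ⟨q₁, hq₁, k₁, hk₁, rfl⟩
    obtain ⟨q', hq', e⟩ := move hk hq₁
    exact ⟨q * q', mul_mem hq hq', k * k₁, mul_mem hk hk₁, by
      rw [mul_assoc, ← mul_assoc k, e, mul_assoc, mul_assoc]⟩

theorem oiQ_getD {i : ℕ} (hi : i < oiQ.length) : permOf (oiQ.getD i 0) ∈ oiQ0 := by
  rw [List.getD_eq_getElem?_getD, List.getElem?_eq_getElem hi, Option.getD_some]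
  exact oiQ_mem (List.getElem_mem hi)

theorem oiK_getD {i : ℕ} (hi : i < oiK.length) : permOf (oiK.getD i 0) ∈ oiK0 := by
  rw [List.getD_eq_getElem?_getD, List.getElem?_eq_getElem hi, Option.getD_some]
  exact oiK_mem (List.getElem_mem hi)

theorem gA_exists {σ : Equiv.Perm GolayPt} (h : σ ∈ oiC) : ∃ M, (σ, M) ∈ gA := by
  obtain ⟨x, hx, k, hk, rfl⟩ := oi_decomp h
  obtain ⟨i, hi, rfl⟩ := List.mem_iff_getElem.1 hx
  obtain ⟨j, hj, rfl⟩ := List.mem_iff_getElem.1 hk
  refine ⟨(pairAt oiQ svQMat i * pairAt oiK svKMat j).2, pairAt oiQ svQMat i,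
    (svTable_spec svQ_ok).2.1 i hi, pairAt oiK svKMat j, (svTable_spec svK_ok).2.1 j hj, ?_⟩
  simp [pairAt, List.getD_eq_getElem?_getD, List.getElem?_eq_getElem hi, List.getElem?_eq_getElem hj]

theorem gA_unique {σ : Equiv.Perm GolayPt} {M M' : Matrix (Fin 5) (Fin 5) (ZMod 2)}
    (h : (σ, M) ∈ gA) (h' : (σ, M') ∈ gA) : M = M' := by
  obtain ⟨q, hq, k, hk, e⟩ := h
  obtain ⟨q', hq', k', hk', e'⟩ := h'
  obtain ⟨i, hi, rfl⟩ := (svTable_spec svQ_ok).2.2.1 q hq
  obtain ⟨i', hi', rfl⟩ := (svTable_spec svQ_ok).2.2.1 q' hq'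
  obtain ⟨j, hj, rfl⟩ := (svTable_spec svK_ok).2.2.1 k hk
  obtain ⟨j', hj', rfl⟩ := (svTable_spec svK_ok).2.2.1 k' hk'
  simp only [pairAt, Prod.mk_mul_mk, Prod.mk.injEq] at e e'
  have e2 : (permOf (oiQ.getD i' 0))⁻¹ * permOf (oiQ.getD i 0) =
      permOf (oiK.getD j' 0) * (permOf (oiK.getD j 0))⁻¹ := by
    rw [eq_mul_inv_iff_mul_eq, mul_assoc, ← e.1, inv_mul_eq_iff_eq_mul]
    exact e'.1
  have e3 := oiQ0_inf_K0 (Subgroup.mul_mem _ (Subgroup.inv_mem _ (oiQ_getD hi')) (oiQ_getD hi))
    (e2 ▸ Subgroup.mul_mem _ (oiK_getD hj') (Subgroup.inv_mem _ (oiK_getD hj)))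
  obtain rfl := (svTable_spec svQ_ok).2.2.2 i' hi' i hi (inv_mul_eq_one.1 e3)
  rw [e2, mul_inv_eq_one] at e3
  obtain rfl := (svTable_spec svK_ok).2.2.2 j' hj' j hj e3
  rw [e.2, e'.2]

/-- The matrix of an element. -/
noncomputable def svMat (σ : oiC) : Matrix (Fin 5) (Fin 5) (ZMod 2) :=
  (gA_exists σ.2).choose

theorem svMat_spec (σ : oiC) : ((σ : Equiv.Perm GolayPt), svMat σ) ∈ gA :=
  (gA_exists σ.2).choose_spec

/-- The homomorphism to matrices. -/
noncomputable def svHom : oiC →* Matrix (Fin 5) (Fin 5) (ZMod 2) where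
  toFun := svMat
  map_one' := gA_unique (svMat_spec 1) (one_mem gA)
  map_mul' a b := gA_unique (svMat_spec (a * b)) (mul_mem (svMat_spec a) (svMat_spec b))

theorem svHom_det (σ : oiC) : (svHom σ).det = 1 := by
  have h : (svHom σ).det * (svHom σ⁻¹).det = 1 := by
    rw [← Matrix.det_mul, ← map_mul, mul_inv_cancel, map_one, Matrix.det_one]
  have key : ∀ x y : ZMod 2, x * y = 1 → x = 1 := by decide
  exact key _ _ h

/-- The homomorphism to `SL(5,2)`. -/
noncomputable def svSL : oiC →* Matrix.SpecialLinearGroup (Fin 5) (ZMod 2) where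
  toFun σ := ⟨svHom σ, svHom_det σ⟩
  map_one' := Subtype.ext (map_one svHom)
  map_mul' a b := Subtype.ext (map_mul svHom a b)

/-- The checks giving injectivity and the value at the involution. -/
def kerB : Bool :=
  ((List.range oiK.length).all fun j => Nat.beq j svKOne ||
    (List.range oiQ.length).all fun i =>
      !((List.range 25).all fun b => (svKMat.getD j 0).testBit b == (svQMat.getD i 0).testBit b)) &&
  ((List.range oiQ.length).all fun i => Nat.beq i svQOne ||
    !((List.range 25).all fun b => (svQMat.getD i 0).testBit b == bitOne.testBit b)) &&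
  Nat.blt svZ oiQ.length && sameW [oiQ.getD svZ 0] [tOct] && Nat.beq (svQMat.getD svZ 0) 17043523

theorem ker_ok : kerB = true := by decide +kernel

theorem svHom_value {σ : oiC} {i j : ℕ} (hi : i < oiQ.length) (hj : j < oiK.length)
    (h : (σ : Equiv.Perm GolayPt) = permOf (oiQ.getD i 0) * permOf (oiK.getD j 0)) :
    svHom σ = bitMat (svQMat.getD i 0) * bitMat (svKMat.getD j 0) :=
  gA_unique (svMat_spec σ) ⟨pairAt oiQ svQMat i, (svTable_spec svQ_ok).2.1 i hi,
    pairAt oiK svKMat j, (svTable_spec svK_ok).2.1 j hj, by simp [pairAt, h]⟩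

theorem svHom_injective : Function.Injective svHom := by
  rw [injective_iff_map_eq_one]
  intro σ hσ
  obtain ⟨q, hq, k, hk, e⟩ := svMat_spec σ
  obtain ⟨i, hi, rfl⟩ := (svTable_spec svQ_ok).2.2.1 q hq
  obtain ⟨j, hj, rfl⟩ := (svTable_spec svK_ok).2.2.1 k hk
  obtain ⟨⟨oneQ, hQ1⟩, -⟩ := svTable_spec svQ_ok
  obtain ⟨⟨oneK, hK1⟩, -⟩ := svTable_spec svK_ok
  simp only [pairAt, Prod.mk_eq_one] at oneQ oneK
  simp only [pairAt, Prod.mk_mul_mk, Prod.mk.injEq] at e
  have hM : bitMat (svQMat.getD i 0) * bitMat (svKMat.getD j 0) = 1 := e.2 ▸ hσ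
  have hker := ker_ok
  simp only [kerB, Bool.and_eq_true, List.all_eq_true, List.mem_range, Bool.or_eq_true,
    Bool.not_eq_true', Nat.beq_eq] at hker
  obtain ⟨⟨⟨⟨hkK, hkQ⟩, -⟩, -⟩, -⟩ := hker
  -- the matrix of `k` is the matrix of the inverse of `q`
  obtain ⟨i', hi', ei'⟩ : ∃ i' < oiQ.length,
      permOf (oiQ.getD i' 0) = (permOf (oiQ.getD i 0))⁻¹ := by
    obtain ⟨x, hx, ex⟩ := oiQ0_exists (Subgroup.inv_mem _ (oiQ_getD hi))
    obtain ⟨i', hi', rfl⟩ := List.mem_iff_getElem.1 hx
    refine ⟨i', hi', ?_⟩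
    rw [List.getD_eq_getElem?_getD, List.getElem?_eq_getElem hi', Option.getD_some, ex]
  let s : oiC := ⟨permOf (oiQ.getD i 0), (oiQ_getD hi).1⟩
  have hs : svHom s = bitMat (svQMat.getD i 0) := by
    rw [svHom_value (σ := s) hi hK1 (by simp [s, oneK.1]), oneK.2, mul_one]
  have hs' : svHom s⁻¹ = bitMat (svQMat.getD i' 0) := by
    rw [svHom_value (σ := s⁻¹) hi' hK1 (by simp [s, oneK.1, ei']), oneK.2, mul_one]
  have hkm : bitMat (svKMat.getD j 0) = bitMat (svQMat.getD i' 0) := by
    have h1 := congrArg (bitMat (svQMat.getD i' 0) * ·) hM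
    simp only [← mul_assoc, mul_one] at h1
    rwa [← hs', ← hs, ← map_mul, inv_mul_cancel, map_one, one_mul, hs'] at h1
  obtain rfl : j = svKOne := (hkK j hj).resolve_right fun h => by
    have := h i' hi'
    rw [bitMat_inj_check hkm] at this
    exact Bool.noConfusion this
  rw [oneK.2, mul_one] at hM
  obtain rfl : i = svQOne := (hkQ i hi).resolve_right fun h => by
    rw [bitMat_inj_check (hM.trans bitMat_one.symm)] at h
    exact Bool.noConfusion h
  exact Subtype.ext (by rw [e.1, oneQ.1, oneK.1, mul_one]; rfl)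

theorem oiT_value (hT : oiT ∈ oiC) : svHom ⟨oiT, hT⟩ =
    Matrix.transvection 0 1 1 := by
  have hker := ker_ok
  simp only [kerB, Bool.and_eq_true, Nat.beq_eq] at hker
  obtain ⟨⟨⟨-, hz⟩, hw⟩, hv⟩ := hker
  obtain ⟨⟨oneK, hK1⟩, -⟩ := svTable_spec svK_ok
  simp only [pairAt, Prod.mk_eq_one] at oneK
  have hzl : svZ < oiQ.length := Nat.le_of_ble_eq_true hz
  have e : permOf (oiQ.getD svZ 0) = oiT := by
    have := (sameW_iff (by simpa using oiQ_valid (by
      rw [List.getD_eq_getElem?_getD, List.getElem?_eq_getElem hzl, Option.getD_some]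
      exact List.getElem_mem hzl)) (by simp [tOct_valid])).1 hw
    simpa [oiT] using this
  rw [svHom_value hzl hK1 (by simp [e, oneK.1]), oneK.2, mul_one, hv]
  decide +kernel

/-- Matrices commuting with the transvection, by their free entries. -/
theorem card_transvection_centralizer_le
    (s : Matrix.SpecialLinearGroup (Fin 5) (ZMod 2))
    (hs : (s : Matrix (Fin 5) (Fin 5) (ZMod 2)) = Matrix.transvection 0 1 1) :
    Nat.card (Subgroup.centralizer
      ({s} : Set (Matrix.SpecialLinearGroup (Fin 5) (ZMod 2)))) ≤ 21504 := by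
  classical
  set D := Subgroup.centralizer ({s} : Set (Matrix.SpecialLinearGroup (Fin 5) (ZMod 2)))
  have hT : Matrix.transvection (0 : Fin 5) 1 (1 : ZMod 2) = bitMat 17043523 := by decide +kernel
  have shape : ∀ g : D, ∀ A : Matrix (Fin 5) (Fin 5) (ZMod 2),
      A = ((g : Matrix.SpecialLinearGroup (Fin 5) (ZMod 2)) : Matrix (Fin 5) (Fin 5) (ZMod 2)) →
      (∀ i, i ≠ 0 → A i 0 = 0) ∧ (∀ j, j ≠ 1 → A 1 j = 0) ∧ A 0 0 = 1 ∧ A 1 1 = 1 := by
    intro g A hA
    have hc := congrArg (fun x : Matrix.SpecialLinearGroup (Fin 5) (ZMod 2) =>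
      (x : Matrix (Fin 5) (Fin 5) (ZMod 2))) (Subgroup.mem_centralizer_singleton_iff.1 g.2)
    simp only [Matrix.SpecialLinearGroup.coe_mul, hs, ← hA] at hc
    have col : ∀ i, i ≠ 0 → A i 0 = 0 := fun i hi => by
      have := congrFun (congrFun hc i) 1
      rw [Matrix.mul_transvection_apply_same, Matrix.transvection_mul_apply_of_ne _ _ _ _ hi] at this
      simpa using this
    have row : ∀ j, j ≠ 1 → A 1 j = 0 := fun j hj => by
      have := congrFun (congrFun hc 0) j
      rw [Matrix.mul_transvection_apply_of_ne _ _ _ _ hj, Matrix.transvection_mul_apply_same] at this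
      simpa using this
    have h00 : A 0 0 = 1 := by
      have hd : A.det = 1 := hA ▸ (g : Matrix.SpecialLinearGroup (Fin 5) (ZMod 2)).2
      by_contra h
      have h0 : A 0 0 = 0 := (by decide : ∀ x : ZMod 2, x ≠ 1 → x = 0) _ h
      rw [Matrix.det_eq_zero_of_column_eq_zero 0 fun i => by
        by_cases hi : i = 0
        · rw [hi, h0]
        · exact col i hi] at hd
      exact zero_ne_one hd
    refine ⟨col, row, h00, ?_⟩
    have := congrFun (congrFun hc 0) 1
    rw [Matrix.mul_transvection_apply_same, Matrix.transvection_mul_apply_same] at this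
    simp only [h00, one_mul] at this
    exact (add_left_cancel this).symm
  let low : D → Matrix (Fin 3) (Fin 3) (ZMod 2) := fun g i j =>
    ((g : Matrix.SpecialLinearGroup (Fin 5) (ZMod 2)) : Matrix (Fin 5) (Fin 5) (ZMod 2))
      (Fin.natAdd 2 i) (Fin.natAdd 2 j)
  have low_mul : ∀ a b : D, low (a * b) = low a * low b := by
    intro a b
    ext i j
    have ha := (shape a _ rfl).1 (Fin.natAdd 2 i) (Fin.ne_of_val_ne (by simp))
    have hb := (shape b _ rfl).2.1 (Fin.natAdd 2 j) (Fin.ne_of_val_ne (by simp; omega))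
    simp only [low, Subgroup.coe_mul, Matrix.SpecialLinearGroup.coe_mul, Matrix.mul_apply,
      Fin.sum_univ_five, Fin.sum_univ_three]
    rw [ha, hb]
    show _ = (low a * low b) i j
    rw [Matrix.mul_apply, Fin.sum_univ_three]
    simp [low, Fin.natAdd]
  have low_one : low 1 = 1 := by
    ext i j
    simp [low, Matrix.one_apply, Fin.ext_iff]
  let f : D → ZMod 2 × (Fin 3 → ZMod 2) × (Fin 3 → ZMod 2) ×
      Matrix.GeneralLinearGroup (Fin 3) (ZMod 2) := fun g =>
    let A := ((g : Matrix.SpecialLinearGroup (Fin 5) (ZMod 2)) : Matrix (Fin 5) (Fin 5) (ZMod 2))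
    (A 0 1, fun j => A 0 (Fin.natAdd 2 j), fun i => A (Fin.natAdd 2 i) 1,
      ⟨low g, low g⁻¹, by rw [← low_mul, mul_inv_cancel, low_one],
        by rw [← low_mul, inv_mul_cancel, low_one]⟩)
  have hf : Function.Injective f := by
    intro a b h
    simp only [f, Prod.mk.injEq, Units.ext_iff] at h
    obtain ⟨h1, h2, h3, h4⟩ := h
    apply Subtype.ext
    apply Matrix.SpecialLinearGroup.ext
    intro i j
    obtain ⟨ca, ra, xa, ya⟩ := shape a _ rfl
    obtain ⟨cb, rb, xb, yb⟩ := shape b _ rfl
    have h2' := fun k => congrFun h2 k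
    have h3' := fun k => congrFun h3 k
    have h4' := fun k l => congrFun (congrFun h4 k) l
    fin_cases i <;> fin_cases j
    all_goals first
      | exact xa.trans xb.symm
      | exact ya.trans yb.symm
      | exact (ca _ (by decide)).trans (cb _ (by decide)).symm
      | exact (ra _ (by decide)).trans (rb _ (by decide)).symm
      | exact h1
      | exact h2' 0
      | exact h2' 1
      | exact h2' 2
      | exact h3' 0
      | exact h3' 1
      | exact h3' 2
      | exact h4' 0 0
      | exact h4' 0 1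
      | exact h4' 0 2
      | exact h4' 1 0
      | exact h4' 1 1
      | exact h4' 1 2
      | exact h4' 2 0
      | exact h4' 2 1
      | exact h4' 2 2
  refine (Nat.card_le_card_of_injective f hf).trans ?_
  rw [Nat.card_prod, Nat.card_prod, Nat.card_prod, Matrix.card_GL_field]
  simp [Fin.prod_univ_three]

end CfsgLib.Mathieu
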